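import Mathlib
import Cfsg.Agent.T3.LocB1

/-!
Recognition of `L₄(3)` and its parabolic subgroup `3³ : SL₃(3)` from the centraliser of a 3-central element: definitions
(see `stubs/Cfsg/Agent/A43/PLAN.md`).
-/

set_option autoImplicit false

namespace Cfsg.Agent.A43

open Cfsg.Agent.Spor Cfsg.Agent.Rec Cfsg.Agent.Inv.Fz Cfsg.Agent.T16 Cfsg.Agent.T3 Cfsg.Agent.T3.LB Subgroup

universe u

abbrev SL4 : Type := Matrix.SpecialLinearGroup (Fin 4) (ZMod 3)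
abbrev SL3 : Type := Matrix.SpecialLinearGroup (Fin 3) (ZMod 3)
abbrev PSL4 : Type := Matrix.ProjectiveSpecialLinearGroup (Fin 4) (ZMod 3)

/-- Matrices with last row `(0, 0, 0, 1)`: the group `3³ : SL₃(3)`. -/
def PP : Subgroup SL4 where
  carrier := {g | ∀ j, g 3 j = if j = 3 then 1 else 0}
  mul_mem' := by
    intro a b ha hb j
    simp only [Matrix.SpecialLinearGroup.coe_mul, Matrix.mul_apply, Fin.sum_univ_four, ha 0, ha 1, ha 2, ha 3, hb j]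
    simp
  one_mem' := fun j => by simp [Matrix.one_apply, eq_comm]
  inv_mem' := by
    intro a ha j
    have h := congrFun (congrFun (congrArg Subtype.val (mul_inv_cancel a)) 3) j
    simp only [Matrix.SpecialLinearGroup.coe_mul, Matrix.mul_apply, Fin.sum_univ_four, ha 0, ha 1, ha 2, ha 3] at h
    simpa [Matrix.one_apply, eq_comm] using h

theorem mem_PP {g : SL4} : g ∈ PP ↔ ∀ j, g 3 j = if j = 3 then 1 else 0 := Iff.rfl

/-- The element of `PP` with the given first three rows. -/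
def mk (a b c d e f g h i j k l : ZMod 3) (hd : a * f * k - a * g * j - b * e * k + b * g * i + c * e * j - c * f * i = 1) :
    PP :=
  ⟨⟨!![a, b, c, d; e, f, g, h; i, j, k, l; 0, 0, 0, 1], Eq.trans (by
    simp [Matrix.det_succ_row_zero, Fin.sum_univ_succ, Fin.succAbove]; ring) hd⟩, fun j => by fin_cases j <;> rfl⟩

theorem mk_coe (a b c d e f g h i j k l : ZMod 3) (hd) : ((mk a b c d e f g h i j k l hd : SL4) : Matrix _ _ _) =
    !![a, b, c, d; e, f, g, h; i, j, k, l; 0, 0, 0, 1] := rfl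

def X12 : PP := mk 1 1 0 0 0 1 0 0 0 0 1 0 (by decide)
def X13 : PP := mk 1 0 1 0 0 1 0 0 0 0 1 0 (by decide)
def X14 : PP := mk 1 0 0 1 0 1 0 0 0 0 1 0 (by decide)
def X23 : PP := mk 1 0 0 0 0 1 1 0 0 0 1 0 (by decide)
def X24 : PP := mk 1 0 0 0 0 1 0 1 0 0 1 0 (by decide)
def X34 : PP := mk 1 0 0 0 0 1 0 0 0 0 1 1 (by decide)
def R1 : PP := mk 1 0 0 0 0 2 0 0 0 0 2 0 (by decide)
def R2 : PP := mk 2 0 0 0 0 1 0 0 0 0 2 0 (by decide)
def R3 : PP := mk 2 0 0 0 0 2 0 0 0 0 1 0 (by decide)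
def N1 : PP := mk 0 1 0 0 2 0 0 0 0 0 1 0 (by decide)
def N2 : PP := mk 1 0 0 0 0 0 1 0 0 2 0 0 (by decide)

variable {G : Type u} [Group G]

/-- `C(a)` has shape `3^(1+4) . SL₂(3)`, and the central involution inverts `Q / ⟨a⟩`. -/
structure H0 (a : G) where
  ψ : centralizer ({a} : Set G) →* S3
  ex : Ex a
  exp : ∀ q ∈ Q3 a, q ^ 3 = 1
  surj : Function.Surjective ψ
  ker : ∀ g, ψ g = 1 ↔ (g : G) ∈ Q3 a
  neg : ∀ g, ψ g = -1 → ∀ q ∈ Q3 a, Iz a g q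

/-- The pair `Q3 a`, `Q3 y`. -/
structure H1 (a y : G) extends H0 a where
  r : centralizer ({a} : Set G)
  u : centralizer ({a} : Set G)
  s : G
  w : G
  yQ : y ∈ Q3 a
  yz : y ∉ zpowers a
  yy : y ∈ Q3 y
  card : Nat.card (Q3 a ⊓ Q3 y : Subgroup G) = 27
  aA : a ∈ Q3 y
  comm : ∀ x ∈ Q3 a ⊓ Q3 y, ∀ x' ∈ Q3 a ⊓ Q3 y, x * x' = x' * x
  r2 : (r : G) * r = 1
  rn : ψ r = -1
  ry : r * y * (r : G)⁻¹ = y⁻¹
  u3 : (u : G) ^ 3 = 1
  uQ : (u : G) ∉ Q3 a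
  ur : (u : G) * r = r * u
  wA : w ∈ Q3 a ⊓ Q3 y
  uw : u * w * (u : G)⁻¹ = w * y
  sa : s * a * s⁻¹ = a⁻¹
  sy : s * y * s⁻¹ = y⁻¹
  sw : s * w * s⁻¹ * w⁻¹ ∈ clos [a, y]
  uy : (u : G) * y = y * u
  /-- `a` is moved inside `Q3 a ⊓ Q3 y` by `Q3 y`. -/
  mv : ∃ g ∈ normalizer ((Q3 a ⊓ Q3 y : Subgroup G) : Set G), g * a * g⁻¹ = a * y

/-- Coordinate vectors. -/
abbrev V4 : Type := Fin 4 → ZMod 3

/-- Coordinates on `Q3 a / ⟨a⟩`. -/
structure Co {a : G} (h : H0 a) where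
  co : G → V4
  ω : V4 →ₗ[ZMod 3] V4 →ₗ[ZMod 3] ZMod 3
  ρ : S3 →* Module.End (ZMod 3) V4
  mul : ∀ p ∈ Q3 a, ∀ q ∈ Q3 a, co (p * q) = co p + co q
  zero : ∀ q ∈ Q3 a, co q = 0 ↔ q ∈ zpowers a
  surj : ∀ v, ∃ q ∈ Q3 a, co q = v
  hom : ∀ p ∈ Q3 a, ∀ q ∈ Q3 a, ω (co p) (co q) = om a p q
  act : ∀ g : centralizer ({a} : Set G), ∀ q ∈ Q3 a, co (g * q * (g : G)⁻¹) = ρ (h.ψ g) (co q)
  alt : ∀ x, ω x x = 0
  nd : ∀ x, (∀ y, ω x y = 0) → x = 0
  inv : ∀ g x y, ω (ρ g x) (ρ g y) = ω x y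
  neg : ∀ x, ρ (-1) x = -x
  anti : ∀ s, s * a * s⁻¹ = a⁻¹ → ∃ σ : Module.End (ZMod 3) V4, (∀ q ∈ Q3 a, co (s * q * s⁻¹) = σ (co q)) ∧
    ∀ x y, ω (σ x) (σ y) = -ω x y

/-- The module is the sum of two totally isotropic natural modules with bases `e, i e` and `f, i f`. -/
structure Md (ω : V4 →ₗ[ZMod 3] V4 →ₗ[ZMod 3] ZMod 3) (ρ : S3 →* Module.End (ZMod 3) V4) (t i : S3) (e f : V4) : Prop where
  ii : i * i = -1
  gen : clos [i, t] = ⊤
  te : ρ t e = e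
  tf : ρ t f = f
  tie : ρ t (ρ i e) = ρ i e + e
  tif : ρ t (ρ i f) = ρ i f + f
  ef : ω e f = 0
  eie : ω e (ρ i e) = 0
  fif : ω f (ρ i f) = 0
  fie : ω f (ρ i e) = 1
  span : ∀ x, ∃ a b c d : ZMod 3, x = a • e + b • ρ i e + c • f + d • ρ i f
  ind : ∀ a b c d : ZMod 3, a • e + b • ρ i e + c • f + d • ρ i f = 0 → a = 0 ∧ b = 0 ∧ c = 0 ∧ d = 0
  stab : ∀ g, ρ g e = e → g = 1 ∨ g = t ∨ g = t⁻¹

/-- The normaliser of `A` has shape `3³ : SL₃(3)`. -/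
structure H2 (a : G) (A U : Subgroup G) : Prop where
  mem : a ∈ A
  ne : a ≠ 1
  card : Nat.card A = 27
  exp : ∀ x ∈ A, x ^ 3 = 1
  comm : ∀ x ∈ A, ∀ y ∈ A, x * y = y * x
  cA : centralizer (A : Set G) ≤ A
  nA : centralizer {a} ≤ normalizer (A : Set G)
  trans : ∀ x ∈ A, x ≠ 1 → ∃ g ∈ normalizer (A : Set G), g * a * g⁻¹ = x
  cardC : Nat.card (centralizer ({a} : Set G)) = 5832
  U_le : U ≤ normalizer (A : Set G)
  U_inf : U ⊓ A = ⊥
  cardU : Nat.card U = 27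

/-- A conjugate of `a^±` in `Q3 a` commutes with its conjugates under `C(a)`. -/
def Wq (a : G) : Prop := ∀ y ∈ Q3 a, ZE a y → ∀ g, g * a = a * g → y * (g * y * g⁻¹) = g * y * g⁻¹ * y

/-- The result of the local analysis. -/
structure Lo (G : Type u) [Group G] where
  φ : PP →* G
  inj : Function.Injective φ
  cardC : Nat.card (centralizer ({φ X14} : Set G)) = 5832
  rng : φ.range = normalizer (clos [φ X14, φ X24, φ X34] : Set G)
  wq : Wq (φ X14)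

namespace Lo

variable (s : Lo G)

def x12 : G := s.φ X12
def x13 : G := s.φ X13
/-- `x₁₄`, 3-central. -/
def z : G := s.φ X14
/-- `x₂₃` -/
def u : G := s.φ X23
def x24 : G := s.φ X24
def x34 : G := s.φ X34
/-- `diag(1,-1,-1,1)` -/
def r : G := s.φ R1
/-- `diag(-1,1,-1,1)` -/
def r2 : G := s.φ R2
/-- `diag(-1,-1,1,1)` -/
def k : G := s.φ R3
def n1 : G := s.φ N1
def n2 : G := s.φ N2

/-- The letters. -/
abbrev e : List G := [s.x12, s.x13, s.z, s.u, s.x24, s.x34, s.r, s.r2, s.k, s.n1, s.n2]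
/-- The parabolic subgroup, order 151632. -/
def M : Subgroup G := clos [s.x12, s.u, s.x34, s.n1, s.n2]
/-- The centraliser of `z`, order 5832. -/
def C : Subgroup G := clos [s.x12, s.u, s.x34, s.n2]
/-- The Sylow 3-subgroup, order 729. -/
def S : Subgroup G := clos [s.x12, s.u, s.x34]
/-- Extraspecial of order 243. -/
def Q : Subgroup G := clos [s.x12, s.x13, s.x24, s.x34]
/-- The Thompson subgroup, order 81. -/
def J : Subgroup G := clos [s.x13, s.z, s.u, s.x24]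
/-- The radical of `M`, order 27. -/
def A : Subgroup G := clos [s.z, s.x24, s.x34]
/-- The other normal subgroup of order 27 of `C`. -/
def A2 : Subgroup G := clos [s.z, s.x12, s.x13]
/-- `C_J(r)`, order 9. -/
def B : Subgroup G := clos [s.u, s.z]
/-- `A ∩ J`, order 9. -/
def E1 : Subgroup G := clos [s.z, s.x24]
/-- `C_M(r)`, order 144. -/
def KM : Subgroup G := clos [s.z, s.u, s.n2, s.k]
/-- `SL₂(3) × 3` normalising `J`, order 72. -/
def W : Subgroup G := clos [s.x12, s.n1, s.x34]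
/-- `J ∩ Q`, order 27. -/
def Z2 : Subgroup G := clos [s.x13, s.z, s.x24]
/-- `SL₂(3)` in the middle block, order 24. -/
def F : Subgroup G := clos [s.u, s.n2]
/-- Its quaternion subgroup. -/
def R8 : Subgroup G := clos [s.n2, s.u * s.n2 * s.u⁻¹]
/-- `N_M(B) ∩ C(r)`, order 36. -/
def NB : Subgroup G := clos [s.u, s.z, s.r, s.k]
/-- `C_S(x₁₃)`, order 243. -/
def T : Subgroup G := clos [s.x12, s.u, s.x24]
/-- The focal subgroup of `T`, order 81. -/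
def E : Subgroup G := clos [s.x12, s.u, s.z]
/-- Semidihedral of order 16. -/
def P : Subgroup G := clos [s.k * s.u * s.n2 * s.u⁻¹ * s.n2⁻¹, s.k]

/-- An involution interchanging `u` and `z`. -/
structure Sw (t : G) : Prop where
  t2 : t * t = 1
  tr : t * s.r = s.r * t
  tk : t * s.k = s.k * t
  tu : t * s.u * t⁻¹ = s.z

end Lo

end Cfsg.Agent.A43
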