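import Mathlib
import Cfsg.Agent.A43.Defs
import Cfsg.Agent.A43.DataC
import Cfsg.Agent.Spor.NM.Struct

/-!
Codes for the parabolic subgroup, and the first facts about its embedding.
-/

set_option autoImplicit false
set_option synthInstance.maxSize 100000
set_option synthInstance.maxHeartbeats 1000000
set_option maxRecDepth 100000
set_option exponentiation.threshold 100000
set_option linter.unusedSectionVars false

namespace Cfsg.Agent.A43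

open Cfsg.Agent.Spor Cfsg.Agent.Rec Cfsg.Agent.Inv.Fz Cfsg.Agent.T16 Cfsg.Agent.T3 Cfsg.Agent.T3.LB Subgroup

universe u

/-- The inclusion in the general linear group. -/
def ι : PP →* GL (Fin 4) (ZMod 3) := Matrix.SpecialLinearGroup.toGL.comp PP.subtype

theorem ι_inj : Function.Injective ι := Matrix.SpecialLinearGroup.toGL_injective.comp PP.subtype_injective

/-- Codes for invertible matrices. -/
noncomputable def C0 : Cod AR (GL (Fin 4) (ZMod 3)) :=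
  pairCod (NM.F3x4.spec.model (Equiv.refl _)) (matSpec_lt _ _) AR_ok

theorem rep0 {c : ℕ} {X : PP} (h1 : AR_v c = true) (h2 : NM.F3x4.ent (Nat.land c (2 ^ 128 - 1)) = true)
    (h3 : ((X : SL4) : Matrix (Fin 4) (Fin 4) (ZMod 3)) =
      NM.dec (Equiv.refl _) 8 (fun x => (x : ZMod 3)) (Nat.land c (2 ^ 128 - 1))) : C0.Rep c (ι X) := by
  have h := rep_pair (NM.F3x4.spec.model (Equiv.refl (Fin 4))) (matSpec_lt _ _) AR_ok h1
  exact ⟨h.1, h.2.trans (NM.F3x4.spec.of_coe (Equiv.refl (Fin 4)) (g := ι X) h2 h3).2⟩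

variable {G : Type u} [Group G]

namespace Lo

variable (s : Lo G)

/-- Codes for the elements of the parabolic subgroup. -/
noncomputable def cod : Cod AR G :=
  C0.map ι.range (s.φ.comp (MonoidHom.ofInjective ι_inj).symm.toMonoidHom)
    (s.inj.comp (MonoidHom.ofInjective ι_inj).symm.injective)

theorem rep1 {c : ℕ} {X : PP} (h : C0.Rep c (ι X)) : s.cod.Rep c (s.φ X) := by
  have h1 := h.map (s.φ.comp (MonoidHom.ofInjective ι_inj).symm.toMonoidHom)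
    (s.inj.comp (MonoidHom.ofInjective ι_inj).symm.injective) ⟨X, rfl⟩
  rwa [show (s.φ.comp (MonoidHom.ofInjective ι_inj).symm.toMonoidHom) ⟨ι X, X, rfl⟩ = s.φ X from
    congrArg s.φ ((MonoidHom.ofInjective ι_inj).symm_apply_apply X)] at h1

theorem rep : s.cod.RepL cX s.e := by
  have h : ∀ {c : ℕ} {X : PP}, AR_v c = true ∧ NM.F3x4.ent (Nat.land c (2 ^ 128 - 1)) = true ∧
      ((X : SL4) : Matrix (Fin 4) (Fin 4) (ZMod 3)) =
        NM.dec (Equiv.refl _) 8 (fun x => (x : ZMod 3)) (Nat.land c (2 ^ 128 - 1)) → s.cod.Rep c (s.φ X) :=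
    fun h => s.rep1 (rep0 h.1 h.2.1 h.2.2)
  exact (h (by decide +kernel)).cons <| (h (by decide +kernel)).cons <| (h (by decide +kernel)).cons <|
    (h (by decide +kernel)).cons <| (h (by decide +kernel)).cons <| (h (by decide +kernel)).cons <|
    (h (by decide +kernel)).cons <| (h (by decide +kernel)).cons <| (h (by decide +kernel)).cons <|
    (h (by decide +kernel)).cons <| (h (by decide +kernel)).cons Cod.repL_nil

theorem gC : s.cod.Lists tC_t.dom s.C ∧ Nat.card s.C = 5832 := (s.rep.pick [0, 3, 5, 10]).gen tC_ok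
theorem gS : s.cod.Lists tS_t.dom s.S ∧ Nat.card s.S = 729 := (s.rep.pick [0, 3, 5]).gen tS_ok
theorem gQ : s.cod.Lists tQ_t.dom s.Q ∧ Nat.card s.Q = 243 := (s.rep.pick [0, 1, 4, 5]).gen tQ_ok
theorem gJ : s.cod.Lists tJ_t.dom s.J ∧ Nat.card s.J = 81 := (s.rep.pick [1, 2, 3, 4]).gen tJ_ok
theorem gA : s.cod.Lists tA_t.dom s.A ∧ Nat.card s.A = 27 := (s.rep.pick [2, 4, 5]).gen tA_ok
theorem gA2 : s.cod.Lists tA2_t.dom s.A2 ∧ Nat.card s.A2 = 27 := (s.rep.pick [2, 0, 1]).gen tA2_ok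
theorem gB : s.cod.Lists tB_t.dom s.B ∧ Nat.card s.B = 9 := (s.rep.pick [3, 2]).gen tB_ok
theorem gE1 : s.cod.Lists tE1_t.dom s.E1 ∧ Nat.card s.E1 = 9 := (s.rep.pick [2, 4]).gen tE1_ok
theorem gKM : s.cod.Lists tKM_t.dom s.KM ∧ Nat.card s.KM = 144 := (s.rep.pick [2, 3, 10, 8]).gen tKM_ok
theorem gW : s.cod.Lists tW_t.dom s.W ∧ Nat.card s.W = 72 := (s.rep.pick [0, 9, 5]).gen tW_ok
theorem gZ2 : s.cod.Lists tZ2_t.dom s.Z2 ∧ Nat.card s.Z2 = 27 := (s.rep.pick [1, 2, 4]).gen tZ2_ok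
theorem gF : s.cod.Lists tF_t.dom s.F ∧ Nat.card s.F = 24 := (s.rep.pick [3, 10]).gen tF_ok
theorem gR8 : s.cod.Lists tR8_t.dom s.R8 ∧ Nat.card s.R8 = 8 :=
  ((s.rep.nth 10).cons <| (s.rep.term _ (by decide +kernel)).cons Cod.repL_nil).gen tR8_ok
theorem gNB : s.cod.Lists tNB_t.dom s.NB ∧ Nat.card s.NB = 36 := (s.rep.pick [3, 2, 6, 8]).gen tNB_ok
theorem gT : s.cod.Lists tT_t.dom s.T ∧ Nat.card s.T = 243 := (s.rep.pick [0, 3, 4]).gen tT_ok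
theorem gE : s.cod.Lists tE_t.dom s.E ∧ Nat.card s.E = 81 := (s.rep.pick [0, 3, 2]).gen tE_ok
theorem gP : s.cod.Lists tP_t.dom s.P ∧ Nat.card s.P = 16 :=
  ((s.rep.term _ (by decide +kernel)).cons <| (s.rep.nth 8).cons Cod.repL_nil).gen tP_ok
theorem gZ : s.cod.Lists oZ_t.dom (cls [s.x12, s.u, s.x34, s.n1, s.n2] s.z) ∧
    (cls [s.x12, s.u, s.x34, s.n1, s.n2] s.z).ncard = 26 := (s.rep.pick [0, 3, 5, 9, 10]).orb (s.rep.nth 2) oZ_ok

/-- The listed subgroups: use `s.hL.decide s.rep (by decide +kernel)`. -/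
theorem hL : s.cod.ListsL [tC_t.dom, tS_t.dom, tQ_t.dom, tJ_t.dom, tA_t.dom, tA2_t.dom, tB_t.dom, tE1_t.dom, tKM_t.dom,
      tW_t.dom, tZ2_t.dom, tF_t.dom, tR8_t.dom, tNB_t.dom, tT_t.dom, tE_t.dom, tP_t.dom]
    [s.C, s.S, s.Q, s.J, s.A, s.A2, s.B, s.E1, s.KM, s.W, s.Z2, s.F, s.R8, s.NB, s.T, s.E, s.P] :=
  s.gC.1.cons <| s.gS.1.cons <| s.gQ.1.cons <| s.gJ.1.cons <| s.gA.1.cons <| s.gA2.1.cons <| s.gB.1.cons <|
    s.gE1.1.cons <| s.gKM.1.cons <| s.gW.1.cons <| s.gZ2.1.cons <| s.gF.1.cons <| s.gR8.1.cons <| s.gNB.1.cons <|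
    s.gT.1.cons <| s.gE.1.cons <| s.gP.1.cons Cod.listsL_nil

theorem ord_z : orderOf s.z = 3 := s.hL.decide s.rep (by decide +kernel)

theorem les : s.S ≤ s.C ∧ s.Q ≤ s.S ∧ s.J ≤ s.S ∧ s.A ≤ s.Q ∧ s.A2 ≤ s.Q ∧ s.B ≤ s.J ∧ s.E1 ≤ s.J ∧ s.E1 ≤ s.A ∧
    s.Z2 ≤ s.J ∧ s.F ≤ s.C ∧ s.R8 ≤ s.F ∧ s.NB ≤ s.KM ∧ s.T ≤ s.S ∧ s.E ≤ s.T ∧ s.J ≤ s.T ∧ s.P ≤ s.KM ∧ s.B ≤ s.NB ∧
    s.F ≤ s.KM := s.hL.decide s.rep (by decide +kernel)

theorem J_comm : ∀ x ∈ s.J, ∀ y ∈ s.J, x * y = y * x := s.hL.decide s.rep (by decide +kernel)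
theorem J_exp : ∀ x ∈ s.J, x ^ 3 = 1 := s.hL.decide s.rep (by decide +kernel)
theorem A_comm : ∀ x ∈ s.A, ∀ y ∈ s.A, x * y = y * x := s.hL.decide s.rep (by decide +kernel)
theorem A_exp : ∀ x ∈ s.A, x ^ 3 = 1 := s.hL.decide s.rep (by decide +kernel)
theorem k_J : s.k * s.k = 1 ∧ ∀ x ∈ s.J, s.k * x * s.k⁻¹ = x⁻¹ := s.hL.decide s.rep (by decide +kernel)
theorem mem_J : s.x13 ∈ s.J ∧ s.z ∈ s.J ∧ s.u ∈ s.J ∧ s.x24 ∈ s.J := s.hL.decide s.rep (by decide +kernel)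
theorem z_A : s.z ∈ s.A := mem_clos (by simp)
theorem z_ne : s.z ≠ 1 := s.hL.decide s.rep (by decide +kernel)

theorem C_le_M : s.C ≤ s.M := clos_le.2 fun x hx => mem_clos (by simp only [List.mem_cons] at hx ⊢; tauto)
theorem W_le_M : s.W ≤ s.M := clos_le.2 fun x hx => mem_clos (by simp only [List.mem_cons] at hx ⊢; tauto)
theorem n1_M : s.n1 ∈ s.M := mem_clos (by simp)
theorem k_M : s.k ∈ s.M := by
  rw [show s.k = s.n1 * s.n1 from s.hL.decide s.rep (by decide +kernel)]; exact mul_mem s.n1_M s.n1_M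
theorem r_C : s.r ∈ s.C := s.hL.decide s.rep (by decide +kernel)
theorem r2_M : s.r2 ∈ s.M := by
  rw [show s.r2 = s.r * s.k from s.hL.decide s.rep (by decide +kernel)]; exact mul_mem (s.C_le_M s.r_C) s.k_M
theorem KM_le_M : s.KM ≤ s.M := clos_le.2 (by
  simp only [List.forall_mem_cons, List.not_mem_nil, false_imp_iff, implies_true, and_true]
  exact ⟨s.C_le_M (s.les.1 (s.les.2.2.1 s.mem_J.2.1)), mem_clos (by simp), mem_clos (by simp), s.k_M⟩)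

variable [Finite G]

theorem C_eq : centralizer {s.z} = s.C :=
  (eq_of_le_of_card_ge (fun g hg => mem_cen.2
    ((s.hL.decide s.rep (by decide +kernel) : ∀ g ∈ s.C, g * s.z = s.z * g) g hg)) (s.cardC.trans s.gC.2.symm).le).symm

theorem mem_C {g : G} : g ∈ s.C ↔ g * s.z = s.z * g := by rw [← s.C_eq, mem_cen]

theorem mem_C' {g : G} : g ∈ s.C ↔ g * s.z * g⁻¹ = s.z := by rw [← s.C_eq, mem_cen']

theorem k_mul_C {g : G} (h : g * s.z * g⁻¹ = s.z⁻¹) : s.k * g ∈ s.C := s.mem_C'.2 (by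
  have h1 := s.k_J.2 _ (inv_mem s.mem_J.2.1)
  calc _ = s.k * (g * s.z * g⁻¹) * s.k⁻¹ := by group
    _ = _ := by rw [h, h1, inv_inv])

/-- The normaliser of `⟨z⟩` is `C ∪ k C`. -/
theorem pm_z {g : G} (h : g * s.z * g⁻¹ = s.z ∨ g * s.z * g⁻¹ = s.z⁻¹) : ∃ c ∈ s.C, g = c ∨ g = s.k * c :=
  h.elim (fun h => ⟨g, s.mem_C'.2 h, .inl rfl⟩) fun h =>
    ⟨_, s.k_mul_C h, .inr (by rw [← mul_assoc, s.k_J.1, one_mul])⟩

theorem M_le_N : s.M ≤ normalizer (s.A : Set G) := clos_le.2 fun x hx => mem_normalizer_of_conj_mem (by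
  revert x
  simp only [List.forall_mem_cons, List.not_mem_nil, false_imp_iff, implies_true, and_true]
  exact s.hL.decide s.rep (by decide +kernel))

theorem W_le_N : s.W ≤ normalizer (s.J : Set G) := fun g hg => mem_normalizer_of_conj_mem
  ((s.hL.decide s.rep (by decide +kernel) : ∀ g ∈ s.W, ∀ x ∈ s.J, g * x * g⁻¹ ∈ s.J) g hg)

theorem transA : ∀ a ∈ s.A, a ≠ 1 → ∃ m ∈ s.M, m * s.z * m⁻¹ = a :=
  (s.gZ.1.cons s.hL).decide s.rep (P := ∀ a ∈ s.A, a ≠ 1 → a ∈ cls [s.x12, s.u, s.x34, s.n1, s.n2] s.z)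
    (by decide +kernel)

/-- An element conjugating a non-trivial element of `A` into `A` lies in `M`. -/
theorem memM {a g : G} (ha : a ∈ s.A) (h1 : a ≠ 1) (hg : g * a * g⁻¹ ∈ s.A) : g ∈ s.M := by
  obtain ⟨m, hm, rfl⟩ := s.transA a ha h1
  obtain ⟨n, hn, e⟩ := s.transA _ hg fun e => h1 (conj_eq_one.1 e)
  have h2 : n⁻¹ * g * m ∈ s.M := s.C_le_M (s.mem_C'.2 (by
    calc _ = n⁻¹ * (g * (m * s.z * m⁻¹) * g⁻¹) * n := by group
      _ = _ := by rw [← e]; group))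
  exact (mul_mem_cancel_left (inv_mem hn)).1 ((mul_mem_cancel_right hm).1 h2)

theorem N_eq : normalizer (s.A : Set G) = s.M :=
  le_antisymm (fun _ hg => s.memM s.z_A s.z_ne (conj_mem_of_mem_norm hg s.z_A)) s.M_le_N

theorem range_eq : s.φ.range = s.M := s.rng.trans s.N_eq

theorem card_M : Nat.card s.M = 151632 := by
  have h1 := card_mul_relIndex s.C_le_M
  have h2 : ((fun a => a * s.z * a⁻¹) '' s.M).ncard = (centralizer {s.z}).relIndex s.M :=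
    NM.ncard_image_eq_relIndex fun a _ b _ => by
      rw [mem_cen]
      constructor
      · intro h
        calc a⁻¹ * b * s.z = a⁻¹ * (b * s.z * b⁻¹) * b := by group
          _ = _ := by rw [← h]; group
      · intro h
        calc a * s.z * a⁻¹ = a * (s.z * (a⁻¹ * b)) * b⁻¹ := by group
          _ = _ := by rw [← h]; group
  rw [s.C_eq] at h2
  rw [← h2, show ((fun a => a * s.z * a⁻¹) '' s.M).ncard = 26 from s.gZ.2, s.gC.2] at h1
  exact h1.symm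

theorem center_S : ∀ x ∈ s.S, x * s.x12 = s.x12 * x → x * s.u = s.u * x → x * s.x34 = s.x34 * x →
    x = 1 ∨ x = s.z ∨ x = s.z⁻¹ := s.hL.decide s.rep (by decide +kernel)

theorem norm_S {g : G} (hg : g ∈ normalizer (s.S : Set G)) : g * s.z * g⁻¹ = s.z ∨ g * s.z * g⁻¹ = s.z⁻¹ := by
  have h1 : ∀ y ∈ s.S, g * s.z * g⁻¹ * y = y * (g * s.z * g⁻¹) := fun y hy => by
    have h2 := s.mem_C.1 (s.les.1 (conj_mem_of_mem_norm (inv_mem hg) hy))
    calc _ = g * (s.z * (g⁻¹ * y * g⁻¹⁻¹)) * g⁻¹ := by group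
      _ = _ := by rw [← h2]; group
  exact (s.center_S _ (conj_mem_of_mem_norm hg (s.les.2.2.1 s.mem_J.2.1)) (h1 _ (mem_clos (by simp)))
    (h1 _ (mem_clos (by simp))) (h1 _ (mem_clos (by simp)))).resolve_left fun h => s.z_ne (conj_eq_one.1 h)

theorem pm_M {g : G} (h : g * s.z * g⁻¹ = s.z ∨ g * s.z * g⁻¹ = s.z⁻¹) : g ∈ s.M :=
  s.memM s.z_A s.z_ne (h.elim (fun h => h.symm ▸ s.z_A) fun h => h.symm ▸ inv_mem s.z_A)

theorem sylM : IsSylIn 3 s.S s.M :=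
  isSylIn_of_card (s.les.1.trans s.C_le_M) (k := 6) (m := 208) s.gS.2 s.card_M (by norm_num)

theorem sylS : IsSylIn 3 s.S ⊤ := isSylIn_of_normalizer s.sylM le_top fun _ _ hg => s.pm_M (s.norm_S hg)

/-- An element centralised by a group of order 729 is conjugate to `z^±`. -/
theorem ze_of_cen {P : Subgroup G} (hP : IsPGroup 3 P) (hc : 729 ≤ Nat.card P) {t : G} (ht : t ∈ P) (h1 : t ≠ 1)
    (hPt : ∀ x ∈ P, x * t = t * x) : ZE s.z t := by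
  obtain ⟨g, h2, h3⟩ := exists_conj_center s.sylS hP (s.gS.2.symm ▸ hc) ht hPt
  rcases s.center_S _ h2 (h3 _ (mem_clos (by simp))) (h3 _ (mem_clos (by simp))) (h3 _ (mem_clos (by simp))) with h | h | h
  · exact absurd (conj_eq_one.1 h) h1
  · exact .inl (isConj_iff.2 ⟨g, h⟩).symm
  · exact .inr (isConj_iff.2 ⟨g, h⟩).symm

theorem conj_of_ze {x : G} (h : ZE s.z x) : ∃ g, g * s.z * g⁻¹ = x :=
  isConj_iff.1 (h.elim id fun h => (isConj_iff.2 ⟨_, s.k_J.2 _ s.mem_J.2.1⟩).trans h)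

theorem Q_le : s.Q ≤ Q3 s.z := by
  refine GT.le_pCoreOf (s.C_eq ▸ s.les.2.1.trans s.les.1) ?_ (IsPGroup.of_card (n := 5) s.gQ.2)
  rw [s.C_eq]
  refine clos_le.2 fun x hx => mem_normalizer_of_conj_mem ?_
  revert x
  simp only [List.forall_mem_cons, List.not_mem_nil, false_imp_iff, implies_true, and_true]
  exact s.hL.decide s.rep (by decide +kernel)

/-- The conjugates of `z` in `Q` lie in `A` or `A₂`. -/
theorem zeQ {q : G} (hq : q ∈ s.Q) (h : ZE s.z q) : q ∈ s.A ∨ q ∈ s.A2 :=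
  (s.hL.decide s.rep (by decide +kernel) : ∀ q ∈ s.Q, q * (s.n2 * q * s.n2⁻¹) = s.n2 * q * s.n2⁻¹ * q →
    q * (s.u * s.n2 * s.u⁻¹ * q * (s.u * s.n2 * s.u⁻¹)⁻¹) = s.u * s.n2 * s.u⁻¹ * q * (s.u * s.n2 * s.u⁻¹)⁻¹ * q →
    q ∈ s.A ∨ q ∈ s.A2) q hq (s.wq q (s.Q_le hq) h _ (s.hL.decide s.rep (P := s.n2 * s.z = s.z * s.n2) (by decide +kernel)))
    (s.wq q (s.Q_le hq) h _ (s.hL.decide s.rep (P := s.u * s.n2 * s.u⁻¹ * s.z = s.z * (s.u * s.n2 * s.u⁻¹))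
      (by decide +kernel)))

theorem nze : ¬ ZE s.z (s.x13 * s.x24) ∧ ¬ ZE s.z (s.x13 * s.x24⁻¹) := by
  have h : s.x13 * s.x24 ∈ s.Q ∧ s.x13 * s.x24⁻¹ ∈ s.Q ∧ ¬ (s.x13 * s.x24 ∈ s.A ∨ s.x13 * s.x24 ∈ s.A2) ∧
    ¬ (s.x13 * s.x24⁻¹ ∈ s.A ∨ s.x13 * s.x24⁻¹ ∈ s.A2) := s.hL.decide s.rep (by decide +kernel)
  exact ⟨fun e => h.2.2.1 (s.zeQ h.1 e), fun e => h.2.2.2 (s.zeQ h.2.1 e)⟩

/-- The classes of `W` on `J`. -/
theorem clsJ : ∀ x ∈ s.J, x ≠ 1 → x ∈ s.E1 ∨ ∃ m ∈ s.W, Let (m * x * m⁻¹) fun y =>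
    y = s.u ∨ y = s.x13 * s.x24 ∨ y = s.x13 * s.x24⁻¹ := s.hL.decide s.rep (by decide +kernel)

theorem cen_J : centralizer (s.J : Set G) ≤ s.J := fun g hg =>
  (s.hL.decide s.rep (by decide +kernel) : ∀ g ∈ s.C, s.x13 * g = g * s.x13 → s.u * g = g * s.u →
    s.x24 * g = g * s.x24 → g ∈ s.J) g (s.mem_C.2 (hg _ s.mem_J.2.1).symm) (hg _ s.mem_J.1) (hg _ s.mem_J.2.2.1)
    (hg _ s.mem_J.2.2.2)

end Lo

end Cfsg.Agent.A43
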