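import Mathlib
import Cfsg.Agent.A43.Base

/-!
The Thompson subgroup, signalizers and subgroups of index two.
-/

set_option autoImplicit false
set_option synthInstance.maxSize 100000
set_option synthInstance.maxHeartbeats 1000000
set_option maxRecDepth 100000
set_option exponentiation.threshold 100000
set_option linter.unusedSectionVars false

namespace Cfsg.Agent.A43

open Cfsg.Agent.Spor Cfsg.Agent.Rec Cfsg.Agent.Inv.Fz Cfsg.Agent.T16 Cfsg.Agent.T3 Cfsg.Agent.T3.LB Subgroup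

universe u

variable {G : Type u} [Group G] [Finite G]

namespace Lo

variable (s : Lo G)

theorem cnt1 : ∀ t ∈ (s.S : Set G), t ∉ s.T → {x | x ∈ (s.J : Set G) ∧ x * t = t * x}.ncard ≤ 9 :=
  s.hL.all_count s.rep s.gS.1 s.gJ.1 (fun t => t ∉ s.T) (fun t x => x * t = t * x) 9 (by decide +kernel)

theorem cnt2 : (∀ t ∈ s.T, t ∉ s.J → ∀ x ∈ s.J, x * t = t * x → x ∈ s.A2) ∧
    (∀ t ∈ s.S, t ∉ s.T → ∀ x ∈ s.A2, x ∈ s.J → x * t = t * x → x = 1 ∨ x = s.z ∨ x = s.z⁻¹) ∧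
    ∀ x ∈ s.A2, x ∈ s.J → x * s.x12 = s.x12 * x := s.hL.decide s.rep (by decide +kernel)

theorem cnt3 : {x | x ∈ (s.J : Set G) ∧ x * s.x12 = s.x12 * x}.ncard ≤ 9 :=
  s.hL.count_le s.rep s.gJ.1 (fun x => x * s.x12 = s.x12 * x) 9 (by decide +kernel)

omit s in
theorem card_le3 {E K S : Subgroup G} (hE : E ≤ S) (hK : K ≤ S) (h : Nat.card S = Nat.card K * 3) :
    Nat.card E ≤ Nat.card (E ⊓ K : Subgroup G) * 3 := by
  have h1 := card_mul_relIndex hK
  rw [h] at h1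
  have h2 := Nat.eq_of_mul_eq_mul_left Nat.card_pos h1
  rw [← card_mul_relIndex (inf_le_left : E ⊓ K ≤ E), inf_relIndex_left, ← h2]
  exact Nat.mul_le_mul_left _ (relIndex_le_of_le_right hE (by omega))

/-- `J` is weakly closed in `S`. -/
theorem wcJ {g : G} (h : cj g s.J ≤ s.S) : cj g s.J = s.J := by
  have hc : ∀ x ∈ cj g s.J, ∀ y ∈ cj g s.J, x * y = y * x := fun x hx y hy => by
    have h1 := s.J_comm _ (mem_cj.1 hx) _ (mem_cj.1 hy)
    calc _ = g * (g⁻¹ * x * g * (g⁻¹ * y * g)) * g⁻¹ := by group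
      _ = _ := by rw [h1]; group
  have h81 : Nat.card (cj g s.J) = 81 := (card_cj g _).trans s.gJ.2
  generalize cj g s.J = E at h hc h81
  obtain ⟨-, -, -, -, -, -, -, -, -, -, -, -, hT, -, hJ, -⟩ := s.les
  refine eq_of_le_of_card_ge ?_ (h81.trans s.gJ.2.symm).ge
  have h1 := card_le3 h hT (by rw [s.gS.2, s.gT.2])
  have h2 := card_le3 (inf_le_right : E ⊓ s.T ≤ _) hJ (by rw [s.gJ.2, s.gT.2])
  by_cases a1 : E ≤ s.T
  · by_contra a2
    obtain ⟨t, ht, a3⟩ := SetLike.not_le_iff_exists.1 a2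
    have h3 := (card_le_ncard (F := E ⊓ s.T ⊓ s.J) fun x hx => by
      exact ⟨hx.2, s.cnt2.2.2 x (s.cnt2.1 t (a1 ht) a3 x hx.2 (hc x hx.1.1 t ht)) hx.2⟩).trans s.cnt3
    rw [inf_eq_left.2 a1] at h2 h3
    omega
  exfalso
  obtain ⟨t, ht, a2⟩ := SetLike.not_le_iff_exists.1 a1
  by_cases a3 : E ⊓ s.T ≤ s.J
  · have h3 := (card_le_ncard (F := E ⊓ s.T) fun x hx => by exact ⟨a3 hx, hc x hx.1 t ht⟩).trans (s.cnt1 t (h ht) a2)
    omega
  obtain ⟨t', ht', a4⟩ := SetLike.not_le_iff_exists.1 a3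
  have h3 : E ⊓ s.T ⊓ s.J ≤ zpowers s.z := fun x hx => by
    rcases s.cnt2.2.1 t (h ht) a2 x (s.cnt2.1 t' ht'.2 a4 x hx.2 (hc x hx.1.1 t' ht'.1)) hx.2 (hc x hx.1.1 t ht) with
      rfl | rfl | rfl
    exacts [one_mem _, mem_zpowers _, inv_mem (mem_zpowers _)]
  have h4 := card_le_of_le h3
  rw [Nat.card_zpowers, s.ord_z] at h4
  omega

/-- `N(J)` controls fusion in `J`. -/
theorem fuseJ {x g : G} (hx : x ∈ s.J) (hg : g * x * g⁻¹ ∈ s.J) :
    ∃ h ∈ normalizer (s.J : Set G), h * x * h⁻¹ = g * x * g⁻¹ := by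
  obtain ⟨h, -, h1⟩ := exists_norm_conj s.sylS s.les.2.2.1 (fun _ _ => s.wcJ) (mem_top g)
    (fun e he => s.J_comm e he x hx) fun e he => s.J_comm e he _ hg
  exact ⟨h, h1⟩

/-- A group of order prime to three normalised by `⟨z, x₂₄⟩` is trivial. -/
theorem sig {X : Subgroup G} (hX : (Nat.card X).Coprime 3) (hn : s.E1 ≤ normalizer (X : Set G)) : X = ⊥ := by
  have hE := s.les.2.2.2.2.2.2.2.1
  have h1 : X ≤ s.M := le_of_nine s.gE1.2 (fun a ha => s.A_exp a (hE ha)) (fun a ha b hb => s.A_comm a (hE ha) b (hE hb))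
    hn hX fun a ha h1 k _ e => s.memM (hE ha) h1 (by rw [e, mul_inv_cancel_right]; exact hE ha)
  have h3 : ∀ x ∈ X, x ^ 9 = 1 → x = 1 := fun x hx e => orderOf_eq_one_iff.1
    (Nat.eq_one_of_dvd_coprimes (hX.pow_right 2) (orderOf_dvd_natCard X hx) (orderOf_dvd_of_pow_eq_one e))
  have h2 : ∀ x ∈ X, ∀ a ∈ s.E1, x * a = a * x := fun x hx a ha => by
    have h4 : x * a * x⁻¹ * a⁻¹ ∈ s.A := mul_mem (conj_mem_of_mem_norm (s.M_le_N (h1 hx)) (hE ha)) (inv_mem (hE ha))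
    have h5 := h3 (x * a * x⁻¹ * a⁻¹) (by
      simpa only [mul_assoc] using mul_mem hx (conj_mem_of_mem_norm (hn ha) (inv_mem hx))) (by
      rw [show 9 = 3 * 3 from rfl, pow_mul, s.A_exp _ h4, one_pow])
    rwa [mul_inv_eq_one, mul_inv_eq_iff_eq_mul] at h5
  exact eq_bot_iff.2 fun x hx => h3 x hx ((s.hL.decide s.rep (by decide +kernel) :
    ∀ g ∈ s.C, g * s.x24 = s.x24 * g → g ^ 9 = 1) x (s.mem_C.2 (h2 x hx _ (mem_clos (by simp))))
      (h2 x hx _ (mem_clos (by simp))))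

include s in
theorem no_index_two (H : Subgroup G) : H.index ≠ 2 := fun h => by
  have h1 : ∀ x : G, x ^ 3 = 1 → x ∈ H := fun x e => by
    rw [show x = (x * x) * (x * x) by
      calc x = x * x ^ 3 := by rw [e, mul_one]
        _ = _ := by rw [pow_three, mul_assoc]]
    exact mul_self_mem_of_index_two h _
  have h2 : s.x12 ^ 3 = 1 ∧ s.u ^ 3 = 1 ∧ s.x34 ^ 3 = 1 ∧ (s.x12 * s.n1) ^ 3 = 1 ∧ (s.u * s.n2) ^ 3 = 1 :=
    s.hL.decide s.rep (by decide +kernel)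
  have h3 : s.M ≤ H := clos_le.2 (by
    simp only [List.forall_mem_cons, List.not_mem_nil, false_imp_iff, implies_true, and_true]
    exact ⟨h1 _ h2.1, h1 _ h2.2.1, h1 _ h2.2.2.1, (mul_mem_cancel_left (h1 _ h2.1)).1 (h1 _ h2.2.2.2.1),
      (mul_mem_cancel_left (h1 _ h2.2.1)).1 (h1 _ h2.2.2.2.2)⟩)
  have := normal_of_index_eq_two h
  have h4 : H = ⊤ := eq_top_iff.2 fun g _ => by
    obtain ⟨k, hk, h5⟩ := (s.sylS.mono (s.sylM.le.trans h3) le_top).frattini (g := g) (le_normalizer_of_normal (mem_top g))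
    exact (mul_mem_cancel_left hk).1 (h3 (s.pm_M (s.norm_S h5)))
  rw [h4, index_top] at h
  omega

end Lo

end Cfsg.Agent.A43
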