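import Mathlib
import Cfsg.Agent.A43.Defs
import Cfsg.Agent.T3.SecA
import Cfsg.Agent.T16.X4

/-! The normaliser of `⟨c⟩` normalises `J ⟨c⟩`. -/

set_option autoImplicit false
set_option synthInstance.maxSize 100000
set_option synthInstance.maxHeartbeats 1000000

namespace Cfsg.Agent.A43

open Cfsg.Agent.Spor Cfsg.Agent.Rec Cfsg.Agent.Inv.Fz Cfsg.Agent.T16 Cfsg.Agent.T3 Cfsg.Agent.T3.LB Subgroup

universe u

variable {G : Type u} [Group G] [Finite G]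

namespace Cc

open X4 in
theorem q6 (s : Q6 G) (hCa : centralizer {s.a} = s.H) : ∃ k : G, k * s.v * k⁻¹ = s.a := by
  obtain ⟨C, h⟩ := (s.exists_G1 hCa).2
  obtain ⟨k, hk⟩ : ∃ k, C.Rep (evC A9 cS wAV) k := ⟨_, h.word wAV⟩
  have e2 : k⁻¹ * s.v * k⁻¹⁻¹ = s.c1 * s.c2 * s.c3 :=
    Cod.listsL_nil.decide (hk.cons (s.repG h)) (by decide +kernel)
  exact ⟨k⁻¹, e2⟩

theorem v_out (f : Fr G) : f.v ∉ f.J := fun hv => by
  have h1 : f.S ≤ f.J := clos_le.2 (by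
    simp only [List.forall_mem_cons, List.not_mem_nil, false_imp_iff, implies_true, and_true]
    exact ⟨f.c1_mem, f.c2_mem, f.c3_mem, hv⟩)
  have h2 := card_dvd_of_le h1
  rw [f.card_S_k, f.card_J_k] at h2
  omega

theorem nrm_or (f : Fr G) (h1 : centralizer {f.a} = f.H) (hs : f.Sig) :
    f.J.Normal ∨ ∃ k : G, k * f.v * k⁻¹ = f.a := by
  obtain ⟨f', e1, e2, e4, e3, h2⟩ := Fr.cases (Fr.hc_ok h1)
  have h3 : f'.Sig := fun K hK hN => hs K hK (e1 ▸ hN)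
  rw [← e2, ← e3] at h1
  rw [← e1]
  rcases h2 with h2 | ⟨w, h2⟩ | ⟨e, h2⟩ | ⟨d, h2⟩
  · exact .inl (Fr.x1_normal h2 h1 h3)
  · exact .inl (Fr.x2_normal h2 h1 h3)
  · exact .inl (Fr.x3_normal h2 h1 h3)
  let s := h2.toQ4 (Fr.hc_ok h1) h3 (Fr.hc_syl h1)
    ((centralizer_le_normalizer _).trans (Fr.hc_normA h1))
    ((centralizer_le (Set.singleton_subset_iff.2 (mem_clos (by simp)))).trans
      (h1.le.trans f'.H_le_N_k))
  refine s.cases6.imp (s.normal_of_le h1) fun ⟨s', h⟩ => ?_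
  have h4 : s'.toQ4.toFr = f' := by rw [h]; rfl
  obtain ⟨k, hk⟩ := q6 s' (by rw [h4]; exact h1)
  rw [h4, e2] at hk
  obtain ⟨g, -, hg⟩ := f.S_out_k f'.v (e4 ▸ f'.v_mem_k) (e1 ▸ v_out f') f'.v3
  exact ⟨k * g⁻¹, by rw [← hg, ← hk]; group⟩

theorem main {Q : Type u} [Group Q] [Finite Q] (f : Fr G) {c : G} {L : Subgroup G} (φ : L →* Q)
    (surj : Function.Surjective φ) (ker : φ.ker = (zpowers c).subgroupOf L) (c3 : orderOf c = 3)
    (hL : L ≤ normalizer (zpowers c : Set G)) (hcL : c ∈ L) (hH : f.H ≤ L)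
    (hJ : ∀ j ∈ f.J, j * c = c * j) (cH : c ∉ f.H)
    (cen : ∀ g ∈ L, g * f.a * g⁻¹ * f.a⁻¹ ∈ zpowers c → g ∈ f.H ⊔ zpowers c)
    (sig : ∀ X : Subgroup G, (Nat.card X).Coprime 3 → f.J ⊔ zpowers c ≤ normalizer (X : Set G) → X = ⊥)
    (hv : ∀ g ∈ L, g * f.v * g⁻¹ * f.a⁻¹ ∉ zpowers c) :
    L ≤ normalizer ((f.J ⊔ zpowers c : Subgroup G) : Set G) := by
  have hZL : zpowers c ≤ L := zpowers_le.2 hcL
  have hJL : f.J ≤ L := f.J_le_H_k.trans hH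
  have cZ : Nat.card (zpowers c) = 3 := by rw [Nat.card_zpowers, c3]
  have eq_one : ∀ {x : L}, φ x = 1 ↔ (x : G) ∈ zpowers c := fun {x} => by
    rw [← MonoidHom.mem_ker, ker, mem_subgroupOf]
  have mem_img : ∀ {B : Subgroup G}, B ≤ L → ∀ {x : L}, φ x ∈ img φ B ↔ (x : G) ∈ B ⊔ zpowers c :=
    fun {B} hB {x} => by
      rw [img, ← mem_comap, comap_map_eq, ker, ← subgroupOf_sup hB hZL, mem_subgroupOf]
  have inf : f.H ⊓ zpowers c = ⊥ := by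
    have h1 := card_dvd_of_le (inf_le_right : f.H ⊓ zpowers c ≤ _)
    rw [cZ] at h1
    rcases (Nat.dvd_prime Nat.prime_three).1 h1 with h2 | h2
    · exact card_eq_one.1 h2
    · exact absurd ((eq_of_le_of_card_ge inf_le_right (cZ.trans h2.symm).le).ge (mem_zpowers c)).1 cH
  have cJ : Nat.card ((f.res L hH).J.map φ) = 27 := by
    rw [← (f.res L hH).card_J]
    refine (Nat.card_congr (Equiv.ofBijective _ ⟨(injective_iff_map_eq_one _).2 fun b hb => ?_,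
      φ.subgroupMap_surjective _⟩)).symm
    have h1 : ((b : L) : G) ∈ f.J := (clos_sub (K := L) _).le b.2
    exact Subtype.ext (Subtype.ext (mem_bot.1 (inf.le ⟨f.J_le_H_k h1,
      eq_one.1 (congrArg Subtype.val hb)⟩)))
  obtain ⟨f', eJ, eH, ea, ev⟩ : ∃ f' : Fr Q, f'.J = img φ f.J ∧ f'.H = img φ f.H ∧
      f'.a = φ ⟨f.a, hJL f.a_mem⟩ ∧ f'.v = φ ⟨f.v, hH f.v_mem_H_k⟩ :=
    ⟨(f.res L hH).map φ cJ, (Fr.map_J _).trans (congrArg (map φ) (clos_sub _)),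
      (Fr.map_H _).trans (congrArg (map φ) (clos_sub _)), Fr.map_a _, rfl⟩
  have hCa : centralizer {f'.a} = f'.H := by
    refine le_antisymm (fun y hy => ?_) f'.H_le_C_k
    obtain ⟨g, rfl⟩ := surj y
    rw [eH, mem_img hH]
    refine cen g g.2 ((eq_one (x := g * ⟨f.a, hJL f.a_mem⟩ * g⁻¹ * ⟨f.a, hJL f.a_mem⟩⁻¹)).1 ?_)
    simp only [map_mul, map_inv, ← ea, mem_cen.1 hy]
    group
  have hZc : ∀ z ∈ zpowers c, ∀ g : G, g * c = c * g → z * g = g * z := by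
    rintro _ ⟨i, rfl⟩ g hg
    exact (Commute.zpow_right hg i).symm
  have hs : f'.Sig := fun K hK hN => by
    set X := (K.comap φ).map L.subtype
    have hX : X ≤ L := map_subtype_le _
    have mX : ∀ x : L, (x : G) ∈ X ↔ φ x ∈ K := fun x => mem_map_iff_mem L.subtype_injective
    have one : ∀ y ∈ K, ∀ k : ℕ, y ^ 3 ^ k = 1 → y = 1 := fun y hy k hk =>
      orderOf_eq_one_iff.1 (Nat.eq_one_of_dvd_coprimes (hK.pow_right k) (orderOf_dvd_natCard K hy)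
        (orderOf_dvd_of_pow_eq_one hk))
    have hZX : zpowers c ≤ X ⊓ centralizer {c} := fun z hz => ⟨(mX ⟨z, hZL hz⟩).2 (by
      rw [eq_one.2 hz]; exact one_mem _), mem_cen.2 (hZc z hz c rfl)⟩
    have hZ : IsSylIn 3 (zpowers c) (X ⊓ centralizer {c}) :=
      ⟨hZX, IsPGroup.of_card (n := 1) cZ, fun P hP h1 h2 => le_antisymm (fun x hx => by
        obtain ⟨k, hk⟩ := hP ⟨x, hx⟩
        refine (eq_one (x := ⟨x, hX (h1 hx).1⟩)).1 (one _ ((mX _).1 (h1 hx).1) k ?_)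
        rw [← map_pow, show (⟨x, hX (h1 hx).1⟩ : L) ^ 3 ^ k = 1 from
          Subtype.ext (congrArg Subtype.val hk :), map_one]) h2⟩
    have hJX : ∀ j ∈ f.J, ∀ x ∈ X, j * x * j⁻¹ ∈ X := fun j hj x hx =>
      (mX (⟨j, hJL hj⟩ * ⟨x, hX hx⟩ * ⟨j, hJL hj⟩⁻¹)).2 (by
        rw [map_mul, map_mul, map_inv]
        exact conj_mem_of_mem_norm (hN (eJ ▸ mem_img_of_mem _ hj)) ((mX ⟨x, hX hx⟩).1 hx))
    obtain ⟨Y, k1, k2, -, k4, k5⟩ := exists_res hZ fun x hx y hy => hZc x hx y (hZc c (mem_zpowers c) y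
      (hZc y hy c rfl)).symm
    have h1 : zpowers c ⊓ Y = ⊥ := by
      rw [inf_comm, k5, eq_bot_iff, commutator_le]
      exact fun z hz g hg => commutatorElement_eq_one_iff_mul_comm.2 (hZc z hz g (mem_cen.1 hg.1.2))
    have h2 := (hZ.inf_of_le_normalizer k1 (le_normalizer.trans k2)).not_dvd_relIndex
    rw [h1, relIndex_bot_left] at h2
    have h3 := sig Y ((Nat.prime_three.coprime_iff_not_dvd.2 h2).symm) (le_trans (sup_le (fun j hj =>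
      mem_normalizer_of_conj_mem fun x hx => mem_inf.2 ⟨hJX j hj x hx.1,
        mul_mem (mul_mem (mem_cen.2 (hJ j hj)) hx.2) (inv_mem (mem_cen.2 (hJ j hj)))⟩)
      (hZX.trans le_normalizer)) k2)
    refine eq_bot_iff.2 fun y hy => ?_
    obtain ⟨x, rfl⟩ := surj y
    refine one _ hy 1 (f'.J_exp_k _ ((Fr.cent_J (Fr.hc_ok hCa)).le ?_))
    rw [eJ]
    rintro _ ⟨j, hj, rfl⟩
    have h4 := hZc _ (conj_mem_of_mem_norm (inv_mem (hL x.2)) (mem_zpowers c)) _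
      (mem_cen.1 (inv_mem (mem_cen.2 (hJ j hj))))
    obtain ⟨k, hk, z, hz, e⟩ := k4 (j * x * (j : G)⁻¹ * (x : G)⁻¹)
      ⟨mul_mem (hJX j hj x ((mX x).2 hy)) (X.inv_mem ((mX x).2 hy)), mem_cen.2 (by
        calc (j * x * (j : G)⁻¹ * (x : G)⁻¹ * c : G)
            = j * x * ((j : G)⁻¹ * ((x : G)⁻¹ * c * (x : G)⁻¹⁻¹)) * (x : G)⁻¹ := by group
          _ = (j * c) * (x * (j : G)⁻¹ * (x : G)⁻¹) := by rw [← h4]; group
          _ = _ := by rw [hJ j hj]; group)⟩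
    rw [h3, mem_bot] at hk
    have h5 := (eq_one (x := j * x * j⁻¹ * x⁻¹)).2 (by
      show (j * x * (j : G)⁻¹ * (x : G)⁻¹ : G) ∈ _
      rw [e, hk, one_mul]; exact hz)
    rwa [map_mul, map_mul, map_mul, map_inv, map_inv, mul_inv_eq_one, mul_inv_eq_iff_eq_mul] at h5
  rcases nrm_or f' hCa hs with h | ⟨k, hk⟩
  · refine fun g hg => mem_normalizer_of_conj_mem fun x hx => ?_
    have hx' : x ∈ L := sup_le hJL hZL hx
    refine (mem_img hJL (x := ⟨g, hg⟩ * ⟨x, hx'⟩ * ⟨g, hg⟩⁻¹)).1 ?_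
    rw [map_mul, map_mul, map_inv, ← eJ]
    exact h.conj_mem _ (eJ ▸ (mem_img hJL (x := ⟨x, hx'⟩)).2 hx) _
  · obtain ⟨g, rfl⟩ := surj k
    refine absurd ((eq_one (x := g * ⟨f.v, hH f.v_mem_H_k⟩ * g⁻¹ * ⟨f.a, hJL f.a_mem⟩⁻¹)).1 ?_) (hv g g.2)
    rw [map_mul, map_mul, map_mul, map_inv, map_inv, ← ev, hk, ← ea, mul_inv_cancel]

end Cc

theorem norm_c (f : Fr G) {c : G} (c3 : orderOf c = 3) (hH : f.H ≤ normalizer (zpowers c : Set G))
    (hJ : ∀ j ∈ f.J, j * c = c * j) (cH : c ∉ f.H)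
    (cen : ∀ g ∈ normalizer (zpowers c : Set G), g * f.a * g⁻¹ * f.a⁻¹ ∈ zpowers c → g ∈ f.H ⊔ zpowers c)
    (sig : ∀ X : Subgroup G, (Nat.card X).Coprime 3 → f.J ⊔ zpowers c ≤ normalizer (X : Set G) → X = ⊥)
    (hv : ∀ g ∈ normalizer (zpowers c : Set G), g * f.v * g⁻¹ * f.a⁻¹ ∉ zpowers c) :
    normalizer (zpowers c : Set G) ≤ normalizer ((f.J ⊔ zpowers c : Subgroup G) : Set G) :=
  haveI : ((zpowers c).subgroupOf (normalizer (zpowers c : Set G))).Normal := normal_in_normalizer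
  Cc.main f (QuotientGroup.mk' ((zpowers c).subgroupOf (normalizer (zpowers c : Set G))))
    (QuotientGroup.mk'_surjective _) (QuotientGroup.ker_mk' _) c3 le_rfl
    (le_normalizer (mem_zpowers c)) hH hJ cH cen sig hv

end Cfsg.Agent.A43
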