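import Mathlib
import Cfsg.Agent.A43.Base2
import Cfsg.Agent.A43.Cc
import Cfsg.Agent.A43.DataF

/-!
The centralisers of the elements of rank two of `J` normalise `J`.
-/

set_option autoImplicit false
set_option synthInstance.maxSize 100000
set_option synthInstance.maxHeartbeats 1000000
set_option linter.unusedSectionVars false

namespace Cfsg.Agent.A43

open Cfsg.Agent.Spor Cfsg.Agent.Rec Cfsg.Agent.Inv.Fz Cfsg.Agent.T16 Cfsg.Agent.T3 Cfsg.Agent.T3.LB Subgroup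

universe u

variable {G : Type u} [Group G] [Finite G]

namespace Lo

variable (s : Lo G)

theorem cc_of (f : Fr G) {c : G} (ha : f.a = s.z) (c3 : orderOf c = 3) (nz : ¬ ZE s.z c)
    (h1 : ∀ g ∈ f.H, g * c * g⁻¹ = c ∨ g * c * g⁻¹ = c⁻¹) (cH : c ∉ f.H) (cJ : c ∈ s.J) (hJ : f.J ≤ s.J)
    (hJ' : ∀ x ∈ s.J, x ∈ f.J ∨ x * c ∈ f.J ∨ x * c⁻¹ ∈ f.J)
    (h2 : ∀ g ∈ s.C, g * c * g⁻¹ = c ∨ g * c * g⁻¹ = c⁻¹ → g ∈ f.H ∨ g * c ∈ f.H ∨ g * c⁻¹ ∈ f.H)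
    (h3 : ∃ q ∈ s.Q, ∃ q' ∈ s.Q, q * c * q⁻¹ = c * s.z ∧ q' * c⁻¹ * q'⁻¹ = c⁻¹ * s.z)
    (h4 : ∀ x ∈ s.J, x = 1 ∨ x = c ∨ x = c⁻¹ → x * f.v ∈ s.Q ∧ x * f.v ∉ s.A ∧ x * f.v ∉ s.A2) :
    centralizer {c} ≤ normalizer (s.J : Set G) := by
  have e3 : c ^ 3 = 1 := c3 ▸ pow_orderOf_eq_one c
  have c1 : c ≠ 1 := fun e => by rw [e, orderOf_one] at c3; omega
  have e : f.J ⊔ zpowers c = s.J := le_antisymm (sup_le hJ (zpowers_le.2 cJ)) fun x hx => by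
    have m : c ∈ f.J ⊔ zpowers c := mem_sup_right (mem_zpowers c)
    rcases hJ' x hx with h | h | h
    exacts [mem_sup_left h, (mul_mem_cancel_right m).1 (mem_sup_left h), (mul_mem_cancel_right (inv_mem m)).1 (mem_sup_left h)]
  have pm : ∀ g ∈ normalizer (zpowers c : Set G), g * c * g⁻¹ = c ∨ g * c * g⁻¹ = c⁻¹ := fun g hg =>
    (mem_zpowers_three e3 (conj_mem_of_mem_norm hg (mem_zpowers c))).resolve_left fun h => c1 (conj_eq_one.1 h)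
  refine le_trans (b := normalizer (zpowers c : Set G))
    (fun g hg => GT.PG.mem_normalizer_zpowers (by rw [mem_cen'.1 hg]; exact mem_zpowers c)) (e ▸ norm_c f c3 (fun g hg => GT.PG.mem_normalizer_zpowers ?_)
      (fun j hj => s.J_comm j (hJ hj) c cJ) cH (fun g hg h => ?_) (fun X hX hn => s.sig hX ?_) fun g hg h => ?_)
  · rcases h1 g hg with h | h <;> rw [h]
    exacts [mem_zpowers c, inv_mem (mem_zpowers c)]
  · obtain ⟨q, -, q', -, e1, e2⟩ := h3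
    have h5 : g ∈ s.C := s.mem_C'.2 (by
      rw [ha] at h
      have h6 := ze_cj (ze_refl s.z) g
      rcases mem_zpowers_three e3 h with h | h | h
      · exact mul_inv_eq_one.1 h
      · rw [mul_inv_eq_iff_eq_mul.1 h, ← e1] at h6
        exact absurd (ze_conj h6 (isConj_iff.2 ⟨q, rfl⟩).symm) nz
      · rw [mul_inv_eq_iff_eq_mul.1 h, ← e2] at h6
        exact absurd (inv_inv c ▸ ze_inv (ze_conj h6 (isConj_iff.2 ⟨q', rfl⟩).symm)) nz)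
    have m : c ∈ f.H ⊔ zpowers c := mem_sup_right (mem_zpowers c)
    rcases h2 g h5 (pm g hg) with h | h | h
    exacts [mem_sup_left h, (mul_mem_cancel_right m).1 (mem_sup_left h), (mul_mem_cancel_right (inv_mem m)).1 (mem_sup_left h)]
  · exact s.les.2.2.2.2.2.2.1.trans (e ▸ hn)
  · rw [ha] at h
    have h5 := inv_mem (conj_mem_of_mem_norm (inv_mem hg) h)
    have h6 := h4 _ (zpowers_le.2 cJ h5) (mem_zpowers_three e3 h5)
    have h7 : (g⁻¹ * (g * f.v * g⁻¹ * s.z⁻¹) * g⁻¹⁻¹)⁻¹ * f.v = g⁻¹ * s.z * g⁻¹⁻¹ := by group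
    rw [h7] at h6
    exact (s.zeQ h6.1 (ze_cj (ze_refl _) _)).elim h6.2.1 h6.2.2

/-- The letters of the first frame. -/
abbrev ep : List G := [s.x12 * s.x34 * s.u * (s.x12 * s.x34)⁻¹,
  s.x12 * s.x34 * (s.x12 * s.x34 * s.u * (s.x12 * s.x34)⁻¹) * (s.x12 * s.x34)⁻¹, s.u, s.x12 * s.x34, s.r]
/-- The letters of the second frame. -/
abbrev em : List G := [s.x12 * s.x34⁻¹ * s.u⁻¹ * (s.x12 * s.x34⁻¹)⁻¹,
  s.x12 * s.x34⁻¹ * (s.x12 * s.x34⁻¹ * s.u⁻¹ * (s.x12 * s.x34⁻¹)⁻¹) * (s.x12 * s.x34⁻¹)⁻¹, s.u⁻¹, s.x12 * s.x34⁻¹, s.r]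

theorem gJp : s.cod.Lists tJp_t.dom (clos (s.ep.take 3)) ∧ Nat.card (clos (s.ep.take 3)) = 27 :=
  ((s.rep.term _ (by decide +kernel)).cons <| (s.rep.term _ (by decide +kernel)).cons <|
    (s.rep.nth 3).cons Cod.repL_nil).gen tJp_ok
theorem gHp : s.cod.Lists tHp_t.dom (clos s.ep) :=
  (((s.rep.term _ (by decide +kernel)).cons <| (s.rep.term _ (by decide +kernel)).cons <| (s.rep.nth 3).cons <|
    (s.rep.term _ (by decide +kernel)).cons <| (s.rep.nth 6).cons Cod.repL_nil).gen tHp_ok).1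
theorem gJm : s.cod.Lists tJm_t.dom (clos (s.em.take 3)) ∧ Nat.card (clos (s.em.take 3)) = 27 :=
  ((s.rep.term _ (by decide +kernel)).cons <| (s.rep.term _ (by decide +kernel)).cons <|
    (s.rep.term _ (by decide +kernel)).cons Cod.repL_nil).gen tJm_ok
theorem gHm : s.cod.Lists tHm_t.dom (clos s.em) :=
  (((s.rep.term _ (by decide +kernel)).cons <| (s.rep.term _ (by decide +kernel)).cons <|
    (s.rep.term _ (by decide +kernel)).cons <| (s.rep.term _ (by decide +kernel)).cons <|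
    (s.rep.nth 6).cons Cod.repL_nil).gen tHm_ok).1

/-- The first frame. -/
def fp : Fr G where
  c1 := s.x12 * s.x34 * s.u * (s.x12 * s.x34)⁻¹
  c2 := s.x12 * s.x34 * (s.x12 * s.x34 * s.u * (s.x12 * s.x34)⁻¹) * (s.x12 * s.x34)⁻¹
  c3 := s.u
  v := s.x12 * s.x34
  t := s.r
  c1_3 := Cod.listsL_nil.decide s.rep (by decide +kernel)
  c12 := Cod.listsL_nil.decide s.rep (by decide +kernel)
  v3 := Cod.listsL_nil.decide s.rep (by decide +kernel)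
  t2 := Cod.listsL_nil.decide s.rep (by decide +kernel)
  tv := Cod.listsL_nil.decide s.rep (by decide +kernel)
  vc1 := rfl
  vc2 := Cod.listsL_nil.decide s.rep (by decide +kernel)
  tc1 := Cod.listsL_nil.decide s.rep (by decide +kernel)
  tc3 := Cod.listsL_nil.decide s.rep (by decide +kernel)
  card := s.gJp.2

/-- The second frame. -/
def fm : Fr G where
  c1 := s.x12 * s.x34⁻¹ * s.u⁻¹ * (s.x12 * s.x34⁻¹)⁻¹
  c2 := s.x12 * s.x34⁻¹ * (s.x12 * s.x34⁻¹ * s.u⁻¹ * (s.x12 * s.x34⁻¹)⁻¹) * (s.x12 * s.x34⁻¹)⁻¹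
  c3 := s.u⁻¹
  v := s.x12 * s.x34⁻¹
  t := s.r
  c1_3 := Cod.listsL_nil.decide s.rep (by decide +kernel)
  c12 := Cod.listsL_nil.decide s.rep (by decide +kernel)
  v3 := Cod.listsL_nil.decide s.rep (by decide +kernel)
  t2 := Cod.listsL_nil.decide s.rep (by decide +kernel)
  tv := Cod.listsL_nil.decide s.rep (by decide +kernel)
  vc1 := rfl
  vc2 := Cod.listsL_nil.decide s.rep (by decide +kernel)
  tc1 := Cod.listsL_nil.decide s.rep (by decide +kernel)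
  tc3 := Cod.listsL_nil.decide s.rep (by decide +kernel)
  card := s.gJm.2

theorem hLp : s.cod.ListsL [tJp_t.dom, tHp_t.dom, tC_t.dom, tQ_t.dom, tJ_t.dom, tA_t.dom, tA2_t.dom]
    [s.fp.J, s.fp.H, s.C, s.Q, s.J, s.A, s.A2] :=
  s.gJp.1.cons <| s.gHp.cons <| s.gC.1.cons <| s.gQ.1.cons <| s.gJ.1.cons <| s.gA.1.cons <| s.gA2.1.cons Cod.listsL_nil

theorem hLm : s.cod.ListsL [tJm_t.dom, tHm_t.dom, tC_t.dom, tQ_t.dom, tJ_t.dom, tA_t.dom, tA2_t.dom]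
    [s.fm.J, s.fm.H, s.C, s.Q, s.J, s.A, s.A2] :=
  s.gJm.1.cons <| s.gHm.cons <| s.gC.1.cons <| s.gQ.1.cons <| s.gJ.1.cons <| s.gA.1.cons <| s.gA2.1.cons Cod.listsL_nil

theorem cen_cp : centralizer {s.x13 * s.x24} ≤ normalizer (s.J : Set G) :=
  s.cc_of s.fp (Cod.listsL_nil.decide s.rep (P := s.x12 * s.x34 * s.u * (s.x12 * s.x34)⁻¹ *
      (s.x12 * s.x34 * (s.x12 * s.x34 * s.u * (s.x12 * s.x34)⁻¹) * (s.x12 * s.x34)⁻¹) * s.u = s.z) (by decide +kernel))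
    (s.hLp.decide s.rep (by decide +kernel)) s.nze.1 (s.hLp.decide s.rep (by decide +kernel))
    (s.hLp.decide s.rep (by decide +kernel)) (s.hLp.decide s.rep (by decide +kernel))
    (s.hLp.decide s.rep (by decide +kernel)) (s.hLp.decide s.rep (by decide +kernel))
    (s.hLp.decide s.rep (by decide +kernel))
    ⟨s.x34⁻¹, inv_mem (mem_clos (by simp)), s.x34, mem_clos (by simp), s.hLp.decide s.rep (by decide +kernel)⟩
    (s.hLp.decide s.rep (P := ∀ x ∈ s.J, x = 1 ∨ x = s.x13 * s.x24 ∨ x = (s.x13 * s.x24)⁻¹ →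
      x * (s.x12 * s.x34) ∈ s.Q ∧ x * (s.x12 * s.x34) ∉ s.A ∧ x * (s.x12 * s.x34) ∉ s.A2) (by decide +kernel))

theorem cen_cm : centralizer {s.x13 * s.x24⁻¹} ≤ normalizer (s.J : Set G) :=
  s.cc_of s.fm (Cod.listsL_nil.decide s.rep (P := s.x12 * s.x34⁻¹ * s.u⁻¹ * (s.x12 * s.x34⁻¹)⁻¹ *
      (s.x12 * s.x34⁻¹ * (s.x12 * s.x34⁻¹ * s.u⁻¹ * (s.x12 * s.x34⁻¹)⁻¹) * (s.x12 * s.x34⁻¹)⁻¹) * s.u⁻¹ = s.z)
      (by decide +kernel))
    (s.hLm.decide s.rep (by decide +kernel)) s.nze.2 (s.hLm.decide s.rep (by decide +kernel))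
    (s.hLm.decide s.rep (by decide +kernel)) (s.hLm.decide s.rep (by decide +kernel))
    (s.hLm.decide s.rep (by decide +kernel)) (s.hLm.decide s.rep (by decide +kernel))
    (s.hLm.decide s.rep (by decide +kernel))
    ⟨s.x34⁻¹, inv_mem (mem_clos (by simp)), s.x34, mem_clos (by simp), s.hLm.decide s.rep (by decide +kernel)⟩
    (s.hLm.decide s.rep (P := ∀ x ∈ s.J, x = 1 ∨ x = s.x13 * s.x24⁻¹ ∨ x = (s.x13 * s.x24⁻¹)⁻¹ →
      x * (s.x12 * s.x34⁻¹) ∈ s.Q ∧ x * (s.x12 * s.x34⁻¹) ∉ s.A ∧ x * (s.x12 * s.x34⁻¹) ∉ s.A2) (by decide +kernel))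

theorem rank2 {x m : G} (hm : m ∈ s.W) (h : m * x * m⁻¹ = s.x13 * s.x24 ∨ m * x * m⁻¹ = s.x13 * s.x24⁻¹) :
    ¬ ZE s.z x ∧ centralizer {x} ≤ normalizer (s.J : Set G) := by
  rcases h with h | h
  exacts [⟨fun e => s.nze.1 (h ▸ ze_cj e m), cent_conj_le (s.W_le_N hm) h s.cen_cp⟩,
    ⟨fun e => s.nze.2 (h ▸ ze_cj e m), cent_conj_le (s.W_le_N hm) h s.cen_cm⟩]

/-- The three kinds of elements of `J`. -/
theorem cenJ {x : G} (hx : x ∈ s.J) (h1 : x ≠ 1) : x ∈ s.E1 ∨ (∃ m ∈ s.W, m * x * m⁻¹ = s.u) ∨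
    (¬ ZE s.z x ∧ centralizer {x} ≤ normalizer (s.J : Set G)) :=
  (s.clsJ x hx h1).imp_right fun ⟨m, hm, h⟩ => h.imp (fun h => ⟨m, hm, h⟩) (s.rank2 hm)

theorem cen_uz : (¬ ZE s.z (s.u * s.z) ∧ centralizer {s.u * s.z} ≤ normalizer (s.J : Set G)) ∧
    ¬ ZE s.z (s.u * s.z⁻¹) ∧ centralizer {s.u * s.z⁻¹} ≤ normalizer (s.J : Set G) :=
  ⟨s.rank2 (m := s.n1) (mem_clos (by simp)) (s.hL.decide s.rep (by decide +kernel)),
    s.rank2 (m := s.n1) (mem_clos (by simp)) (s.hL.decide s.rep (by decide +kernel))⟩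

theorem cen_rC : ∀ c ∈ s.C, c * s.r = s.r * c → c ∈ s.KM := s.hL.decide s.rep (by decide +kernel)

/-- The centraliser of `r` in `C`. -/
theorem cen_rz {g : G} (h1 : g * s.r = s.r * g) (h2 : g * s.z * g⁻¹ = s.z ∨ g * s.z * g⁻¹ = s.z⁻¹) : g ∈ s.KM := by
  obtain ⟨c, hc, rfl | rfl⟩ := s.pm_z h2
  · exact s.cen_rC _ hc h1
  have h3 : s.k * s.r = s.r * s.k := s.hL.decide s.rep (by decide +kernel)
  refine mul_mem (mem_clos (by simp)) (s.cen_rC c hc (mul_left_cancel (a := s.k) ?_))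
  rw [← mul_assoc, h1, ← mul_assoc, ← mul_assoc, h3]

theorem NJ_le (nu : ¬ ZE s.z s.u) : normalizer (s.J : Set G) ≤ s.M := fun g hg => by
  have h1 := ze_cj (ze_refl s.z) g
  rcases s.cenJ (conj_mem_of_mem_norm hg s.mem_J.2.1) (fun e => s.z_ne (conj_eq_one.1 e)) with h | ⟨m, -, h⟩ | h
  exacts [s.memM s.z_A s.z_ne (s.les.2.2.2.2.2.2.2.1 h), absurd (h ▸ ze_cj h1 m) nu, absurd h1 h.1]

end Lo

end Cfsg.Agent.A43
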