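import Mathlib
import Cfsg.Agent.A43.Defs

/-!
Coordinates on `Q3 a / ⟨a⟩`.
-/

set_option autoImplicit false

namespace Cfsg.Agent.A43

open Cfsg.Agent.Spor Cfsg.Agent.Rec Cfsg.Agent.Inv.Fz Cfsg.Agent.T16 Cfsg.Agent.T3 Cfsg.Agent.T3.LB Subgroup
open Cfsg.Agent.GT.PG
open scoped commutatorElement

universe u

variable {G : Type u} [Group G] [Finite G]

namespace CoX

/-- A coordinate function. -/
structure C0 (Q : Subgroup G) (a : G) (co : G → V4) : Prop where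
  le : zpowers a ≤ Q
  mul : ∀ p ∈ Q, ∀ q ∈ Q, co (p * q) = co p + co q
  zero : ∀ q ∈ Q, co q = 0 ↔ q ∈ zpowers a
  surj : ∀ v, ∃ q ∈ Q, co q = v

theorem exists_c0 {Q : Subgroup G} {a : G} (h : ESZ 3 Q a) (hc : Nat.card Q = 243) : ∃ co, C0 Q a co := by
  obtain ⟨x, hx, y, hy, xy⟩ := h.exists_pair fun e => by have := h.eq_zpowers_iff_card.1 e; omega
  obtain ⟨P1, P2, s, x1, y1⟩ := exists_sp2 h hc hx hy xy
  obtain ⟨x', x2, y', y2, xy'⟩ := s.es2.exists_pair fun e => by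
    have := s.es2.eq_zpowers_iff_card.1 e; have := s.c2; omega
  have p1 : P27 P1 a x y := ⟨s.es1, s.c1, x1, y1, xy⟩
  have p2 : P27 P2 a x' y' := ⟨s.es2, s.c2, x2, y2, xy'⟩
  have hx' := s.le2 x2
  have hy' := s.le2 y2
  have c12 : ∀ {u v}, u ∈ P1 → v ∈ P2 → om a u v = 0 := fun hu hv =>
    (om_eq_zero h (s.le1 hu) (s.le2 hv)).2 (s.comm hu hv)
  have c21 : ∀ {u v}, u ∈ P1 → v ∈ P2 → om a v u = 0 := fun hu hv =>
    (om_eq_zero h (s.le2 hv) (s.le1 hu)).2 (s.comm hu hv).symm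
  obtain ⟨co, hco⟩ : ∃ co : G → V4, ∀ q, co q = ![om a q y, om a x q, om a q y', om a x' q] := ⟨_, fun _ => rfl⟩
  have mul : ∀ p ∈ Q, ∀ q ∈ Q, co (p * q) = co p + co q := fun p hp q hq => by
    rw [hco, hco, hco, om_mul_left h hp hq hy, om_mul_right h hx hp hq, om_mul_left h hp hq hy',
      om_mul_right h hx' hp hq]
    simp
  have pw : ∀ q ∈ Q, ∀ k : ZMod 3, co (q ^ k.val) = k • co q := fun q hq k => by
    rw [hco, hco, om_pow_left h hq hy, om_pow_right h hx hq, om_pow_left h hq hy', om_pow_right h hx' hq]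
    simp [mul_comm]
  refine ⟨co, h.zpowers_le, mul, fun q hq => ⟨fun e => ?_, fun e => ?_⟩, fun w => ?_⟩
  · obtain ⟨u, hu, v, hv, rfl⟩ := s.dec q hq
    rw [hco, om_mul_left h (s.le1 hu) (s.le2 hv) hy, om_mul_right h hx (s.le1 hu) (s.le2 hv),
      om_mul_left h (s.le1 hu) (s.le2 hv) hy', om_mul_right h hx' (s.le1 hu) (s.le2 hv), c21 y1 hv, c12 x1 hv,
      c12 hu y2, c21 hu x2, add_zero, add_zero, zero_add, zero_add] at e
    exact mul_mem (p1.mem_z' hu (congrFun e 1) (congrFun e 0)) (p2.mem_z' hv (congrFun e 3) (congrFun e 2))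
  · rw [hco, om_z_left h e hy, om_z_right h e hx, om_z_left h e hy', om_z_right h e hx']
    simp
  · have m1 := pow_mem hx (w 0).val
    have m2 := pow_mem hy (w 1).val
    have m3 := pow_mem hx' (w 2).val
    have m4 := pow_mem hy' (w 3).val
    refine ⟨_, mul_mem (mul_mem m1 m2) (mul_mem m3 m4), ?_⟩
    rw [mul _ (mul_mem m1 m2) _ (mul_mem m3 m4), mul _ m1 _ m2, mul _ m3 _ m4, pw _ hx, pw _ hy, pw _ hx', pw _ hy',
      hco, hco, hco, hco, om_one h xy, om_one h xy', om_self h hx, om_self h hy, om_self h hx', om_self h hy',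
      c12 x1 y2, c21 x1 x2, c12 y1 y2, c21 y1 x2, c12 x1 x2, c21 y1 y2]
    funext i
    fin_cases i <;> simp

namespace C0

variable {Q : Subgroup G} {a : G} {co : G → V4} (h : C0 Q a co)
include h

theorem cj {k x : G} (hk : k ∈ Q) (hx : x ∈ Q) : co (k * x * k⁻¹) = co x := by
  have h1 := h.mul k hk k⁻¹ (inv_mem hk)
  rw [mul_inv_cancel, (h.zero 1 (one_mem _)).2 (one_mem _)] at h1
  rw [h.mul _ (mul_mem hk hx) _ (inv_mem hk), h.mul _ hk _ hx, add_right_comm, ← h1, zero_add]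

theorem ext {A : Type*} [AddCommGroup A] [Module (ZMod 3) A] {L L' : V4 →ₗ[ZMod 3] A}
    (e : ∀ q ∈ Q, L (co q) = L' (co q)) : L = L' := LinearMap.ext fun v => by
  obtain ⟨q, hq, rfl⟩ := h.surj v
  exact e q hq

theorem lift {A : Type*} [AddCommGroup A] [Module (ZMod 3) A] (F : G → A)
    (h1 : ∀ p ∈ Q, ∀ q ∈ Q, F (p * q) = F p + F q) (h2 : ∀ z ∈ zpowers a, F z = 0) :
    ∃ L : V4 →ₗ[ZMod 3] A, ∀ q ∈ Q, F q = L (co q) := by
  have key : ∀ p ∈ Q, ∀ q ∈ Q, co p = co q → F p = F q := fun p hp q hq e => by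
    have m := mul_mem hp (inv_mem hq)
    have e1 := h.mul _ m _ hq
    have e2 := h1 _ m _ hq
    rw [inv_mul_cancel_right] at e1 e2
    rw [e2, h2 _ ((h.zero _ m).1 (by rw [e] at e1; exact left_eq_add.1 (e1.trans (add_comm _ _)))), zero_add]
  choose σ hσ hσ' using h.surj
  refine ⟨AddMonoidHom.toZModLinearMap 3 (AddMonoidHom.mk' (fun v => F (σ v)) fun v w => ?_),
    fun q hq => key _ hq _ (hσ _) (hσ' _).symm⟩
  rw [← h1 _ (hσ v) _ (hσ w)]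
  exact key _ (hσ _) _ (mul_mem (hσ v) (hσ w)) (by rw [h.mul _ (hσ v) _ (hσ w), hσ', hσ', hσ'])

theorem act {n : G} (h1 : n ∈ normalizer (Q : Set G)) (h2 : n * a * n⁻¹ ∈ zpowers a) :
    ∃ L : Module.End (ZMod 3) V4, ∀ q ∈ Q, co (n * q * n⁻¹) = L (co q) := by
  refine h.lift (fun q => co (n * q * n⁻¹)) (fun p hp q hq => ?_) ?_
  · rw [← conj_mul, h.mul _ (conj_mem_of_mem_norm h1 hp) _ (conj_mem_of_mem_norm h1 hq)]
  · rintro _ ⟨k, rfl⟩
    have : n * a ^ k * n⁻¹ ∈ zpowers a := by rw [← conj_zpow]; exact zpow_mem h2 k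
    exact (h.zero _ (h.le this)).2 this

theorem form (e : ESZ 3 Q a) :
    ∃ ω : V4 →ₗ[ZMod 3] V4 →ₗ[ZMod 3] ZMod 3, ∀ p ∈ Q, ∀ q ∈ Q, ω (co p) (co q) = om a p q := by
  have k : ∀ p, ∃ L : V4 →ₗ[ZMod 3] ZMod 3, p ∈ Q → ∀ q ∈ Q, om a p q = L (co q) := fun p => by
    by_cases hp : p ∈ Q
    · exact (h.lift (om a p) (fun _ hu _ hv => om_mul_right e hp hu hv) fun _ hz => om_z_right e hz hp).imp
        fun _ k _ => k
    · exact ⟨0, fun k => absurd k hp⟩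
  choose l hl using k
  obtain ⟨ω, hω⟩ := h.lift l (fun p hp q hq => h.ext fun v hv => by
      rw [LinearMap.add_apply, ← hl _ (mul_mem hp hq) v hv, ← hl p hp v hv, ← hl q hq v hv, om_mul_left e hp hq hv])
    fun z hz => h.ext fun v hv => by rw [← hl z (h.le hz) v hv, om_z_left e hz hv, LinearMap.zero_apply]
  exact ⟨ω, fun p hp q hq => by rw [← hω p hp, ← hl p hp q hq]⟩

end C0

end CoX

theorem H0.exists_co {a : G} (h : H0 a) : Nonempty (Co h) := by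
  have e := h.ex.esz
  obtain ⟨co, c⟩ := CoX.exists_c0 e h.ex.card
  obtain ⟨ω, hω⟩ := c.form e
  have nQ : ∀ g : centralizer ({a} : Set G), ∀ q ∈ Q3 a, g * q * (g : G)⁻¹ ∈ Q3 a := fun g q hq =>
    conj_mem_of_mem_norm (norm_Q3 (mem_cen.1 g.2)) hq
  have k : ∀ m : S3, ∃ L : Module.End (ZMod 3) V4, ∀ g, h.ψ g = m → ∀ q ∈ Q3 a,
      co (g * q * (g : G)⁻¹) = L (co q) := fun m => by
    obtain ⟨g0, rfl⟩ := h.surj m
    obtain ⟨L, hL⟩ := c.act (norm_Q3 (mem_cen.1 g0.2)) (by rw [mem_cen'.1 g0.2]; exact mem_zpowers a)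
    refine ⟨L, fun g hg q hq => ?_⟩
    rw [← hL q hq, ← c.cj ((h.ker (g * g0⁻¹)).1 (by rw [map_mul, map_inv, hg, mul_inv_cancel])) (nQ g0 q hq)]
    congr 1
    rw [coe_mul, coe_inv]
    group
  choose ρ hρ using k
  have ρ1 : ρ 1 = 1 := c.ext fun q hq => by rw [← hρ 1 1 (map_one _) q hq]; simp
  have ρm : ∀ m m', ρ (m * m') = ρ m * ρ m' := fun m m' => c.ext fun q hq => by
    obtain ⟨g, rfl⟩ := h.surj m
    obtain ⟨g', rfl⟩ := h.surj m'
    rw [← hρ _ (g * g') (map_mul _ _ _) q hq, Module.End.mul_apply, ← hρ _ g' rfl q hq, ← hρ _ g rfl _ (nQ g' q hq)]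
    congr 1
    rw [coe_mul]
    group
  refine ⟨⟨co, ω, ⟨⟨ρ, ρ1⟩, ρm⟩, c.mul, c.zero, c.surj, hω, fun g q hq => hρ _ g rfl q hq, fun x => ?_, fun x hx => ?_,
    fun m x y => ?_, fun x => ?_, fun s hs => ?_⟩⟩
  · obtain ⟨q, hq, rfl⟩ := c.surj x
    rw [hω q hq q hq, om_self e hq]
  · obtain ⟨q, hq, rfl⟩ := c.surj x
    exact (c.zero q hq).2 (e.mem_zpowers_of_forall_commute hq fun y hy =>
      ((om_eq_zero e hq hy).1 (hω q hq y hy ▸ hx _)).symm)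
  · obtain ⟨p, hp, rfl⟩ := c.surj x
    obtain ⟨q, hq, rfl⟩ := c.surj y
    obtain ⟨g, rfl⟩ := h.surj m
    change ω (ρ _ _) (ρ _ _) = _
    rw [← hρ _ g rfl p hp, ← hρ _ g rfl q hq, hω _ (nQ g p hp) _ (nQ g q hq), hω p hp q hq,
      om_conj e (mem_cen.1 g.2) hp hq]
  · obtain ⟨q, hq, rfl⟩ := c.surj x
    obtain ⟨g, hg⟩ := h.surj (-1)
    change ρ _ _ = _
    rw [← hρ _ g hg q hq, eq_neg_iff_add_eq_zero, ← c.mul _ (nQ g q hq) _ hq]
    exact (c.zero _ (mul_mem (nQ g q hq) hq)).2 (h.neg g hg q hq)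
  · have sN : s ∈ normalizer (Q3 a : Set G) := cj_eq_iff.1 (by rw [← Q3_cj, hs, Q3_inv])
    obtain ⟨σ, hσ⟩ := c.act sN (hs ▸ inv_mem (mem_zpowers a))
    refine ⟨σ, hσ, fun x y => ?_⟩
    obtain ⟨p, hp, rfl⟩ := c.surj x
    obtain ⟨q, hq, rfl⟩ := c.surj y
    rw [← hσ p hp, ← hσ q hq, hω _ (conj_mem_of_mem_norm sN hp) _ (conj_mem_of_mem_norm sN hq), hω p hp q hq]
    refine lg_eq e.orderOf_z ?_
    rw [pow_val_neg e.z_pow, ← inv_pow, ← hs, conj_pow, om, lg_spec e.orderOf_z (e.comm_mem p hp q hq)]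
    simp only [commutatorElement_def]
    group

end Cfsg.Agent.A43
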