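import Mathlib
import Cfsg.Agent.A43.Defs
import Cfsg.Agent.GT.Gaschutz
import Cfsg.Agent.Cl.LinearBasic
import Cfsg.Agent.FG.ClassCount

/-! The normaliser of `A` as the matrix group `3³ : SL₃(3)`. -/

set_option autoImplicit false
set_option linter.unusedSectionVars false

namespace Cfsg.Agent.A43

open Cfsg.Agent.Spor Cfsg.Agent.Rec Cfsg.Agent.Inv.Fz Cfsg.Agent.T16 Cfsg.Agent.T3 Cfsg.Agent.T3.LB Subgroup

universe u

variable {G : Type u} [Group G] [Finite G]

namespace Emb

open Matrix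

/-- Coordinate vectors. -/
abbrev V3 : Type := Fin 3 → ZMod 3

theorem card_sl3 : Nat.card SL3 = 5616 := by rw [Cl.card_sl_three, Nat.card_zmod]; rfl

theorem card_gl3 : Nat.card (GL (Fin 3) (ZMod 3)) = 11232 := by
  have : Fact (Nat.Prime 3) := ⟨Nat.prime_three⟩
  rw [card_GL_field, ZMod.card, Fin.prod_univ_three]
  rfl

theorem neg3 : ∀ c : ZMod 3, -c + -c = c := by decide

theorem eq_sl {X : Subgroup (GL (Fin 3) (ZMod 3))} (h : Nat.card X = 5616) :
    X = (SpecialLinearGroup.toGL : SL3 →* GL (Fin 3) (ZMod 3)).range := by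
  have : Fact (Nat.Prime 3) := ⟨Nat.prime_three⟩
  have h2 : X.index = 2 := by
    have := X.card_mul_index
    rw [h, card_gl3] at this
    omega
  refine (eq_of_le_of_card_ge ?_ ?_).symm
  · rw [MonoidHom.range_eq_map, ← Cl.sl_closure_transvections, map_le_iff_le_comap, closure_le]
    rintro _ ⟨i, j, hij, c, rfl⟩
    have e : SpecialLinearGroup.transvection hij c =
        SpecialLinearGroup.transvection hij (-c) * SpecialLinearGroup.transvection hij (-c) := by
      rw [← SpecialLinearGroup.transvection_add, neg3]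
    rw [e, SetLike.mem_coe, mem_comap, map_mul]
    exact mul_self_mem_of_index_two h2 _
  · rw [h, ← card_sl3]
    exact (Nat.card_congr (MonoidHom.ofInjective SpecialLinearGroup.toGL_injective).toEquiv).le

variable {a : G} {A U : Subgroup G}

/-- Coordinates on `A`. -/
theorem exists_j (h : H2 a A U) : ∃ j : Multiplicative V3 →* G, Function.Injective j ∧ j.range = A ∧
    j (Multiplicative.ofAdd ![1, 0, 0]) = a ∧
    A = clos [a, j (Multiplicative.ofAdd ![0, 1, 0]), j (Multiplicative.ofAdd ![0, 0, 1])] := by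
  have : Fact (Nat.Prime 3) := ⟨Nat.prime_three⟩
  have out : ∀ X ≤ A, Nat.card X < 27 → ∃ y ∈ A, y ∉ X := fun X hX hc => by
    by_contra! k
    rw [le_antisymm hX k, h.card] at hc
    omega
  have ord : ∀ {X : Subgroup G} {y}, y ∈ A → y ∉ X → orderOf y = 3 := fun hy k =>
    orderOf_eq_prime (h.exp _ hy) fun e => k (e ▸ one_mem _)
  have l1 : zpowers a ≤ A := zpowers_le.2 h.mem
  have c1 : Nat.card (zpowers a) = 3 := by rw [Nat.card_zpowers, orderOf_eq_prime (h.exp _ h.mem) h.ne]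
  obtain ⟨y, hy, y1⟩ := out _ l1 (by omega)
  have l2 : zpowers y ⊔ zpowers a ≤ A := sup_le (zpowers_le.2 hy) l1
  have c2 := card_sup_zp (ord hy y1) (fun x hx => h.comm _ hy _ (l1 hx)) y1
  obtain ⟨w, hw, w1⟩ := out _ l2 (by omega)
  have c3 := card_sup_zp (ord hw w1) (fun x hx => h.comm _ hw _ (l2 hx)) w1
  have e := eq_of_le_of_card_ge (sup_le (zpowers_le.2 hw) l2) (by rw [h.card]; omega)
  have cm : ∀ {x x' : G} (m n : ℕ), x ∈ A → x' ∈ A → Commute (x ^ m) (x' ^ n) := fun m n hx hx' =>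
    h.comm _ (pow_mem hx m) _ (pow_mem hx' n)
  let j : Multiplicative V3 →* G := MonoidHom.mk'
    (fun v => a ^ (v.toAdd 0).val * y ^ (v.toAdd 1).val * w ^ (v.toAdd 2).val) fun v v' => by
      simp only [toAdd_mul, Pi.add_apply, pow_val_add (h.exp _ h.mem), pow_val_add (h.exp _ hy),
        pow_val_add (h.exp _ hw), mul_assoc]
      rw [(cm _ _ hw h.mem).left_comm, (cm _ _ hy h.mem).left_comm, (cm _ _ hw hy).left_comm]
  have j1 : j (Multiplicative.ofAdd ![1, 0, 0]) = a := by simp [j, ZMod.val_one]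
  have j2 : j (Multiplicative.ofAdd ![0, 1, 0]) = y := by simp [j, ZMod.val_one]
  have j3 : j (Multiplicative.ofAdd ![0, 0, 1]) = w := by simp [j, ZMod.val_one]
  have r : j.range = A := le_antisymm (by
    rintro _ ⟨v, rfl⟩
    exact mul_mem (mul_mem (pow_mem h.mem _) (pow_mem hy _)) (pow_mem hw _)) (by
    rw [← e]
    simp only [sup_le_iff, zpowers_le]
    exact ⟨⟨_, j3⟩, ⟨_, j2⟩, _, j1⟩)
  refine ⟨j, ?_, r, j1, ?_⟩
  · have := (Nat.bijective_iff_surjective_and_card j.rangeRestrict).2 ⟨j.rangeRestrict_surjective, by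
      rw [r, h.card, Nat.card_congr Multiplicative.toAdd, Nat.card_fun, Nat.card_zmod]; simp⟩
    exact fun v v' k => this.1 (Subtype.ext k)
  · rw [j2, j3]
    refine le_antisymm ?_ (clos_le.2 (by simp [h.mem, hy, hw]))
    nth_rw 1 [← e]
    simp only [sup_le_iff, zpowers_le]
    exact ⟨mem_clos (by simp), mem_clos (by simp), mem_clos (by simp)⟩

theorem card_N (h : H2 a A U) : Nat.card (normalizer (A : Set G)) = 27 * 5616 := by
  have h1 := FG.ncard_conj_orbit_subgroup (normalizer (A : Set G)) a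
  have h2 : {y | ∃ g ∈ normalizer (A : Set G), g * a * g⁻¹ = y} = (A : Set G) \ {1} := by
    ext y
    refine ⟨?_, fun k => h.trans y k.1 k.2⟩
    rintro ⟨g, hg, rfl⟩
    exact ⟨(mem_normalizer_iff.1 hg a).1 h.mem, fun k => h.ne (conj_eq_one_iff.1 k)⟩
  rw [h2, Set.ncard_sdiff_singleton_of_mem (SetLike.mem_coe.2 A.one_mem), ← Nat.card_coe_set_eq, SetLike.coe_sort_coe,
    h.card] at h1
  rw [← ((centralizer {a}).subgroupOf (normalizer (A : Set G))).card_mul_index, ← relIndex, ← h1,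
    Nat.card_congr (subgroupOfEquivOfLe h.nA).toEquiv, h.cardC]

/-- The action of the normaliser. -/
theorem exists_rho (h : H2 a A U) {j : Multiplicative V3 →* G} (hj : Function.Injective j) (hr : j.range = A) :
    ∃ ρ : normalizer (A : Set G) →* SL3, Function.Surjective ρ ∧ ρ.ker = A.subgroupOf _ ∧
      ∀ (g : normalizer (A : Set G)) (v : V3), g * j (Multiplicative.ofAdd v) * (g : G)⁻¹ = j (Multiplicative.ofAdd ((ρ g).1 *ᵥ v)) := by
  have mem : ∀ v, j v ∈ A := fun v => hr ▸ ⟨v, rfl⟩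
  have ex : ∀ g : normalizer (A : Set G), ∃ M : Matrix (Fin 3) (Fin 3) (ZMod 3), ∀ v,
      g * j (Multiplicative.ofAdd v) * (g : G)⁻¹ = j (Multiplicative.ofAdd (M *ᵥ v)) := fun g => by
    have : ∀ v : V3, ∃ v', j (Multiplicative.ofAdd v') = g * j (Multiplicative.ofAdd v) * (g : G)⁻¹ := fun v =>
      (hr ▸ (mem_normalizer_iff.1 g.2 _).1 (mem (Multiplicative.ofAdd v)) : _ ∈ j.range)
    choose f hf using this
    refine ⟨LinearMap.toMatrix' ((AddMonoidHom.mk' f fun v v' => Multiplicative.ofAdd.injective (hj ?_)).toZModLinearMap 3),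
      fun v => by rw [LinearMap.toMatrix'_mulVec, ← hf]; rfl⟩
    rw [ofAdd_add, map_mul, hf, hf, hf, ofAdd_add, map_mul, conj_mul]
  choose M hM using ex
  have ext : ∀ {X Y : Matrix (Fin 3) (Fin 3) (ZMod 3)},
      (∀ v, j (Multiplicative.ofAdd (X *ᵥ v)) = j (Multiplicative.ofAdd (Y *ᵥ v))) → X = Y := fun k =>
    toLin'.injective (LinearMap.ext fun v => Multiplicative.ofAdd.injective (hj (k v)))
  let M' : normalizer (A : Set G) →* Matrix (Fin 3) (Fin 3) (ZMod 3) :=
    { toFun := M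
      map_one' := ext fun v => by rw [← hM]; simp
      map_mul' := fun g k => ext fun v => by rw [← mulVec_mulVec, ← hM, ← hM, ← hM, coe_mul]; group }
  have ker : ∀ g, M g = 1 ↔ (g : G) ∈ A := fun g => by
    refine ⟨fun k => h.cA fun x hx => ?_, fun k => ext fun v => ?_⟩
    · obtain ⟨v, rfl⟩ : x ∈ j.range := hr ▸ hx
      have := hM g v.toAdd
      rw [k, one_mulVec] at this
      exact (mul_inv_eq_iff_eq_mul.1 this).symm
    · rw [← hM, h.comm _ k _ (mem _), mul_inv_cancel_right, one_mulVec]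
  have e : M'.toHomUnits.ker = A.subgroupOf _ := Subgroup.ext fun g => by
    rw [MonoidHom.mem_ker, Units.ext_iff]; exact ker g
  have r := eq_sl (X := M'.toHomUnits.range) (by
    have := M'.toHomUnits.ker.card_mul_index
    rw [index_ker, card_N h, e, Nat.card_congr (subgroupOfEquivOfLe le_normalizer).toEquiv, h.card] at this
    exact Nat.eq_of_mul_eq_mul_left (by norm_num) this)
  have det : ∀ g, (M g).det = 1 := fun g => by
    obtain ⟨s, hs⟩ : M'.toHomUnits g ∈ (SpecialLinearGroup.toGL : SL3 →* _).range := r ▸ ⟨g, rfl⟩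
    rw [← s.2]
    exact congrArg det (congrArg Units.val hs).symm
  refine ⟨MonoidHom.mk' (fun g => ⟨M g, det g⟩) fun g k => Subtype.ext (M'.map_mul g k), fun s => ?_,
    Subgroup.ext fun g => ?_, hM⟩
  · obtain ⟨g, hg⟩ : SpecialLinearGroup.toGL s ∈ M'.toHomUnits.range := r ▸ ⟨s, rfl⟩
    exact ⟨g, Subtype.ext (congrArg Units.val hg)⟩
  · exact Subtype.ext_iff.trans (ker g)

/-- The extension splits. -/
theorem exists_sec (h : H2 a A U) {ρ : normalizer (A : Set G) →* SL3} (hs : Function.Surjective ρ)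
    (hk : ρ.ker = A.subgroupOf _) : ∃ σ : SL3 →* normalizer (A : Set G), ∀ m, ρ (σ m) = m := by
  have : IsMulCommutative ρ.ker := ⟨⟨fun x y => Subtype.ext (Subtype.ext (h.comm _ (hk.le x.2) _ (hk.le y.2)))⟩⟩
  have inf : U.subgroupOf (normalizer (A : Set G)) ⊓ ρ.ker = ⊥ := by
    rw [hk, subgroupOf, subgroupOf, ← comap_inf, h.U_inf, MonoidHom.comap_bot, ker_subtype]
  have inj : ∀ {H : Subgroup (normalizer (A : Set G))}, H ⊓ ρ.ker = ⊥ → Function.Injective (ρ.comp H.subtype) :=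
    fun {H} k => (injective_iff_map_eq_one _).2 fun x hx => Subtype.ext (mem_bot.1 (k ▸ ⟨x.2, hx⟩))
  obtain ⟨H, hH⟩ := GT.gaschutz_exists ρ.ker (ρ.ker ⊔ U.subgroupOf _) (by
    have c := ((U.subgroupOf (normalizer (A : Set G))).map ρ).card_mul_index
    rw [← range_subtype (U.subgroupOf _), ← MonoidHom.range_comp,
      ← Nat.card_congr (MonoidHom.ofInjective (inj inf)).toEquiv, Nat.card_congr (subgroupOfEquivOfLe h.U_le).toEquiv,
      h.cardU, card_sl3, MonoidHom.range_comp, range_subtype] at c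
    rw [sup_comm, ← comap_map_eq, index_comap_of_surjective _ hs, hk,
      Nat.card_congr (subgroupOfEquivOfLe le_normalizer).toEquiv, h.card,
      show ((U.subgroupOf (normalizer (A : Set G))).map ρ).index = 208 by omega]
    norm_num) _ inf rfl
  have bij : Function.Bijective (ρ.comp H.subtype) := ⟨inj hH.symm.disjoint.eq_bot, fun m => by
    obtain ⟨g, rfl⟩ := hs m
    obtain ⟨⟨k, x⟩, rfl⟩ := hH.2 g
    exact ⟨x, by rw [map_mul, show ρ k = 1 from k.2, one_mul]; rfl⟩⟩
  exact ⟨H.subtype.comp (MulEquiv.ofBijective _ bij).symm.toMonoidHom, (MulEquiv.ofBijective _ bij).apply_symm_apply⟩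

/-- The upper left block. -/
def blk : PP →* SL3 := MonoidHom.mk'
  (fun g => ⟨(g : SL4).1.submatrix Fin.castSucc Fin.castSucc, by
    have := det_succ_row (g : SL4).1 3
    rw [(g : SL4).2, Fin.sum_univ_four, g.2 0, g.2 1, g.2 2, g.2 3] at this
    simpa [show (3 : Fin 4).succAbove = Fin.castSucc from Fin.succAbove_last, Even.neg_one_pow (n := 6) (by decide)]
      using this.symm⟩)
  fun g k => Subtype.ext (Matrix.ext fun i l => by
    have : (k : SL4).1 3 l.castSucc = 0 := (k.2 _).trans (if_neg (Fin.castSucc_lt_last l).ne)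
    change ∑ m, (g : SL4).1 i.castSucc m * (k : SL4).1 m l.castSucc =
      ∑ m : Fin 3, (g : SL4).1 i.castSucc m.castSucc * (k : SL4).1 m.castSucc l.castSucc
    rw [Fin.sum_univ_castSucc, show (k : SL4).1 (Fin.last 3) _ = 0 from this, mul_zero, add_zero])

/-- The last column. -/
def col (g : PP) : V3 := fun i => (g : SL4).1 i.castSucc 3

theorem col_mul (g k : PP) : col (g * k) = col g + (blk g).1 *ᵥ col k := funext fun i => by
  have : (k : SL4).1 3 3 = 1 := k.2 3
  change ∑ m, (g : SL4).1 i.castSucc m * (k : SL4).1 m 3 =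
    (g : SL4).1 i.castSucc 3 + ∑ m : Fin 3, (g : SL4).1 i.castSucc m.castSucc * (k : SL4).1 m.castSucc 3
  rw [Fin.sum_univ_castSucc, show (k : SL4).1 (Fin.last 3) _ = 1 from this, mul_one, add_comm]
  rfl

theorem eq_one {g : PP} (h1 : blk g = 1) (h2 : col g = 0) : g = 1 := Subtype.ext (Subtype.ext (Matrix.ext fun i l => by
  induction i using Fin.lastCases with
  | last => exact (g.2 l).trans ((1 : PP).2 l).symm
  | cast i =>
    induction l using Fin.lastCases with
    | last => exact (congrFun h2 i).trans (one_apply_ne (Fin.castSucc_lt_last i).ne).symm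
    | cast l =>
      refine (congrFun (congrFun (congrArg Subtype.val h1) i) l).trans ?_
      simp [one_apply]))

theorem exists_pp (m : SL3) (v : V3) : ∃ g : PP, blk g = m ∧ col g = v :=
  ⟨mk (m 0 0) (m 0 1) (m 0 2) (v 0) (m 1 0) (m 1 1) (m 1 2) (v 1) (m 2 0) (m 2 1) (m 2 2) (v 2)
    ((det_fin_three m.1).symm.trans m.2), Subtype.ext (Matrix.ext fun i l => by fin_cases i <;> fin_cases l <;> rfl),
    funext fun i => by fin_cases i <;> rfl⟩

theorem vals : (blk X14 = 1 ∧ col X14 = ![1, 0, 0]) ∧ (blk X24 = 1 ∧ col X24 = ![0, 1, 0]) ∧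
    blk X34 = 1 ∧ col X34 = ![0, 0, 1] := by decide +kernel

end Emb

theorem H2.exists_lo {a : G} {A U : Subgroup G} (h : H2 a A U) (hw : Wq a) : Nonempty (Lo G) := by
  obtain ⟨j, hj, hr, j1, hA⟩ := Emb.exists_j h
  obtain ⟨ρ, hs, hk, act⟩ := Emb.exists_rho h hj hr
  obtain ⟨σ, hσ⟩ := Emb.exists_sec h hs hk
  have mem : ∀ v, j v ∈ A := fun v => hr ▸ ⟨v, rfl⟩
  let φ : PP →* G := MonoidHom.mk' (fun g => j (Multiplicative.ofAdd (Emb.col g)) * σ (Emb.blk g)) fun g k => by
    have := act (σ (Emb.blk g)) (Emb.col k)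
    rw [hσ] at this
    rw [Emb.col_mul, ofAdd_add, map_mul, map_mul, map_mul, ← this, coe_mul]
    group
  have val : ∀ g v, Emb.blk g = 1 ∧ Emb.col g = v → φ g = j (Multiplicative.ofAdd v) := fun g v k => by
    simp [φ, k.1, k.2]
  have e1 : φ X14 = a := (val _ _ Emb.vals.1).trans j1
  refine ⟨⟨φ, (injective_iff_map_eq_one φ).2 fun g hg => ?_, e1 ▸ h.cardC, ?_, e1 ▸ hw⟩⟩
  · have h1 : (σ (Emb.blk g) : G) ∈ A := (mul_mem_cancel_left (mem _)).1 (show φ g ∈ A from hg ▸ one_mem A)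
    have h2 : Emb.blk g = 1 := (hσ _).symm.trans (hk.ge h1)
    rw [val g _ ⟨h2, rfl⟩] at hg
    exact Emb.eq_one h2 (Multiplicative.ofAdd.injective (hj (hg.trans j.map_one.symm)))
  · rw [e1, val _ _ Emb.vals.2.1, val _ _ Emb.vals.2.2, ← hA]
    refine le_antisymm ?_ fun g hg => ?_
    · rintro _ ⟨g, rfl⟩
      exact mul_mem (le_normalizer (mem _)) (σ _).2
    · obtain ⟨v, hv⟩ : g * (σ (ρ ⟨g, hg⟩) : G)⁻¹ ∈ j.range := by
        have : ⟨g, hg⟩ * (σ (ρ ⟨g, hg⟩))⁻¹ ∈ ρ.ker := by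
          rw [MonoidHom.mem_ker, map_mul, map_inv, hσ, mul_inv_cancel]
        rw [hk] at this
        exact hr ▸ this
      obtain ⟨p, p1, p2⟩ := Emb.exists_pp (ρ ⟨g, hg⟩) v.toAdd
      refine ⟨p, ?_⟩
      change j (Multiplicative.ofAdd (Emb.col p)) * σ (Emb.blk p) = g
      rw [p1, p2, ofAdd_toAdd, hv, inv_mul_cancel_right]

end Cfsg.Agent.A43
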