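import Mathlib
import Cfsg.Agent.A43.Base2

/-!
If the parabolic subgroup contains the centraliser of the involution `r`, it is the whole group.
-/

set_option autoImplicit false
set_option synthInstance.maxSize 100000
set_option synthInstance.maxHeartbeats 1000000
set_option maxRecDepth 100000

namespace Cfsg.Agent.A43

open Cfsg.Agent.Spor Cfsg.Agent.Rec Cfsg.Agent.Inv.Fz Cfsg.Agent.T16 Cfsg.Agent.T3 Cfsg.Agent.T3.LB Subgroup

universe u

variable {G : Type u} [Group G] [Finite G]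

namespace Lo

variable (s : Lo G)

omit [Finite G] in
theorem end_d1 : ∀ a ∈ s.A, a * s.r = s.r * a → a ≠ 1 → a = s.z ∨ a = s.z⁻¹ := s.hL.decide s.rep (by decide +kernel)
omit [Finite G] in
theorem end_d2 : ∀ c ∈ s.C, c * s.r = s.r * c → c ∈ s.KM := s.hL.decide s.rep (by decide +kernel)
omit [Finite G] in
theorem end_d3 : s.k ∈ s.KM ∧ s.r ∈ s.P ∧ s.r * s.r = 1 ∧ s.r ≠ 1 ∧ s.z * s.r = s.r * s.z ∧
    s.n1 * s.r * s.n1⁻¹ = s.r2 ∧ s.n2 * s.r2 * s.n2⁻¹ = s.k ∧ ∀ g ∈ s.KM, g * s.r = s.r * g :=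
  s.hL.decide s.rep (by decide +kernel)
omit [Finite G] in
theorem end_d4 : ∀ x ∈ s.P, (∀ y ∈ s.P, x * y = y * x) → x = 1 ∨ x = s.r := s.hL.decide s.rep (by decide +kernel)
omit [Finite G] in
theorem end_d5 : ∀ x ∈ s.P, x * x = 1 → x ≠ 1 → x = s.r ∨ ∃ p ∈ s.P, p * s.k * p⁻¹ = x :=
  s.hL.decide s.rep (by decide +kernel)
omit [Finite G] in
theorem end_d6 : ∀ c ∈ s.C, c * s.x24 = s.x24 * c → c * s.x34 = s.x34 * c → c ∈ s.A :=
  s.hL.decide s.rep (by decide +kernel)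

theorem end_cen (h : centralizer {s.r} ≤ s.M) : centralizer {s.r} = s.KM := by
  obtain ⟨d1, -, -, -, d5, -, -, d8⟩ := s.end_d3
  refine le_antisymm (fun g hg => ?_) fun g hg => mem_cen.2 (d8 g hg)
  have h1 := mem_cen.1 hg
  have h2 : g * s.z * g⁻¹ * s.r = s.r * (g * s.z * g⁻¹) := by
    have h3 : g⁻¹ * s.r = s.r * g⁻¹ := mem_cen.1 (inv_mem hg)
    rw [mul_assoc, h3, ← mul_assoc, mul_assoc g, d5, ← mul_assoc, h1]; group
  obtain ⟨c, hc, rfl | rfl⟩ := s.pm_z (s.end_d1 _ (conj_mem_of_mem_norm (s.M_le_N (h hg)) s.z_A) h2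
    fun e => s.z_ne (conj_eq_one.1 e))
  · exact s.end_d2 _ hc h1
  · refine mul_mem d1 (s.end_d2 _ hc (mul_left_cancel (a := s.k) ?_))
    rw [← mul_assoc, h1, ← mul_assoc, ← mul_assoc, d8 _ d1]

theorem end_inv (h : centralizer {s.r} ≤ s.M) {x : G} (hx : x ∈ s.M) (h2 : x * x = 1) (h1 : x ≠ 1) :
    ∃ m ∈ s.M, m * s.r * m⁻¹ = x := by
  obtain ⟨-, d2, -, d4, -, d6, d7, -⟩ := s.end_d3
  have hP : s.P ≤ s.M := s.les.2.2.2.2.2.2.2.2.2.2.2.2.2.2.2.1.trans s.KM_le_M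
  have hS : IsSylIn 2 s.P (centralizer {s.r}) := by
    rw [s.end_cen h]
    exact isSylIn_of_card s.les.2.2.2.2.2.2.2.2.2.2.2.2.2.2.2.1 (k := 4) (m := 9) s.gP.2 s.gKM.2 (by norm_num)
  have hM : IsSylIn 2 s.P s.M := (isSylIn_of_center hS d2 d4 s.end_d4).mono hP le_top
  obtain ⟨g, hg, hgx⟩ := exists_conj_mem_syl hM hx (k := 1) (by rw [pow_one, pow_two, h2])
  rcases s.end_d5 _ hgx (conj_sq h2) (fun e => h1 (conj_eq_one.1 e)) with e | ⟨p, hp, e⟩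
  · exact ⟨g⁻¹, inv_mem hg, by rw [← e]; group⟩
  · refine ⟨g⁻¹ * p * s.n2 * s.n1, mul_mem (mul_mem (mul_mem (inv_mem hg) (hP hp)) (mem_clos (by simp))) s.n1_M, ?_⟩
    calc _ = g⁻¹ * (p * (s.n2 * (s.n1 * s.r * s.n1⁻¹) * s.n2⁻¹) * p⁻¹) * g := by group
      _ = _ := by rw [d6, d7, e]; group

theorem end_A {D : Subgroup G} (hD : D ≤ s.M) (hc : 1053 ∣ Nat.card D) : s.A ≤ D := by
  have : Fact (Nat.Prime 13) := ⟨by norm_num⟩
  obtain ⟨θ, hθ⟩ := exists_prime_orderOf_dvd_card' (G := D) 13 (Dvd.dvd.trans (by norm_num) hc)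
  have hne : D ⊓ s.A ≠ ⊥ := fun e => by
    have h1 := card_dvd_of_le (sup_le hD (s.les.2.2.2.1.trans (s.les.2.1.trans (s.les.1.trans s.C_le_M))))
    rw [GT.card_sup_of_inf_eq_bot (hD.trans s.M_le_N) e, s.gA.2, s.card_M] at h1
    exact absurd ((mul_dvd_mul_right hc 27).trans h1) (by norm_num)
  obtain ⟨⟨x, hxD, hxA⟩, hx1⟩ := ne_bot_iff_exists_ne_one.1 hne
  replace hxD : x ∈ D := hxD
  have hx1' : x ≠ 1 := fun e => hx1 (Subtype.ext e)
  obtain ⟨m, -, hm⟩ := s.transA x hxA hx1'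
  let f : zpowers θ → (D ⊓ s.A : Subgroup G) := fun y => ⟨(y.1 : G) * x * (y.1 : G)⁻¹,
    D.mul_mem (D.mul_mem y.1.2 hxD) (D.inv_mem y.1.2), conj_mem_of_mem_norm (s.M_le_N (hD y.1.2)) hxA⟩
  have hf : Function.Injective f := fun y y' e => by
    have e1 : (y.1 : G) * x * (y.1 : G)⁻¹ = (y'.1 : G) * x * (y'.1 : G)⁻¹ := congrArg Subtype.val e
    have h1 : m⁻¹ * ((y'⁻¹ * y : zpowers θ).1 : G) * m⁻¹⁻¹ ∈ s.C := s.mem_C'.2 (by
      push_cast
      calc _ = m⁻¹ * (y'.1 : G)⁻¹ * ((y.1 : G) * (m * s.z * m⁻¹) * (y.1 : G)⁻¹) * (y'.1 : G) * m := by group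
        _ = _ := by rw [hm, e1, ← hm]; group)
    have h2 := orderOf_dvd_natCard s.C h1
    have h3 : orderOf (y'⁻¹ * y : zpowers θ) ∣ 13 := by
      rw [← hθ, ← Nat.card_zpowers θ]; exact _root_.orderOf_dvd_natCard _
    rw [s.gC.2, ← MulAut.conj_apply, MulEquiv.orderOf_eq, orderOf_coe, orderOf_coe] at h2
    exact (inv_mul_eq_one.1 (orderOf_eq_one_iff.1 (Nat.eq_one_of_dvd_coprimes (by norm_num) h3 h2))).symm
  have h13 := Nat.card_le_card_of_injective f hf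
  rw [Nat.card_zpowers, hθ] at h13
  have h27 := card_dvd_of_le (inf_le_right : D ⊓ s.A ≤ s.A)
  rw [s.gA.2] at h27
  have h4 : Nat.card (D ⊓ s.A : Subgroup G) = 27 := by
    have := Nat.le_of_dvd (by norm_num) h27
    generalize Nat.card (D ⊓ s.A : Subgroup G) = n at *
    interval_cases n <;> simp_all
  exact (eq_of_le_of_card_ge inf_le_right (s.gA.2.trans h4.symm).le).symm.le.trans inf_le_left

theorem M_top (h : centralizer {s.r} ≤ s.M) : s.M = ⊤ := by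
  by_contra hM
  obtain ⟨-, d2, d3, d4, -⟩ := s.end_d3
  obtain ⟨c, -, hc, hd⟩ := ot_dvd (M := s.M) (L := ⊤) (d := s.r) (mem_top _) (s.C_le_M s.r_C) d3
    (fun g _ hg => by
      obtain ⟨m, hm, e⟩ := s.end_inv h hg (conj_sq d3) fun e => d4 (conj_eq_one.1 e)
      refine (mul_mem_cancel_left (inv_mem hm)).1 (h (mem_cen'.2 ?_))
      calc _ = m⁻¹ * (g * s.r * g⁻¹) * m := by group
        _ = _ := by rw [← e]; group)
    (fun g _ hg hne hcm x _ hx => by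
      obtain ⟨m, hm, e⟩ := s.end_inv h (mul_mem hg (s.C_le_M s.r_C))
        (by rw [hcm.symm.mul_mul_mul_comm, d3, mul_one, conj_sq d3])
        fun e => hne (by rw [eq_inv_of_mul_eq_one_left e, inv_eq_of_mul_eq_one_left d3])
      refine (mul_mem_cancel_left (inv_mem hm)).1 ((mul_mem_cancel_right hm).1 (h (mem_cen'.2 ?_)))
      calc _ = m⁻¹ * (x * (m * s.r * m⁻¹) * x⁻¹) * m := by group
        _ = _ := by rw [e, hx.eq, ← e]; group)
    fun e => hM (top_le_iff.1 e)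
  have h1 := Inv.Fz.card_mul_relIndex h
  rw [s.card_M, s.end_cen h, s.gKM.2, ← s.end_cen h] at h1
  rw [top_inf_eq, show (centralizer {s.r}).relIndex s.M = 1053 by omega] at hd
  have hA := s.end_A inf_le_left hd
  have hA' : s.A ≤ cj c (s.M ⊓ cj c⁻¹ s.M) := s.end_A (fun x hx => by
    simpa [mul_assoc] using mem_cj.1 (mem_cj.1 hx).2) (by rwa [card_cj])
  have hy : c⁻¹ * s.z * c ∈ s.M := (mem_cj.1 (hA' s.z_A)).1
  have hcm : ∀ a ∈ s.A, c⁻¹ * s.z * c * a = a * (c⁻¹ * s.z * c) := fun a ha => by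
    by_contra hne
    have h2 : c * a * c⁻¹ ∈ s.M := by simpa using mem_cj.1 (hA ha).2
    refine hc (s.memM (a := c⁻¹ * s.z * c * a * (c⁻¹ * s.z * c)⁻¹ * a⁻¹)
      (mul_mem (conj_mem_of_mem_norm (s.M_le_N hy) ha) (inv_mem ha)) (fun e => hne ?_) ?_)
    · rwa [mul_inv_eq_one, mul_inv_eq_iff_eq_mul] at e
    · convert mul_mem s.z_A (conj_mem_of_mem_norm (s.M_le_N h2) (inv_mem s.z_A)) using 1; group
  exact hc ((inv_mem_iff (x := c)).1 (s.memM s.z_A s.z_ne (by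
    rw [inv_inv]
    exact s.end_d6 _ (s.mem_C.2 (hcm _ s.z_A)) (hcm _ (mem_clos (by simp))) (hcm _ (mem_clos (by simp))))))

end Lo

end Cfsg.Agent.A43
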