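import Mathlib
import Cfsg.Agent.A43.Defs
import Cfsg.Agent.T3.LocB2

/-! From the hypotheses to `H0` (PLAN section Hyp). -/

set_option autoImplicit false
set_option linter.unusedSectionVars false

namespace Cfsg.Agent.A43

open Cfsg.Agent.Spor Cfsg.Agent.Rec Cfsg.Agent.Inv.Fz Cfsg.Agent.T16 Cfsg.Agent.T3 Cfsg.Agent.T3.LB Subgroup

universe u

variable {G : Type u} [Group G] [Finite G]

namespace Hyp

open Cfsg.Agent.GT.PG

theorem s_three : ∀ m : S3, ∃ u : S3, u ^ 3 = 1 ∧ ∃ v : S3, v ^ 3 = 1 ∧ (v⁻¹ * u⁻¹ * m) ^ 3 = 1 := by decide +kernel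
theorem s_two : ∀ m : S3, m * m = 1 → m = 1 ∨ m = -1 := by decide +kernel
theorem s_tri : ∀ m : S3, m ^ 4 = 1 → (m * m = 1 ∨ m * m = -1) ∧
    (m * (tv 1 * m * (tv 1)⁻¹) * (tv 1 * (tv 1 * m * (tv 1)⁻¹) * (tv 1)⁻¹) = 1 ∨
      m * (tv 1 * m * (tv 1)⁻¹) * (tv 1 * (tv 1 * m * (tv 1)⁻¹) * (tv 1)⁻¹) = -1) := by decide +kernel
theorem s_misc : (-1 : S3) ≠ 1 ∧ (-1 : S3) ^ 3 = -1 ∧ (-1 : S3) ^ 2 = 1 ∧ tv 1 ^ 3 = 1 := by decide +kernel

theorem res_top {Y : Type*} [Group Y] (e : Y ≃* S3) (y : Y) : y ∈ pResidual 2 Y := by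
  have k : ∀ m : S3, m ^ 3 = 1 → e.symm m ∈ pResidual 2 Y := fun m h => subset_closure
    (Nat.Coprime.coprime_dvd_left (orderOf_dvd_of_pow_eq_one (n := 3) (by rw [← map_pow, h, map_one])) (by norm_num))
  obtain ⟨u, u3, v, v3, w3⟩ := s_three (e y)
  have := mul_mem (mul_mem (k _ u3) (k _ v3)) (k _ w3)
  rwa [← map_mul, ← map_mul, show u * v * (v⁻¹ * u⁻¹ * e y) = e y by group, e.symm_apply_apply] at this

/-- A non-central step of a chief chain. -/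
structure Step (a : G) (B B' : Subgroup G) : Prop where
  z : zpowers a ≤ B
  lt : B < B'
  le : B' ≤ Q3 a
  inv : ∀ g : centralizer ({a} : Set G), ∀ x ∈ B, g * x * (g : G)⁻¹ ∈ B
  inv' : ∀ g : centralizer ({a} : Set G), ∀ x ∈ B', g * x * (g : G)⁻¹ ∈ B'
  max : ∀ D, B < D → D < B' → ∃ g : centralizer ({a} : Set G), ∃ x ∈ D, g * x * (g : G)⁻¹ ∉ D
  nc : ∃ g : centralizer ({a} : Set G), ∃ x ∈ B', g * x * (g : G)⁻¹ * x⁻¹ ∉ B

theorem om_div {Q : Subgroup G} {a : G} (h : ESZ 3 Q a) {p q v : G} (hp : p ∈ Q) (hq : q ∈ Q) (hv : v ∈ Q) :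
    om a (p * q⁻¹) v = om a p v - om a q v := by
  rw [om_mul_left h hp (inv_mem hq) hv, om_inv_left h hq hv, sub_eq_add_neg]

theorem dl3 {a u x : G} (ex : Ex a) (ua : u * a = a * u) (u3 : u ^ 3 ∈ Q3 a) (hx : x ∈ Q3 a) {x1 x2 : G}
    (h1 : x1 = u * x * u⁻¹ * x⁻¹) (h2 : x2 = u * x1 * u⁻¹ * x1⁻¹) : u * x2 * u⁻¹ * x2⁻¹ ∈ zpowers a := by
  have es := ex.esz
  have cq : ∀ q ∈ Q3 a, u * q * u⁻¹ ∈ Q3 a := fun q hq => conj_mem_of_mem_norm (norm_Q3 ua) hq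
  have m1 := cq _ hx
  have m2 := cq _ m1
  have m3 := cq _ m2
  have k := ex.comm _ u3 _ hx
  rw [show u ^ 3 * x * (u ^ 3)⁻¹ = u * (u * (u * x * u⁻¹) * u⁻¹) * u⁻¹ by simp only [pow_three]; group] at k
  have e : u * x2 * u⁻¹ * x2⁻¹ = u * (u * (u * x * u⁻¹) * u⁻¹) * u⁻¹ * (u * (u * x * u⁻¹) * u⁻¹)⁻¹ *
      (u * (u * x * u⁻¹) * u⁻¹ * (u * x * u⁻¹)⁻¹)⁻¹ *
      (u * (u * x * u⁻¹) * u⁻¹ * (u * x * u⁻¹)⁻¹ * (u * x * u⁻¹ * x⁻¹)⁻¹)⁻¹ := by rw [h2, h1]; group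
  rw [e]
  generalize u * (u * (u * x * u⁻¹) * u⁻¹) * u⁻¹ = X3 at *
  generalize u * (u * x * u⁻¹) * u⁻¹ = X2 at *
  generalize u * x * u⁻¹ = X1 at *
  have n1 := mul_mem m1 (inv_mem hx)
  have n2 := mul_mem m2 (inv_mem m1)
  have n3 := mul_mem m3 (inv_mem m2)
  have n4 := mul_mem n2 (inv_mem n1)
  have n5 := mul_mem n3 (inv_mem n2)
  refine es.mem_zpowers_of_forall_commute (mul_mem n5 (inv_mem n4)) fun v hv =>
    ((om_eq_zero es (mul_mem n5 (inv_mem n4)) hv).1 ?_).symm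
  have k' := om_z_left es k hv
  rw [om_div es m3 hx hv] at k'
  rw [om_div es n5 n4 hv, om_div es n3 n2 hv, om_div es n2 n1 hv, om_div es m3 m2 hv, om_div es m2 m1 hv,
    om_div es m1 hx hv]
  linear_combination k' + (om a X1 v - om a X2 v) * (by decide : (3 : ZMod 3) = 0)

theorem Step.moved {a : G} {B B' : Subgroup G} (h : Step a B B') (ex : Ex a) (ψ : centralizer ({a} : Set G) →* S3)
    (surj : Function.Surjective ψ) (ker : ∀ g, ψ g = 1 → (g : G) ∈ Q3 a) :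
    ∃ g : centralizer ({a} : Set G), ψ g ^ 4 = 1 ∧ ∃ x ∈ B', g * x * (g : G)⁻¹ * x⁻¹ ∉ B := by
  by_contra! hR
  obtain ⟨u, hu⟩ := surj (tv 1)
  have dl : ∀ x ∈ B', u * x * (u : G)⁻¹ * x⁻¹ ∈ B' := fun x hx => mul_mem (h.inv' u x hx) (inv_mem hx)
  obtain ⟨x, hx, hx', ux⟩ : ∃ x ∈ B', x ∉ B ∧ u * x * (u : G)⁻¹ * x⁻¹ ∈ B := by
    obtain ⟨x, hx, hx'⟩ := SetLike.exists_of_lt h.lt
    by_contra! k
    exact k _ (dl _ (dl x hx)) (k _ (dl x hx) (k x hx hx')) (h.z (dl3 ex (mem_cen.1 u.2)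
      (ker (u ^ 3) (by rw [map_pow, hu, s_misc.2.2.2])) (h.le hx) rfl rfl))
  have mul : ∀ g k : centralizer ({a} : Set G), g * x * (g : G)⁻¹ * x⁻¹ ∈ B → k * x * (k : G)⁻¹ * x⁻¹ ∈ B →
      (g * k : centralizer ({a} : Set G)) * x * ((g * k : centralizer ({a} : Set G)) : G)⁻¹ * x⁻¹ ∈ B := by
    intro g k hg hk
    have := mul_mem (h.inv g _ hk) hg
    convert this using 1
    push_cast; group
  have pw : ∀ n : ℕ, (u ^ n : centralizer ({a} : Set G)) * x * ((u ^ n : centralizer ({a} : Set G)) : G)⁻¹ * x⁻¹ ∈ B := by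
    intro n
    induction n with
    | zero => simp
    | succ n ih => rw [pow_succ]; exact mul _ _ ih ux
  have all : ∀ g : centralizer ({a} : Set G), g * x * (g : G)⁻¹ * x⁻¹ ∈ B := fun g => by
    obtain ⟨ρ, h4, k, e⟩ := s_dec (ψ g)
    have := mul _ _ (hR (g * (u ^ k.val)⁻¹) (by rw [map_mul, map_inv, map_pow, hu, e, mul_inv_cancel_right, h4]) x hx) (pw k.val)
    rwa [inv_mul_cancel_right] at this
  have cb : ∀ y ∈ B', ∀ b ∈ B, y * b * y⁻¹ ∈ B := fun y hy b hb => h.inv ⟨y, map_subtype_le _ (h.le hy)⟩ b hb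
  let D : Subgroup G :=
    { carrier := {y | y ∈ B' ∧ ∀ g : centralizer ({a} : Set G), g * y * (g : G)⁻¹ * y⁻¹ ∈ B}
      one_mem' := ⟨one_mem _, fun g => by simp⟩
      mul_mem' := fun {y w} hy hw => ⟨mul_mem hy.1 hw.1, fun g => by
        have := mul_mem (hy.2 g) (cb y hy.1 _ (hw.2 g))
        convert this using 1; group⟩
      inv_mem' := fun {y} hy => ⟨inv_mem hy.1, fun g => by
        have := cb _ (inv_mem hy.1) _ (inv_mem (hy.2 g))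
        convert this using 1; group⟩ }
  have BD : B ≤ D := fun b hb => ⟨h.lt.le hb, fun g => mul_mem (h.inv g b hb) (inv_mem hb)⟩
  obtain ⟨g, y, hy, k⟩ := h.nc
  obtain ⟨g', w, hw, k'⟩ := h.max D (lt_of_le_of_ne BD fun e => hx' (e.ge ⟨hx, all⟩))
    (lt_of_le_of_ne (fun _ hw => hw.1) fun e => k ((e.ge hy).2 g))
  exact k' (by simpa using mul_mem (BD (hw.2 g')) hw)

theorem neg_of {a : G} (ex : Ex a) (exp : ∀ q ∈ Q3 a, q ^ 3 = 1) (ψ : centralizer ({a} : Set G) →* S3)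
    (surj : Function.Surjective ψ) (ker : ∀ g, ψ g = 1 ↔ (g : G) ∈ Q3 a) {B1 B1' B2 B2' : Subgroup G}
    (h1 : Step a B1 B1') (h2 : Step a B2 B2') (le : B1' ≤ B2) (g : centralizer ({a} : Set G)) (hg : ψ g = -1) :
    ∀ q ∈ Q3 a, Iz a g q := by
  have es := ex.esz
  have ca : ∀ g : centralizer ({a} : Set G), (g : G) * a = a * g := fun g => mem_cen.1 g.2
  have cq : ∀ g : centralizer ({a} : Set G), ∀ q ∈ Q3 a, (g : G) * q * (g : G)⁻¹ ∈ Q3 a := fun g q hq =>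
    conj_mem_of_mem_norm (norm_Q3 (ca g)) hq
  obtain ⟨r, hr, r2⟩ : ∃ r : centralizer ({a} : Set G), ψ r = -1 ∧ (r : G) * r = 1 := by
    refine ⟨g ^ 3, by rw [map_pow, hg, s_misc.2.1], ?_⟩
    have := exp _ ((ker (g ^ 2)).1 (by rw [map_pow, hg, s_misc.2.2.1]))
    push_cast at this ⊢
    rw [← this]; group
  have tr : ∀ g, ψ g = -1 → ∀ q ∈ Q3 a, Iz a r q → Iz a g q := fun g hg q hq h => by
    have := (iz_q es ((ker (g * r⁻¹)).1 (by rw [map_mul, map_inv, hg, hr, mul_inv_cancel])) (cq r q hq)).2 h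
    simpa using this
  rcases ex.types r2 (fun e => s_misc.1 (by rw [← hr, show r = 1 from Subtype.ext e, map_one])) (ca r) with
    hA | ⟨P1, P2, x, y, s, p1, tx, ty, c2⟩
  · exact fun q hq => tr g hg q hq (hA q hq)
  exfalso
  have i1 : ∀ u ∈ P1, Iz a r u := fun u hu => p1.iz (ca r) tx ty hu
  have n1 : centralizer ({a} : Set G) ≤ normalizer (P1 : Set G) := fun g hg => by
    rw [← cj_eq_iff]
    refine eq_of_le_of_card_ge (cj_le_iff.2 fun u hu => s.mem_iff i1 c2 (cq ⟨g, hg⟩ u (s.le1 hu)) ?_) (card_cj _ _).ge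
    have := (iz_conj (mem_cen.1 hg)).2 (tr (⟨g, hg⟩⁻¹ * r * ⟨g, hg⟩) (by simp [hr]) u (s.le1 hu) (i1 u hu))
    simpa [mul_assoc] using this
  have n2 : centralizer ({a} : Set G) ≤ normalizer (P2 : Set G) := fun g hg => s.norm2 (norm_Q3 (mem_cen.1 hg)) (n1 hg)
  obtain ⟨x2, hx2, y2, hy2, xy2⟩ := s.es2.exists_pair fun e => by have := s.es2.eq_zpowers_iff_card.1 e; have := s.c2; omega
  have p2 : P27 P2 a x2 y2 := ⟨s.es2, s.c2, hx2, hy2, xy2⟩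
  obtain ⟨χ, act2, ker2⟩ := p2.exists_psi le_rfl n2
  have one : ∀ g : centralizer ({a} : Set G), (∀ u ∈ P2, g * u * (g : G)⁻¹ * u⁻¹ ∈ zpowers a) → χ g = 1 := fun g k => by
    obtain ⟨-, e1, e2⟩ := om_co p2 (act2 g).1
    obtain ⟨-, e3, -⟩ := om_co p2 (act2 g).2
    obtain ⟨-, f1, f2⟩ := om_co p2 (w := g * x2 * (g : G)⁻¹) (i := 1) (j := 0) (by simpa [ZMod.val_one] using k _ hx2)
    obtain ⟨-, f3, -⟩ := om_co p2 (w := g * y2 * (g : G)⁻¹) (i := 0) (j := 1) (by simpa [ZMod.val_one] using k _ hy2)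
    exact s_ext _ (e1.symm.trans f1) (e2.symm.trans f2) (e3.symm.trans f3)
  have oq : ∀ g, ψ g = 1 → χ g = 1 := fun g e => one g fun u hu => ex.comm _ ((ker g).1 e) _ (s.le2 hu)
  have pm : ∀ g, ψ g = 1 ∨ ψ g = -1 → χ g = 1 := by
    rintro g (e | e)
    · exact oq g e
    · rw [← inv_mul_cancel_right g r, map_mul, oq _ (by rw [map_mul, map_inv, e, hr, mul_inv_cancel]),
        one r fun u hu => by rw [c2 u hu]; simp, one_mul]
  obtain ⟨c, hc⟩ := surj (tv 1)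
  have oR : ∀ g, ψ g ^ 4 = 1 → χ g = 1 := fun g h4 => by
    have sq : χ g * χ g = 1 := by rw [← map_mul]; exact pm _ (by rw [map_mul]; exact (s_tri _ h4).1)
    have k := pm (g * (c * g * c⁻¹) * (c * (c * g * c⁻¹) * c⁻¹)) (by
      simp only [map_mul, map_inv, hc]; exact (s_tri _ h4).2)
    simp only [map_mul, map_inv] at k
    rcases s_two _ sq with e | e
    · exact e
    · rw [e] at k; simpa [e] using k
  have qR : ∀ g, ψ g ^ 4 = 1 → ∀ q ∈ Q3 a, g * q * (g : G)⁻¹ * q⁻¹ ∈ P1 := fun g h4 q hq => by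
    obtain ⟨u, hu, v, hv, rfl⟩ := s.dec q hq
    rw [show (g : G) * (u * v) * (g : G)⁻¹ * (u * v)⁻¹ = g * u * (g : G)⁻¹ * (g * v * (g : G)⁻¹ * v⁻¹) * u⁻¹ by group]
    exact mul_mem (mul_mem (conj_mem_of_mem_norm (n1 g.2) hu) (s.es1.zpowers_le (ker2 g (oR g h4) v hv))) (inv_mem hu)
  obtain ⟨g2, k2, w2, hw2, e2⟩ := h2.moved ex ψ surj fun g => (ker g).1
  refine e2 (le ((?_ : P1 ≤ B1') (qR g2 k2 _ (h2.le hw2))))
  obtain ⟨g1, k1, w1, hw1, e1⟩ := h1.moved ex ψ surj fun g => (ker g).1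
  have wP := qR g1 k1 _ (h1.le hw1)
  have wB := mul_mem (h1.inv' g1 _ hw1) (inv_mem hw1)
  have wz := fun h => e1 (h1.z h)
  generalize g1 * w1 * (g1 : G)⁻¹ * w1⁻¹ = w at wP wB wz
  obtain ⟨i, hi⟩ := surj ww
  have wP' := conj_mem_of_mem_norm (n1 i.2) wP
  have wB' := h1.inv' i _ wB
  have fin : ∀ w' ∈ P1, w' ∈ B1' → om a w w' = 1 → P1 ≤ B1' := fun w' m1 m2 e => by
    rw [(P27.mk s.es1 s.c1 wP m1 (comm_of_om s.es1 wP m1 e)).eq_clos, clos_le]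
    simp only [List.forall_mem_cons, List.not_mem_nil, false_imp_iff, implies_true, and_true]
    exact ⟨h1.lt.le (h1.z (mem_zpowers a)), wB, m2⟩
  have tri : ∀ t : ZMod 3, t = 0 ∨ t = 1 ∨ -t = 1 := by decide
  rcases tri (om a w (i * w * (i : G)⁻¹)) with e | e | e
  · exfalso
    obtain ⟨z, hz, k, ek⟩ := cen_w s.es1 s.c1 wP wz wP' ((om_eq_zero s.es1 wP wP').1 e).symm
    have wQ := s.le1 wP
    have f : ∀ v ∈ Q3 a, om a (i * w * (i : G)⁻¹) v = om a w v * k := fun v hv => by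
      rw [ek, om_mul_left es (es.zpowers_le hz) (pow_mem wQ _) hv, om_z_left es hz hv, om_pow_left es wQ hv, zero_add]
    obtain ⟨v, hv, ev⟩ := es.exists_commutator_eq wQ wz
    have hv' := cq i⁻¹ v hv
    have f1 := om_z_left es (tr (i * i) (by rw [map_mul, hi, ww_rel.2.1]) w wQ (i1 w wP)) hv
    have f2 := om_conj es (ca i) (cq i w wQ) hv'
    have f3 := om_conj es (ca i) wQ hv'
    rw [show (i : G) * ((i⁻¹ : centralizer ({a} : Set G)) * v * ((i⁻¹ : centralizer ({a} : Set G)) : G)⁻¹) * (i : G)⁻¹ = v by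
      push_cast; group] at f2 f3
    rw [om_mul_left es (cq _ w wQ) wQ hv, show ((i * i : centralizer ({a} : Set G)) : G) * w *
      ((i * i : centralizer ({a} : Set G)) : G)⁻¹ = i * (i * w * (i : G)⁻¹) * (i : G)⁻¹ by push_cast; group, f2, f _ hv',
      ← f3, f _ hv, om_one es ev] at f1
    exact (by decide : ∀ k : ZMod 3, 1 * k * k + 1 ≠ 0) k f1
  · exact fin _ wP' wB' e
  · exact fin _ (inv_mem wP') (inv_mem wB') (by rw [om_inv_right s.es1 wP wP', e])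

end Hyp

open Hyp in
theorem exists_h0 (S : Sylow 3 G) (Z : Subgroup G) (hZ : Z = (S : Subgroup G) ⊓ centralizer ((S : Subgroup G) : Set G))
    (C : Subgroup G) (hCZ : C = centralizer (Z : Set G))
    (Q : Subgroup G) (hQ : Q = (Cfsg.pCore 3 C).map C.subtype)
    (hQex : Cfsg.IsExtraspecial 3 Q) (hQcard : Nat.card Q = 3 ^ 5) (hQexp : ∀ a ∈ Q, a ^ 3 = 1)
    (hCQ : centralizer (Q : Set G) ≤ Q)
    (hZQ : ∃ x : G, Z.map (MulAut.conj x).toMonoidHom ≤ Q ∧ Z.map (MulAut.conj x).toMonoidHom ≠ Z)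
    (K : Subgroup G) (hK : K = ((Cfsg.pResidual 2 (C ⧸ Cfsg.pCore 3 C)).comap
      (QuotientGroup.mk' (Cfsg.pCore 3 C))).map C.subtype)
    (r : ℕ) (A : Fin (r + 1) → Subgroup G) (hA0 : A 0 = Z) (hAr : A (Fin.last r) = Q)
    (hmono : ∀ i : Fin r, A i.castSucc < A i.succ)
    (hinv : ∀ i : Fin (r + 1), ∀ k ∈ K, ∀ a ∈ A i, k * a * k⁻¹ ∈ A i)
    (hmax : ∀ i : Fin r, ∀ B : Subgroup G, A i.castSucc < B → B < A i.succ → ∃ k ∈ K, ∃ b ∈ B, k * b * k⁻¹ ∉ B)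
    (e : C ⧸ Cfsg.pCore 3 C ≃* Matrix.SpecialLinearGroup (Fin 2) (ZMod 3))
    (htwo : ∃ i j : Fin r, i ≠ j ∧ (∃ k ∈ K, ∃ a ∈ A i.succ, k * a * k⁻¹ * a⁻¹ ∉ A i.castSucc) ∧
      (∃ k ∈ K, ∃ a ∈ A j.succ, k * a * k⁻¹ * a⁻¹ ∉ A j.castSucc)) :
    ∃ (a y : G) (_ : H0 a), y ∈ Q3 a ∧ y ∉ zpowers a ∧ ZE a y := by
  have SC : (S : Subgroup G) ≤ C := fun g hg => by
    rw [hCZ]
    intro z hz
    rw [hZ] at hz
    exact (hz.2 g hg).symm
  have QS : Q ≤ S := hQ ▸ GT.pCoreOf_le_sylow_of_le S SC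
  obtain ⟨z, hz, -⟩ := GT.PG.exists_esz hQex
  have Zz : Z ≤ zpowers z := fun w hw => by
    rw [hZ] at hw
    have : w ∈ centralizer (Q : Set G) := centralizer_le QS hw.2
    exact hz.center_eq ▸ ⟨hCQ this, this⟩
  obtain ⟨a, aZ, a1⟩ : ∃ a ∈ Z, a ≠ 1 := by
    have : Nontrivial S := ⟨⟨⟨z, QS hz.z_mem⟩, 1, fun h => hz.z_ne_one (congrArg Subtype.val h)⟩⟩
    have := S.isPGroup'.center_nontrivial
    obtain ⟨w, hw⟩ := exists_ne (1 : center S)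
    refine ⟨w.1, hZ ▸ ⟨w.1.2, fun g hg => congrArg Subtype.val (mem_center_iff.1 w.2 ⟨g, hg⟩)⟩, fun h => hw ?_⟩
    exact Subtype.ext (Subtype.ext h)
  have az := hz.zpowers_eq_of_mem (Zz aZ) a1
  have Za : Z = zpowers a := le_antisymm (az ▸ Zz) (zpowers_le.2 aZ)
  have hC : C = centralizer {a} := by rw [hCZ, Za, zpowers_eq_closure, centralizer_closure]
  clear hCZ hZ
  subst hC
  have eQ : Q = Q3 a := hQ
  clear hQ
  subst eQ Za
  have ex : Ex a := ⟨by rw [← Nat.card_zpowers, az, hz.card_zpowers], hz.zpowers_le (Zz aZ), by rw [hQcard]; norm_num,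
    az ▸ hz.comm_mem, fun g hg => az ▸ hz.center_eq ▸ ⟨hCQ hg, hg⟩⟩
  have kψ : ∀ g, e.toMonoidHom.comp (QuotientGroup.mk' _) g = 1 ↔ (g : G) ∈ Q3 a := fun g => by
    rw [MonoidHom.comp_apply, map_eq_one_iff e.toMonoidHom e.injective, QuotientGroup.mk'_apply, QuotientGroup.eq_one_iff]
    exact (mem_map_iff_mem (f := (centralizer ({a} : Set G)).subtype) (subtype_injective _)).symm
  have sψ : Function.Surjective (e.toMonoidHom.comp (QuotientGroup.mk' _)) :=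
    e.surjective.comp (QuotientGroup.mk'_surjective _)
  have CK : ∀ g : centralizer ({a} : Set G), (g : G) ∈ K := fun g => by rw [hK]; exact ⟨g, res_top e _, rfl⟩
  have KC : K ≤ centralizer {a} := by rw [hK]; exact map_subtype_le _
  have mono := (Fin.strictMono_iff_lt_succ.2 hmono).monotone
  have st : ∀ i : Fin r, (∃ k ∈ K, ∃ a ∈ A i.succ, k * a * k⁻¹ * a⁻¹ ∉ A i.castSucc) → Step a (A i.castSucc) (A i.succ) := by
    rintro i ⟨k, hk, h⟩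
    refine ⟨hA0.ge.trans (mono (Fin.zero_le _)), hmono i, (mono (Fin.le_last _)).trans hAr.le, fun g => hinv _ _ (CK g),
      fun g => hinv _ _ (CK g), fun D h1 h2 => ?_, ⟨k, KC hk⟩, h⟩
    obtain ⟨k, hk, h⟩ := hmax i D h1 h2
    exact ⟨⟨k, KC hk⟩, h⟩
  obtain ⟨i, j, ij, hi, hj⟩ := htwo
  obtain ⟨x, hx, hx'⟩ := hZQ
  refine ⟨a, x * a * x⁻¹, ⟨_, ex, hQexp, sψ, kψ, ?_⟩, hx ⟨a, mem_zpowers a, rfl⟩, fun h => hx' ?_,
    Or.inl (isConj_iff.2 ⟨x, rfl⟩)⟩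
  · rcases lt_or_gt_of_ne ij with h | h
    · exact neg_of ex hQexp _ sψ kψ (st i hi) (st j hj) (mono (Fin.succ_le_castSucc_iff.2 h))
    · exact neg_of ex hQexp _ sψ kψ (st j hj) (st i hi) (mono (Fin.succ_le_castSucc_iff.2 h))
  · refine eq_of_le_of_card_ge ?_ (card_map_of_injective (MulAut.conj x).injective).ge
    rw [MonoidHom.map_zpowers]
    exact zpowers_le.2 h

end Cfsg.Agent.A43
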