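import Mathlib
import Cfsg.Agent.A43.Base2
import Cfsg.Agent.T16.Kit3B
import Cfsg.Agent.GT.TransferYoshida

/-! The centraliser of `x₁₃` lies in the parabolic subgroup (Hall–Wielandt and Smith–Tyrer). -/

set_option autoImplicit false
set_option synthInstance.maxSize 100000
set_option synthInstance.maxHeartbeats 1000000
set_option maxRecDepth 100000
set_option exponentiation.threshold 100000
set_option linter.unusedSectionVars false

namespace Cfsg.Agent.A43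

open Cfsg.Agent.Spor Cfsg.Agent.Rec Cfsg.Agent.Inv.Fz Cfsg.Agent.T16 Cfsg.Agent.T3 Cfsg.Agent.T3.LB Subgroup

universe u

variable {G : Type u} [Group G] [Finite G]

namespace Two

theorem zp2 {x y : G} (h : x * x = 1) (hy : y ∈ zpowers x) : y = 1 ∨ y = x := by
  obtain ⟨k, rfl⟩ := hy
  have h2 : x ^ (2 : ℤ) = 1 := by rw [zpow_two, h]
  obtain ⟨j, rfl | rfl⟩ := Int.even_or_odd' k
  · left; simp only [zpow_mul, h2, one_zpow]
  · right; simp only [zpow_add, zpow_mul, h2, one_zpow, one_mul, zpow_one]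

theorem eq_one_of_cop {P : Subgroup G} (hP : IsPGroup 3 P) {x : G} (hx : x ∈ P) (h : (orderOf x).Coprime 3) : x = 1 := by
  obtain ⟨k, hk⟩ := hP ⟨x, hx⟩
  exact orderOf_eq_one_iff.1 (Nat.eq_one_of_dvd_coprimes (h.pow_right k) dvd_rfl
    (orderOf_dvd_of_pow_eq_one (congrArg Subtype.val hk)))

theorem syl_of_sq {T K : Subgroup G} (hT : IsPGroup 3 T) (h : T ≤ K)
    (h2 : ∀ g ∈ K, g ∈ normalizer (T : Set G) → g * g ∈ T) : IsSylIn 3 T K := by
  have := Fact.mk Nat.prime_three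
  refine isSylIn_of_normalizer (H := K ⊓ normalizer (T : Set G)) ⟨le_inf h le_normalizer, hT, fun Q hQ h1 h3 =>
    le_antisymm (fun x hx => ?_) h3⟩ h fun g a b => ⟨a, b⟩
  obtain ⟨k, hk⟩ := hQ ⟨x, hx⟩
  obtain ⟨j, hj⟩ : Odd (3 ^ k) := Odd.pow (by decide)
  have h4 : x ^ 3 ^ k = 1 := congrArg Subtype.val hk
  rw [hj, pow_succ, pow_mul, pow_two, mul_eq_one_iff_inv_eq] at h4
  exact h4 ▸ inv_mem (pow_mem (h2 x (h1 hx).1 (h1 hx).2) j)

theorem abs (P : Sylow 3 G) {E : Subgroup G} {w : G} (hE : E ≤ P) (w2 : w * w = 1) (wP : w ∉ (P : Subgroup G))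
    (wN : ∀ x ∈ (P : Subgroup G), w * x * w⁻¹ ∈ (P : Subgroup G))
    (hc : ∀ x ∈ E, ∀ y ∈ E, x * y = y * x) (h3 : ∀ x ∈ E, x ^ 3 = 1) (h9 : 3 < Nat.card E)
    (hi : ∀ x ∈ E, w * x * w⁻¹ = x⁻¹)
    (hP : ∀ u ∈ (P : Subgroup G), ∀ z ∈ (P : Subgroup G), (fun y : G => y⁻¹ * z⁻¹ * y * z)^[2] u = 1)
    (nP : ∀ g ∈ normalizer ((P : Subgroup G) : Set G), g ∈ (P : Subgroup G) ∨ g * w ∈ (P : Subgroup G))
    (nE : ∀ g ∈ normalizer (E : Set G), g ∈ (P : Subgroup G) ∨ g * w ∈ (P : Subgroup G))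
    (h2 : ∀ t ∈ (P : Subgroup G), t * (w * t * w⁻¹) ∈ E → t ∈ E) (PE : (P : Subgroup G) ≤ normalizer (E : Set G))
    (hO : ∀ M : Subgroup G, M.Normal → (Nat.card M).Coprime 3 → M = ⊥) : normalizer (E : Set G) = ⊤ := by
  have := Fact.mk Nat.prime_three
  have wi : w⁻¹ = w := inv_eq_of_mul_eq_one_right w2
  have wE : w ∈ normalizer (E : Set G) := mem_normalizer_of_conj_mem fun x hx => hi x hx ▸ inv_mem hx
  have h1 : w ∈ pResidual 3 G := GT.mem_pResidual (Nat.Coprime.coprime_dvd_left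
    (orderOf_dvd_of_pow_eq_one ((pow_two w).trans w2)) (by decide))
  have h4 : E ≤ pResidual 3 G := fun x hx => by
    have : x = w * (x * w⁻¹ * x⁻¹) := by
      calc x = x ^ 3 * (x⁻¹ * x⁻¹) := by group
        _ = w * x * w⁻¹ * x⁻¹ := by rw [hi x hx, h3 x hx, one_mul]
        _ = _ := by group
    exact this ▸ mul_mem h1 (Normal.conj_mem inferInstance _ (inv_mem h1) x)
  have h5 : (P : Subgroup G) ⊓ pResidual 3 G = E := by
    refine le_antisymm (fun x hx => ?_) (le_inf hE h4)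
    obtain ⟨y, hy, rfl⟩ := (GT.Tr.hall_wielandt P ⟨le_rfl, fun g e => eq_of_le_of_card_ge e
      (card_map_of_injective (MulAut.conj g).injective).ge⟩ hP).ge ⟨hx.2, le_normalizer hx.1⟩
    have h6 : (y : G) ∈ E ⊔ zpowers w := GT.pResidual_le_iff (K := (E ⊔ zpowers w).subgroupOf _).2 (fun g hg => by
      rw [← orderOf_coe] at hg
      rw [mem_subgroupOf]
      rcases nP g g.2 with e | e
      · rw [eq_one_of_cop P.2 e hg]; exact one_mem _
      · have e1 : g * w * (w * (g * w) * w⁻¹) = g ^ 2 := by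
          rw [← mul_assoc, ← mul_assoc, mul_assoc (g : G) w w, w2, mul_one, ← mul_assoc, mul_inv_cancel_right, pow_two]
        have e2 := eq_one_of_cop P.2 (e1 ▸ mul_mem e (wN _ e)) (hg.coprime_dvd_left (orderOf_pow_dvd 2))
        simpa [mul_assoc, w2] using mul_mem (mem_sup_left (h2 _ e (by rw [e1, e2]; exact one_mem E)))
          (mem_sup_right (mem_zpowers w) : w ∈ E ⊔ zpowers w)) hy
    obtain ⟨e, he, v, hv, e1⟩ := (GT.CopAct.mem_sup_iff_of_le_normalizer (zpowers_le.2 wE)).1 h6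
    rcases zp2 w2 hv with rfl | rfl
    · exact (e1 ▸ mul_mem he (one_mem E) : (y : G) ∈ E)
    · exact absurd ((mul_mem_cancel_left (hE he)).1 (by rw [e1]; exact hx.1)) wP
  have h6 : IsSylIn 3 E (pResidual 3 G) := h5 ▸ isSylIn_inf_normal P _
  obtain ⟨x0, hx0, h0⟩ := E.bot_or_exists_ne_one.resolve_left fun e => by rw [e, card_bot] at h9; omega
  have h8 : (centralizer ((h6.toSylow : Subgroup (pResidual 3 G)) : Set (pResidual 3 G))).relIndex
      (normalizer ((h6.toSylow : Subgroup (pResidual 3 G)) : Set (pResidual 3 G))) = 2 := by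
    have k : ∀ g : pResidual 3 G, (g : G) ∈ E →
        g ∈ centralizer ((h6.toSylow : Subgroup (pResidual 3 G)) : Set (pResidual 3 G)) :=
      fun g hg y hy => Subtype.ext (hc _ hy _ hg)
    refine relIndex_eq_two_iff_exists_notMem_and'.2 ⟨⟨w, h1⟩, ?_, fun e => ?_, fun g hg => ?_⟩
    · rw [h6.coe_toSylow, ← subgroupOf_normalizer_eq h4]
      exact wE
    · have e1 : x0 * w = w * x0 := congrArg Subtype.val (e ⟨x0, h4 hx0⟩ hx0)
      exact h0 (eq_one_of_eq_inv (h3 _ hx0) (by rw [← hi _ hx0, ← e1, mul_inv_cancel_right]))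
    · rw [h6.coe_toSylow, ← subgroupOf_normalizer_eq h4] at hg
      rcases nE g hg with e | e
      · exact .inr (k g (h5.le ⟨e, g.2⟩))
      · refine .inl (k _ ?_)
        simpa [mul_assoc] using conj_mem_of_mem_norm wE (h5.le ⟨e, mul_mem g.2 h1⟩)
  have h7 : pResidual 3 G ≤ normalizer (E : Set G) := by
    rcases S3347.result 3 (by norm_num) h6.toSylow ⟨⟨fun a b => Subtype.ext (Subtype.ext (hc _ a.2 _ b.2))⟩⟩ (fun hcyc => by
      obtain ⟨t, ht⟩ := IsCyclic.exists_ofOrder_eq_natCard (α := (h6.toSylow : Subgroup (pResidual 3 G)))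
      have := Nat.le_of_dvd three_pos (orderOf_dvd_of_pow_eq_one
        (show t ^ 3 = 1 from Subtype.ext (Subtype.ext (h3 _ t.2))))
      rw [ht, h6.coe_toSylow, Nat.card_congr (subgroupOfEquivOfLe h4).toEquiv] at this
      omega) h8 with h | h
    · exact absurd GT.pResidual_pResidual h
    · rw [GT.pLengthLE_one_iff_sylow_le h6.toSylow, GT.pPrimePCore_eq_pCore ((map_eq_bot_iff_of_injective _
        (subtype_injective _)).1 (hO _ inferInstance (by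
          rw [card_map_of_injective (subtype_injective _)]; exact GT.coprime_card_pPrimeCore 3)))] at h
      exact (normal_subgroupOf_iff_le_normalizer h4).1 (by
        rw [← h6.coe_toSylow, ← h6.toSylow.is_maximal' (GT.isPGroup_pCore 3) h]; infer_instance)
  exact eq_top_iff.2 ((GT.pResidual_sup_sylow P).ge.trans (sup_le h7 PE))

theorem core_bot {L : Subgroup G} {X : Type u} [Group X] (φ : L →* X) (surj : Function.Surjective φ) {b : G}
    (b3 : b ^ 3 = 1) (hb : b ∈ L) (hc : ∀ g ∈ L, g * b = b * g) (ker : ∀ x, φ x = 1 ↔ (x : G) ∈ zpowers b)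
    (sig : ∀ Y : Subgroup G, (Nat.card Y).Coprime 3 → L ≤ normalizer (Y : Set G) → Y = ⊥) (M : Subgroup X)
    (hn : M.Normal) (hM : (Nat.card M).Coprime 3) : M = ⊥ := by
  have := Fact.mk Nat.prime_three
  set K := (M.comap φ).map L.subtype
  have hK : K ≤ L := map_subtype_le _
  have mK : ∀ x : L, (x : G) ∈ K ↔ φ x ∈ M := fun x => mem_map_iff_mem L.subtype_injective
  have one : ∀ {y : X} (k : ℕ), y ∈ M → y ^ 3 ^ k = 1 → y = 1 := fun k hy e => orderOf_eq_one_iff.1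
    (Nat.eq_one_of_dvd_coprimes (hM.pow_right k) (orderOf_dvd_natCard M hy) (orderOf_dvd_of_pow_eq_one e))
  have z3 : ∀ z ∈ zpowers b, z ^ 3 = 1 := by
    rintro _ ⟨k, rfl⟩
    rw [← zpow_natCast, ← zpow_mul, mul_comm, zpow_mul, zpow_natCast, b3, one_zpow]
  have hZ : IsSylIn 3 (zpowers b) K := ⟨fun z hz => (mK ⟨z, zpowers_le.2 hb hz⟩).2 (by
    rw [(ker _).2 hz]; exact one_mem _), fun z => ⟨1, Subtype.ext (z3 _ z.2)⟩, fun P hP h1 h2 =>
      le_antisymm (fun x hx => let ⟨k, hk⟩ := hP ⟨x, hx⟩; (ker ⟨x, hK (h1 hx)⟩).1 (one k ((mK _).1 (h1 hx)) (by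
        rw [← map_pow, show (⟨x, hK (h1 hx)⟩ : L) ^ 3 ^ k = 1 from Subtype.ext (congrArg Subtype.val hk :),
          map_one]))) h2⟩
  obtain ⟨O, k1, -, k3, k4⟩ := exists_complement hZ fun g hg _ v ⟨k, e⟩ =>
    e ▸ (Commute.zpow_right (hc g (hK hg)) k).eq
  obtain rfl := sig O k3 fun g hg => mem_normalizer_of_conj_mem fun x hx => k4 _
    ((mK (⟨g, hg⟩ * ⟨x, hK (k1 hx)⟩ * ⟨g, hg⟩⁻¹)).2 (by
      rw [map_mul, map_mul, map_inv]; exact hn.conj_mem _ ((mK ⟨x, hK (k1 hx)⟩).1 (k1 hx)) _)) (by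
      rw [show orderOf (g * x * g⁻¹) = orderOf x from orderOf_injective (MulAut.conj g).toMonoidHom (MulAut.conj g).injective x]
      exact k3.coprime_dvd_left (orderOf_dvd_natCard O hx))
  refine eq_bot_iff.2 fun y hy => ?_
  obtain ⟨x, rfl⟩ := surj y
  have h1 : (x : G) ^ 3 = 1 := k4 _ (pow_mem ((mK x).2 hy) 3) (hM.coprime_dvd_left (orderOf_dvd_of_pow_eq_one (by
    rw [← pow_mul, mul_comm, pow_mul]
    exact z3 _ ((ker (x ^ Nat.card M)).1 (by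
      rw [map_pow]; exact orderOf_dvd_iff_pow_eq_one.1 (orderOf_dvd_natCard M hy))))))
  exact one 1 hy (by rw [← map_pow, show x ^ 3 ^ 1 = 1 from Subtype.ext h1, map_one])

variable (s : Lo G)

theorem f1 : ∀ x ∈ s.T, x * s.x12 = s.x12 * x → x * s.u = s.u * x → x = 1 ∨ (x = s.z ∨ x = s.z⁻¹) ∨
    ∃ a ∈ s.A, a * s.x13 * a⁻¹ = x ∨ a * s.x13⁻¹ * a⁻¹ = x := s.hL.decide s.rep (by decide +kernel)

theorem f2 : ∀ c ∈ s.C, (c * s.x13 = s.x13 * c → c ∈ s.T ∨ c * s.r2 ∈ s.T) ∧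
    (s.k * c * s.x13 = s.x13 * (s.k * c) → s.k * c ∈ s.T ∨ s.k * c * s.r2 ∈ s.T) := s.hL.decide s.rep (by decide +kernel)

theorem f3 : (s.x12 ∈ s.E ∧ s.u ∈ s.E ∧ s.z ∈ s.E ∧ s.x13 ∈ s.E) ∧ s.n1 * s.u * s.n1⁻¹ = s.x13 ∧ s.r2 * s.r2 = 1 ∧
    s.r2 ∉ s.T ∧ s.r2 * s.x13 = s.x13 * s.r2 ∧ s.x13 ^ 3 = 1 ∧ s.x13 ≠ 1 := s.hL.decide s.rep (by decide +kernel)

theorem f4 : ∀ t ∈ s.T, t * s.x13 = s.x13 * t ∧ t * s.z = s.z * t ∧ s.r2 * t * s.r2⁻¹ ∈ s.T ∧
    (t * (s.r2 * t * s.r2⁻¹) ∈ s.E → t ∈ s.E) := s.hL.decide s.rep (by decide +kernel)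

theorem f5 : ∀ u ∈ s.T, ∀ z ∈ s.T, (u⁻¹ * z⁻¹ * u * z)⁻¹ * z⁻¹ * (u⁻¹ * z⁻¹ * u * z) * z = 1 :=
  s.hL.decide s.rep (by decide +kernel)

theorem f6 : ∀ x ∈ s.E, x ^ 3 = 1 ∧ Let (x * (s.r2 * x * s.r2⁻¹)) (fun y => y = 1 ∨ y = s.x13 ∨ y = s.x13⁻¹) ∧
    ∀ y ∈ s.E, Let ((y * x)⁻¹ * (x * y)) fun y => y = 1 ∨ y = s.x13 ∨ y = s.x13⁻¹ :=
  s.hL.decide s.rep (by decide +kernel)

theorem f7 : s.T ≤ normalizer (s.E : Set G) := clos_le.2 fun x hx => mem_normalizer_of_conj_mem (by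
  revert x
  simp only [List.forall_mem_cons, List.not_mem_nil, false_imp_iff, implies_true, and_true]
  exact s.hL.decide s.rep (by decide +kernel))

theorem n0 (nu : ¬ ZE s.z s.u) {X : Subgroup G} (hE : s.E ≤ X) (hT : X ≤ s.T) {g : G} (hg : g * s.x13 = s.x13 * g)
    (hn : g ∈ normalizer (X : Set G)) : g ∈ s.T ∨ g * s.r2 ∈ s.T := by
  obtain ⟨⟨m1, m2, m3, -⟩, e, -⟩ := f3 s
  have h1 : ∀ y ∈ X, g * s.z * g⁻¹ * y = y * (g * s.z * g⁻¹) := fun y hy => by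
    have h2 := (f4 s _ (hT (conj_mem_of_mem_norm (inv_mem hn) hy))).2.1
    calc _ = g * (s.z * (g⁻¹ * y * g⁻¹⁻¹)) * g⁻¹ := by group
      _ = _ := by rw [← h2]; group
  have h2 : ¬ ZE s.z s.x13 := fun h => nu (ze_conj h (isConj_iff.2 ⟨_, e⟩).symm)
  rcases f1 s _ (hT (conj_mem_of_mem_norm hn (hE m3))) (h1 _ (hE m1)) (h1 _ (hE m2)) with h | h | ⟨a, -, h | h⟩
  · exact absurd (conj_eq_one.1 h) s.z_ne
  · obtain ⟨c, hc, rfl | rfl⟩ := s.pm_z h
    exacts [(f2 s _ hc).1 hg, (f2 s c hc).2 hg]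
  · exact absurd (ze_conj (ze_cj (ze_refl _) g) (isConj_iff.2 ⟨a, h⟩).symm) h2
  · exact absurd (by simpa using ze_inv (ze_conj (ze_cj (ze_refl _) g) (isConj_iff.2 ⟨a, h⟩).symm)) h2

end Two

open Two

namespace Lo

variable (s : Lo G)

theorem cen13 (nu : ¬ ZE s.z s.u) : centralizer {s.x13} ≤ s.M := by
  have := Fact.mk Nat.prime_three
  obtain ⟨⟨-, -, -, bE⟩, -, r2, rT, rb, b3, b1⟩ := f3 s
  have ET : s.E ≤ s.T := s.les.2.2.2.2.2.2.2.2.2.2.2.2.2.1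
  have TM : s.T ≤ s.M := s.les.2.2.2.2.2.2.2.2.2.2.2.2.1.trans (s.les.1.trans s.C_le_M)
  set L := centralizer {s.x13}
  have TL : s.T ≤ L := fun t ht => mem_cen.2 (f4 s t ht).1
  have hT : IsSylIn 3 s.T L := syl_of_sq (IsPGroup.of_card (n := 5) s.gT.2) TL fun g hg hn => by
    rcases n0 s nu ET le_rfl (mem_cen.1 hg) hn with e | e
    · exact mul_mem e e
    · have := mul_mem e (f4 s _ e).2.2.1
      rwa [← mul_assoc, ← mul_assoc, mul_assoc g s.r2 s.r2, r2, mul_one, ← mul_assoc, mul_inv_cancel_right] at this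
  have hZ : zpowers s.x13 ≤ s.E := zpowers_le.2 bE
  have : ((zpowers s.x13).subgroupOf L).Normal := normal_subgroupOf_of_le_normalizer
    (le_trans (fun g hg => by rintro _ ⟨k, rfl⟩; exact (Commute.zpow_right (mem_cen.1 hg) k).eq.symm)
      (centralizer_le_normalizer _))
  set φ := QuotientGroup.mk' ((zpowers s.x13).subgroupOf L)
  have surj : Function.Surjective φ := QuotientGroup.mk'_surjective _
  have ker : ∀ x, φ x = 1 ↔ (x : G) ∈ zpowers s.x13 := fun x => QuotientGroup.eq_one_iff x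
  have mem : ∀ {B : Subgroup G}, s.E ≤ B → ∀ {x : L}, φ x ∈ img φ B ↔ (x : G) ∈ B := fun {B} hB {x} => by
    rw [img, ← mem_comap, comap_map_eq, QuotientGroup.ker_mk', sup_eq_left.2 (subgroupOf_mono L (hZ.trans hB)),
      mem_subgroupOf]
  have nrm : ∀ {B : Subgroup G}, s.E ≤ B → B ≤ L → ∀ {x : L}, φ x ∈ normalizer (img φ B : Set _) →
      (x : G) ∈ normalizer (B : Set G) := fun {B} hB hL {x} hx => mem_normalizer_of_conj_mem fun y hy =>
    (mem hB (x := x * ⟨y, hL hy⟩ * x⁻¹)).1 (by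
      rw [map_mul, map_mul, map_inv]; exact conj_mem_of_mem_norm hx ((mem hB (x := ⟨y, hL hy⟩)).2 hy))
  have zp : ∀ {y : G}, y = 1 ∨ y = s.x13 ∨ y = s.x13⁻¹ → y ∈ zpowers s.x13 := by
    rintro _ (rfl | rfl | rfl)
    exacts [one_mem _, mem_zpowers _, inv_mem (mem_zpowers _)]
  let w : L := ⟨s.r2, mem_cen.2 rb⟩
  have nn : ∀ {B : Subgroup G}, s.E ≤ B → B ≤ s.T → ∀ g ∈ normalizer (img φ B : Set _),
      g ∈ img φ s.T ∨ g * φ w ∈ img φ s.T := fun hE hB g hg => by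
    obtain ⟨g, rfl⟩ := surj g
    rw [← map_mul, mem ET, mem ET]
    exact n0 s nu hE hB (mem_cen.1 g.2) (nrm hE (hB.trans TL) hg)
  have key := abs (hT.toSylow.mapSurjective surj) (E := img φ s.E) (w := φ w) (map_mono (subgroupOf_mono L ET))
    (by rw [← map_mul, show w * w = 1 from Subtype.ext r2, map_one]) (fun e => rT ((mem ET).1 e)) ?_ ?_ ?_ ?_ ?_ ?_
    (nn ET le_rfl) (nn le_rfl ET) ?_ ?_ (core_bot φ surj b3 (TL (ET bE)) (fun g => mem_cen.1) ker fun Y h1 h2 =>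
      s.sig h1 ((s.les.2.2.2.2.2.2.1.trans (s.les.2.2.2.2.2.2.2.2.2.2.2.2.2.2.1.trans TL)).trans h2))
  · intro g hg
    rcases n0 s nu le_rfl ET (mem_cen.1 hg) (nrm le_rfl (ET.trans TL) (x := ⟨g, hg⟩) (key ▸ mem_top _)) with e | e
    exacts [TM e, (mul_mem_cancel_right s.r2_M).1 (TM e)]
  · rintro _ ⟨x, hx, rfl⟩
    exact ⟨w * x * w⁻¹, (f4 s _ hx).2.2.1, by rw [map_mul, map_mul, map_inv]⟩
  · rintro _ ⟨x, hx, rfl⟩ _ ⟨y, hy, rfl⟩
    rw [← map_mul, ← map_mul, ← inv_mul_eq_one, ← map_inv, ← map_mul, ker]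
    exact zp ((f6 s _ hy).2.2 _ hx)
  · rintro _ ⟨x, hx, rfl⟩
    rw [← map_pow, show x ^ 3 = 1 from Subtype.ext (f6 s _ hx).1, map_one]
  · have h1 := card_mul_relIndex (subgroupOf_mono L hZ)
    rw [Nat.card_congr (subgroupOfEquivOfLe (hZ.trans (ET.trans TL))).toEquiv, Nat.card_zpowers,
      orderOf_eq_prime b3 b1, Nat.card_congr (subgroupOfEquivOfLe (ET.trans TL)).toEquiv, s.gE.2,
      ← QuotientGroup.ker_mk' ((zpowers s.x13).subgroupOf L), relIndex_ker] at h1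
    change 3 * Nat.card (img φ s.E) = 81 at h1
    omega
  · rintro _ ⟨x, hx, rfl⟩
    rw [eq_inv_iff_mul_eq_one, mul_eq_one_comm, ← map_inv, ← map_mul, ← map_mul, ← map_mul, ker]
    exact zp (f6 s _ hx).2.1
  · rintro _ ⟨x, hx, rfl⟩ _ ⟨y, hy, rfl⟩
    simp only [Function.iterate_succ, Function.iterate_zero, Function.comp, id, ← map_inv, ← map_mul]
    exact (congrArg φ (Subtype.ext (f5 s _ hx _ hy))).trans (map_one φ)
  · rintro _ ⟨x, hx, rfl⟩ e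
    rw [← map_inv, ← map_mul, ← map_mul, ← map_mul, mem le_rfl] at e
    exact (mem le_rfl).2 ((f4 s _ hx).2.2.2 e)
  · rintro _ ⟨x, hx, rfl⟩
    refine mem_normalizer_of_conj_mem ?_
    rintro _ ⟨y, hy, rfl⟩
    exact ⟨x * y * x⁻¹, (conj_mem_of_mem_norm (K := s.E) (f7 s hx) hy :), by rw [map_mul, map_mul, map_inv]⟩

end Lo

end Cfsg.Agent.A43
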