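import Mathlib
import Cfsg.Agent.A43.CcU
import Cfsg.Agent.A43.Two
import Cfsg.Agent.T16.CaF
import Cfsg.Agent.T16.Kit3B

set_option autoImplicit false
set_option synthInstance.maxSize 100000
set_option synthInstance.maxHeartbeats 1000000
set_option maxRecDepth 100000
set_option exponentiation.threshold 100000

namespace Cfsg.Agent.A43

open Cfsg.Agent.Spor Cfsg.Agent.Rec Cfsg.Agent.Inv.Fz Cfsg.Agent.T16 Cfsg.Agent.T3 Cfsg.Agent.T3.LB Subgroup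

universe u

variable {G : Type u} [Group G] [Finite G]

namespace Kr

variable (s : Lo G)

theorem f1 : ∀ b ∈ s.B, b = 1 ∨ (b = s.z ∨ b = s.z⁻¹) ∨ (b = s.u ∨ b = s.u⁻¹) ∨
    (b = s.u * s.z ∨ b = (s.u * s.z)⁻¹) ∨ b = s.u * s.z⁻¹ ∨ b = (s.u * s.z⁻¹)⁻¹ :=
  s.hL.decide s.rep (by decide +kernel)

theorem f2 : ∀ g ∈ s.KM, g * s.u * g⁻¹ ∈ s.B →
    (∀ b ∈ s.B, b * (s.k * g) = s.k * g * b) ∨ ∀ b ∈ s.B, b * g = g * b :=
  s.hL.decide s.rep (by decide +kernel)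

theorem f3 : (∀ b ∈ s.B, b * s.r = s.r * b) ∧ s.k * s.r = s.r * s.k ∧ s.B ≤ s.KM ∧ s.z * s.k ≠ s.k * s.z ∧
    s.n1 * s.u * s.n1⁻¹ = s.x13 ∧ s.z ∈ s.B ∧ s.u ∈ s.B :=
  s.hL.decide s.rep (by decide +kernel)

theorem cen_inv {M : Subgroup G} {x : G} (h : centralizer {x} ≤ M) : centralizer {x⁻¹} ≤ M := fun g hg =>
  h (mem_cen.2 (by simpa using (show Commute g x⁻¹ from mem_cen.1 hg).inv_right.eq))

theorem norm_B (nu : ¬ ZE s.z s.u) {g : G} (hg : g ∈ centralizer {s.r}) (hn : g ∈ normalizer (s.B : Set G)) :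
    g ∈ s.KM := by
  have h1 := ze_cj (ze_refl s.z) g
  have inv : ∀ {x}, ZE s.z x⁻¹ → ZE s.z x := fun h => by simpa using ze_inv h
  refine s.cen_rz (mem_cen.1 hg) ?_
  rcases f1 s _ (conj_mem_of_mem_norm hn (f3 s).2.2.2.2.2.1) with e | e | (e | e) | (e | e) | e | e
  · exact absurd (conj_eq_one.1 e) s.z_ne
  · exact e
  · exact absurd (e ▸ h1) nu
  · exact absurd (inv (e ▸ h1)) nu
  · exact absurd (e ▸ h1) s.cen_uz.1.1
  · exact absurd (inv (e ▸ h1)) s.cen_uz.1.1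
  · exact absurd (e ▸ h1) s.cen_uz.2.1
  · exact absurd (inv (e ▸ h1)) s.cen_uz.2.1

theorem cen_B (nu : ¬ ZE s.z s.u) {b : G} (hb : b ∈ s.B) (h1 : b ≠ 1) : centralizer {b} ≤ s.M := by
  have hz : centralizer {s.z} ≤ s.M := s.C_eq ▸ s.C_le_M
  have hu : centralizer {s.u} ≤ s.M := cent_conj_le s.n1_M (f3 s).2.2.2.2.1 (s.cen13 nu)
  have hp := s.cen_uz.1.2.trans (s.NJ_le nu)
  have hm := s.cen_uz.2.2.trans (s.NJ_le nu)
  rcases f1 s b hb with e | (e | e) | (e | e) | (e | e) | e | e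
  · exact absurd e h1
  all_goals rw [e]
  exacts [hz, cen_inv hz, hu, cen_inv hu, hp, cen_inv hp, hm, cen_inv hm]

end Kr

namespace Lo

variable (s : Lo G)

open Kr in
theorem cen_r (nu : ¬ ZE s.z s.u) : centralizer {s.r} ≤ s.M := by
  obtain ⟨b1, b2, b3, b4, -, b6, b7⟩ := f3 s
  have hJ := s.les.2.2.2.2.2.1
  have hB : IsSylIn 3 s.B (centralizer {s.r}) :=
    isSylIn_of_normalizer (isSylIn_of_card b3 (k := 2) (m := 16) s.gB.2 s.gKM.2 (by norm_num))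
      (fun b hb => mem_cen.2 (b1 b hb)) fun g hg hn => norm_B s nu hg hn
  have hi : ∀ b ∈ s.B, s.k * b * s.k⁻¹ = b⁻¹ := fun b hb => s.k_J.2 b (hJ hb)
  have h3 : ∀ b ∈ s.B, b ^ 3 = 1 := fun b hb => s.J_exp b (hJ hb)
  have h2 : (centralizer (s.B : Set G)).relIndex (centralizer {s.r} ⊓ normalizer (s.B : Set G)) = 2 :=
    relIndex_eq_two_iff_exists_notMem_and'.2 ⟨s.k,
      ⟨mem_cen.2 b2, mem_normalizer_of_conj_mem fun b hb => (hi b hb).symm ▸ inv_mem hb⟩, fun e => b4 (e _ b6),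
      fun g hg => f2 s g (norm_B s nu hg.1 hg.2) (conj_mem_of_mem_norm hg.2 b7)⟩
  obtain ⟨N, hN⟩ := exists_core3 (centralizer {s.r})
  exact le_of_norm_sup hN.toSec hB (nine_z2 hN hB s.gB.2 h3 h2 (mem_cen.2 b2) hi)
    (le_of_nine s.gB.2 h3 (fun a ha b hb => s.J_comm a (hJ ha) b (hJ hb)) (hB.le.trans hN.norm) hN.cop
      fun a ha h1 k _ hk => cen_B s nu ha h1 (mem_cen.2 hk))
    fun g hg => s.KM_le_M (norm_B s nu hg.1 hg.2)

end Lo

end Cfsg.Agent.A43
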