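import Mathlib
import Cfsg.Agent.A43.Defs
import Cfsg.Agent.T3.LocB3

set_option autoImplicit false
set_option linter.unusedSectionVars false

namespace Cfsg.Agent.A43

open Cfsg.Agent.Spor Cfsg.Agent.Rec Cfsg.Agent.Inv.Fz Cfsg.Agent.T16 Cfsg.Agent.T3 Cfsg.Agent.T3.LB Subgroup
open Cfsg.Agent.GT.PG
open scoped commutatorElement

universe u

variable {G : Type u} [Group G] [Finite G]

namespace Lin

section co

variable {a : G} {h : H0 a} (c : Co h) {p q : G}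

theorem co_one : c.co 1 = 0 := (c.zero 1 (one_mem _)).2 (one_mem _)

theorem co_inv (hp : p ∈ Q3 a) : c.co p⁻¹ = -c.co p :=
  eq_neg_of_add_eq_zero_left (by rw [← c.mul _ (inv_mem hp) _ hp, inv_mul_cancel, co_one])

theorem co_pow (hp : p ∈ Q3 a) (k : ZMod 3) : c.co (p ^ k.val) = k • c.co p := by
  have : ∀ n : ℕ, c.co (p ^ n) = n • c.co p := fun n => by
    induction n with
    | zero => simp [co_one]
    | succ n ih => rw [pow_succ, c.mul _ (pow_mem hp n) _ hp, ih, succ_nsmul]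
  rw [this, ← Nat.cast_smul_eq_nsmul (ZMod 3), ZMod.natCast_zmod_val]

theorem mem_z (hp : p ∈ Q3 a) (hq : q ∈ Q3 a) (e : c.co p = c.co q) : p * q⁻¹ ∈ zpowers a :=
  (c.zero _ (mul_mem hp (inv_mem hq))).1 (by rw [c.mul _ hp _ (inv_mem hq), co_inv c hq, e, add_neg_cancel])

theorem om_zero (hp : p ∈ Q3 a) (hq : q ∈ Q3 a) : c.ω (c.co p) (c.co q) = 0 ↔ p * q = q * p := by
  rw [c.hom p hp q hq, om_eq_zero h.ex.esz hp hq]

theorem skew (x y : V4) : c.ω x y = -c.ω y x := by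
  have := c.alt (x + y)
  simp only [map_add, LinearMap.add_apply, c.alt] at this
  linear_combination this

end co

/-- The plane spanned by two vectors. -/
def Pl (e e' v : V4) : Prop := ∃ α β : ZMod 3, v = α • e + β • e'

section md

variable {a : G} {h : H0 a} (c : Co h) {t i : S3} {e f : V4} (m : Md c.ω c.ρ t i e f)
include m

theorem ii (x : V4) : c.ρ i (c.ρ i x) = -x := by rw [← Module.End.mul_apply, ← map_mul, m.ii, c.neg]

theorem e_ne : e ≠ 0 := fun h0 => one_ne_zero (m.ind 1 0 0 0 (by simp [h0])).1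

theorem pl_inv (g : S3) {v : V4} (hv : Pl e (c.ρ i e) v) : Pl e (c.ρ i e) (c.ρ g v) := by
  let K0 : Submonoid S3 := ⟨⟨{g | ∀ v, Pl e (c.ρ i e) v → Pl e (c.ρ i e) (c.ρ g v)}, fun {x y} hx hy v hv => by
    rw [map_mul]; exact hx _ (hy v hv)⟩, fun v hv => by simpa using hv⟩
  let K : Subgroup S3 := ⟨K0, fun {x} hx => by
    rw [(by decide +kernel : ∀ x : S3, x⁻¹ = x ^ 11) x]; exact K0.pow_mem hx 11⟩
  have : clos [i, t] ≤ K := clos_le.2 (by
    simp only [List.forall_mem_cons, List.not_mem_nil, false_imp_iff, implies_true, and_true]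
    constructor <;> rintro _ ⟨α, β, rfl⟩
    · exact ⟨-β, α, by rw [map_add, map_smul, map_smul, ii c m]; module⟩
    · exact ⟨α + β, β, by rw [map_add, map_smul, map_smul, m.te, m.tie]; module⟩)
  exact this (m.gen ▸ mem_top g) v hv

theorem pl_of {v : V4} (h1 : c.ω v e = 0) (h2 : c.ω v (c.ρ i e) = 0) : Pl e (c.ρ i e) v := by
  obtain ⟨α, β, γ, δ, rfl⟩ := m.span v
  have fe : c.ω f e = 0 := by rw [skew, m.ef, neg_zero]
  have e1 : c.ω (c.ρ i e) e = 0 := by rw [skew, m.eie, neg_zero]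
  have e2 : c.ω (c.ρ i f) e = -1 := by rw [← c.inv i, ii c m, map_neg, LinearMap.neg_apply, m.fie]
  simp only [map_add, map_smul, LinearMap.add_apply, LinearMap.smul_apply, c.alt, c.inv, fe, e1, e2, m.eie, m.fie,
    smul_eq_mul, mul_zero, zero_add, add_zero, mul_one, mul_neg, neg_eq_zero] at h1 h2
  exact ⟨α, β, by rw [h1, h2]; simp⟩

theorem trans {v : V4} (hv : Pl e (c.ρ i e) v) (h0 : v ≠ 0) : ∃ g, c.ρ g e = v := by
  obtain ⟨α, β, rfl⟩ := hv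
  have k : ∀ n : ℕ, c.ρ (t ^ n * i) e = c.ρ i e + n • e := fun n => by
    induction n with
    | zero => simp
    | succ n ih => rw [pow_succ', mul_assoc, map_mul, Module.End.mul_apply, ih, map_add, map_nsmul, m.te, m.tie]; module
  have k' : ∀ n : ZMod 3, c.ρ (t ^ n.val * i) e = c.ρ i e + n • e := fun n => by
    rw [k, ← Nat.cast_smul_eq_nsmul (ZMod 3), ZMod.natCast_zmod_val]
  have h3 : ∀ x : ZMod 3, x = 0 ∨ x = 1 ∨ x = -1 := by decide
  rcases h3 β with rfl | rfl | rfl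
  · rcases h3 α with rfl | rfl | rfl
    · simp at h0
    · exact ⟨1, by simp⟩
    · exact ⟨-1, by simp [c.neg]⟩
  · exact ⟨_, (k' α).trans (by module)⟩
  · exact ⟨-1 * (t ^ (-α).val * i), by rw [map_mul, Module.End.mul_apply, c.neg, k']; module⟩

end md

section main

variable {a y : G} (h : H1 a y) (c : Co h.toH0) {i : S3} {f : V4} (m : Md c.ω c.ρ (h.ψ h.u) i (c.co y) f)
include m

theorem c1_eq {c0 c1 : ZMod 3} (hw : c.co h.w = c.ρ i (c.co y) + c0 • c.co y + c1 • f) : c1 = 0 := by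
  obtain ⟨σ, h1, h2⟩ := c.anti h.s h.sa
  have sn : h.s ∈ normalizer (Q3 a : Set G) := cj_eq_iff.1 (by rw [← Q3_cj, h.sa, Q3_inv])
  have cs : ∀ g : centralizer ({a} : Set G), h.s * g * h.s⁻¹ ∈ centralizer ({a} : Set G) := fun g =>
    mem_cen.2 (comm_inv.1 (h.sa ▸ comm_cj.2 (mem_cen.1 g.2)))
  have key : ∀ (g : centralizer ({a} : Set G)) v, σ (c.ρ (h.ψ g) v) = c.ρ (h.ψ ⟨_, cs g⟩) (σ v) := fun g v => by
    obtain ⟨q, hq, rfl⟩ := c.surj v
    rw [← c.act g q hq, ← h1 _ (conj_mem_of_mem_norm (norm_Q3 (mem_cen.1 g.2)) hq), ← h1 q hq,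
      ← c.act _ _ (conj_mem_of_mem_norm sn hq)]
    congr 1
    group
  have se : σ (c.co y) = -c.co y := by rw [← h1 y h.yQ, h.sy, co_inv c h.yQ]
  have sf : c.ρ (h.ψ h.u) (σ f) = σ f := by
    have e1 := key h.u (c.co y)
    rw [m.te, se, map_neg, neg_inj] at e1
    have e2 := key h.u f
    rw [m.tf] at e2
    rcases m.stab _ e1.symm with e | e | e
    · exact (h.uQ ((mem_normalizer_iff.1 sn _).2 ((h.ker _).1 e))).elim
    · rw [e] at e2; exact e2.symm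
    · rw [e] at e2
      nth_rw 1 [e2]
      rw [← Module.End.mul_apply, ← map_mul, mul_inv_cancel, map_one, Module.End.one_apply]
  obtain ⟨μ, β, l, δ, e1⟩ := m.span (σ f)
  rw [e1] at sf
  simp only [map_add, map_smul, m.te, m.tf, m.tie, m.tif] at sf
  obtain ⟨rfl, -, rfl, -⟩ := m.ind β 0 δ 0 (by linear_combination (norm := module) sf)
  obtain ⟨g, hg⟩ := h.surj i
  obtain ⟨q, p, e2⟩ : Pl (c.co y) (c.ρ i (c.co y)) (σ (c.ρ i (c.co y))) := by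
    rw [← hg, key, hg, se]
    exact pl_inv c m _ ⟨-1, 0, by simp⟩
  obtain ⟨n, e3⟩ : ∃ n : ZMod 3, σ (c.co h.w) = c.co h.w + n • c.co y := by
    let K : Subgroup G := ⟨⟨⟨{x | x ∈ Q3 a ∧ ∃ n : ZMod 3, c.co x = n • c.co y},
      fun {x z} ⟨hx, n, e⟩ ⟨hz, n', e'⟩ => ⟨mul_mem hx hz, n + n', by rw [c.mul x hx z hz, e, e', add_smul]⟩⟩,
      one_mem _, 0, by simp [co_one]⟩, fun {x} ⟨hx, n, e⟩ => ⟨inv_mem hx, -n, by rw [co_inv c hx, e, neg_smul]⟩⟩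
    have : clos [a, y] ≤ K := clos_le.2 (by
      simp only [List.forall_mem_cons, List.not_mem_nil, false_imp_iff, implies_true, and_true]
      exact ⟨⟨h.ex.mem, 0, by rw [zero_smul]; exact (c.zero a h.ex.mem).2 (mem_zpowers a)⟩, h.yQ, 1, by simp⟩)
    obtain ⟨-, n, e⟩ := this h.sw
    rw [c.mul _ (conj_mem_of_mem_norm sn h.wA.1) _ (inv_mem h.wA.1), h1 _ h.wA.1, co_inv c h.wA.1] at e
    exact ⟨n, by rw [← e]; abel⟩
  rw [hw] at e3
  simp only [map_add, map_smul, se, e1, e2] at e3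
  obtain ⟨-, k1, k2, -⟩ := m.ind (q - c0 + c1 * μ - c0 - n) (p - 1) (c1 * l - c1) 0 (by
    linear_combination (norm := module) e3)
  have k3 := h2 f (c.ρ i (c.co y))
  have fe : c.ω f (c.co y) = 0 := by rw [skew, m.ef, neg_zero]
  rw [e1, e2] at k3
  simp only [map_add, map_smul, LinearMap.add_apply, LinearMap.smul_apply, c.alt, fe, m.eie, m.fie,
    smul_eq_mul, mul_zero, zero_add, add_zero, mul_one, zero_smul] at k3
  have h3 : (3 : ZMod 3) = 0 := rfl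
  linear_combination k2 - c1 * k3 + c1 * l * k1 + c1 * h3

variable {c0 : ZMod 3} (hw : c.co h.w = c.ρ i (c.co y) + c0 • c.co y)
include hw

theorem of_pl {q : G} (hq : q ∈ Q3 a) (hp : Pl (c.co y) (c.ρ i (c.co y)) (c.co q)) : q ∈ Q3 a ⊓ Q3 y := by
  obtain ⟨α, β, e⟩ := hp
  have m1 : y ^ (α - β * c0).val * h.w ^ β.val ∈ Q3 a ⊓ Q3 y := mul_mem (pow_mem (show y ∈ Q3 a ⊓ Q3 y from ⟨h.yQ, h.yy⟩) _) (pow_mem h.wA _)
  have := mem_z c hq m1.1 (by
    rw [c.mul _ (pow_mem h.yQ _) _ (pow_mem h.wA.1 _), co_pow c h.yQ, co_pow c h.wA.1, hw, e]; module)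
  exact (mul_mem_cancel_right (inv_mem m1)).1 (zpowers_le.2 (⟨h.ex.mem, h.aA⟩ : a ∈ Q3 a ⊓ Q3 y) this)

theorem pl_comm {q : G} (hq : q ∈ Q3 a) (h1 : q * y = y * q) (h2 : q * h.w = h.w * q) :
    Pl (c.co y) (c.ρ i (c.co y)) (c.co q) := by
  have e1 := (om_zero c hq h.yQ).2 h1
  have e2 := (om_zero c hq h.wA.1).2 h2
  rw [hw, map_add, map_smul, e1, smul_zero, add_zero] at e2
  exact pl_of c m e1 e2

theorem pl_mem {q : G} (hq : q ∈ Q3 a ⊓ Q3 y) : Pl (c.co y) (c.ρ i (c.co y)) (c.co q) :=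
  pl_comm h c m hw hq.1 (h.comm q hq y ⟨h.yQ, h.yy⟩) (h.comm q hq _ h.wA)

theorem nA : centralizer {a} ≤ normalizer ((Q3 a ⊓ Q3 y : Subgroup G) : Set G) := fun g hg =>
  mem_normalizer_of_conj_mem fun q hq => of_pl h c m hw (conj_mem_of_mem_norm (norm_Q3 (mem_cen.1 hg)) hq.1)
    (c.act ⟨g, hg⟩ q hq.1 ▸ pl_inv c m _ (pl_mem h c m hw hq))

theorem cA : centralizer ((Q3 a ⊓ Q3 y : Subgroup G) : Set G) ≤ Q3 a ⊓ Q3 y := fun g hg => by
  have ga : g ∈ centralizer ({a} : Set G) := mem_cen.2 (hg a ⟨h.ex.mem, h.aA⟩).symm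
  have gy := (hg y ⟨h.yQ, h.yy⟩).symm
  have gw := (hg _ h.wA).symm
  have e1 := c.act ⟨g, ga⟩ y h.yQ
  have e2 := c.act ⟨g, ga⟩ _ h.wA.1
  rw [gy, mul_inv_cancel_right] at e1
  rw [gw, mul_inv_cancel_right, hw, map_add, map_smul, ← e1, add_left_inj] at e2
  have gQ : g ∈ Q3 a := by
    rcases m.stab _ e1.symm with e | e | e
    · exact (h.ker _).1 e
    · rw [e, m.tie] at e2
      exact (e_ne c m (by simpa using e2)).elim
    · have := congrArg (c.ρ (h.ψ h.u)) e2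
      rw [e, ← Module.End.mul_apply (c.ρ (h.ψ h.u)) (c.ρ (h.ψ h.u)⁻¹), ← map_mul, mul_inv_cancel, map_one,
        Module.End.one_apply, m.tie] at this
      exact (e_ne c m (by simpa using this)).elim
  exact of_pl h c m hw gQ (pl_comm h c m hw gQ gy gw)

theorem conj_y {x : G} (hx : x ∈ Q3 a ⊓ Q3 y) (xz : x ∉ zpowers a) :
    ∃ g ∈ normalizer ((Q3 a ⊓ Q3 y : Subgroup G) : Set G), g * y * g⁻¹ = x := by
  obtain ⟨t, ht⟩ := trans c m (pl_mem h c m hw hx) fun e => xz ((c.zero x hx.1).1 e)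
  obtain ⟨g, rfl⟩ := h.surj t
  rw [← c.act g y h.yQ] at ht
  have hz := mem_z c (conj_mem_of_mem_norm (norm_Q3 (mem_cen.1 g.2)) h.yQ) hx.1 ht
  obtain ⟨p, hp, e⟩ := h.ex.esz.exists_commutator_eq hx.1 xz
  obtain ⟨n, hn⟩ := zc_pow (x := x) h.ex.ord (h.ex.comm_a hp) (inv_mem (mem_zpowers a))
    (inv_ne_one.2 h.ex.esz.z_ne_one) (by rw [← e, commutatorElement_def]; group) hz
  refine ⟨(p ^ n)⁻¹ * g, nA h c m hw (mul_mem (inv_mem (pow_mem (mem_cen.2 (h.ex.comm_a hp)) n)) g.2), ?_⟩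
  calc _ = (p ^ n)⁻¹ * (g * y * (g : G)⁻¹ * x⁻¹ * x) * p ^ n := by group
    _ = _ := by rw [← hn]; group

theorem transA {x : G} (hx : x ∈ Q3 a ⊓ Q3 y) (x1 : x ≠ 1) :
    ∃ g ∈ normalizer ((Q3 a ⊓ Q3 y : Subgroup G) : Set G), g * a * g⁻¹ = x := by
  obtain ⟨g0, n0, e0⟩ := h.mv
  have m0 : a * y ∈ Q3 a ⊓ Q3 y := mul_mem ⟨h.ex.mem, h.aA⟩ ⟨h.yQ, h.yy⟩
  have z0 : a * y ∉ zpowers a := fun e => h.yz ((mul_mem_cancel_left (mem_zpowers a)).1 e)
  obtain ⟨g1, n1, e1⟩ := conj_y h c m hw m0 z0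
  have k : ∀ x ∈ Q3 a ⊓ Q3 y, x ∉ zpowers a →
      ∃ g ∈ normalizer ((Q3 a ⊓ Q3 y : Subgroup G) : Set G), g * a * g⁻¹ = x := fun x hx xz => by
    obtain ⟨g, n, e⟩ := conj_y h c m hw hx xz
    refine ⟨g * g1⁻¹ * g0, mul_mem (mul_mem n (inv_mem n1)) n0, ?_⟩
    calc _ = g * g1⁻¹ * (g0 * a * g0⁻¹) * g1 * g⁻¹ := by group
      _ = _ := by rw [e0, ← e1, ← e]; group
  by_cases xz : x ∈ zpowers a
  · obtain ⟨j, rfl⟩ := exists_val h.ex.ord xz
    rcases (by decide : ∀ x : ZMod 3, x = 0 ∨ x = 1 ∨ x = -1) j with rfl | rfl | rfl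
    · simp at x1
    · exact ⟨1, one_mem _, by simp [ZMod.val_one]⟩
    · obtain ⟨g, n, e⟩ := k _ (inv_mem m0) fun e => z0 (inv_mem_iff.1 e)
      refine ⟨g0⁻¹ * g, mul_mem (inv_mem n0) n, ?_⟩
      rw [pow_val_neg h.ex.esz.z_pow, ZMod.val_one, pow_one]
      calc _ = g0⁻¹ * (g * a * g⁻¹) * g0 := by group
        _ = _ := by rw [e, ← e0]; group
  · exact k x hx xz

omit m hw in
theorem lift (v : V4) : ∃ x ∈ Q3 a, h.r * x * (h.r : G)⁻¹ = x⁻¹ ∧ c.co x = v := by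
  obtain ⟨q, hq, rfl⟩ := c.surj v
  have m1 := conj_mem_of_mem_norm (norm_Q3 (mem_cen.1 h.r.2)) hq
  refine ⟨_, mul_mem m1 (inv_mem hq), ?_, ?_⟩
  · calc _ = h.r * h.r * q * ((h.r : G) * h.r)⁻¹ * h.r * q⁻¹ * (h.r : G)⁻¹ := by group
      _ = _ := by rw [h.r2]; group
  · rw [c.mul _ m1 _ (inv_mem hq), c.act _ q hq, h.rn, c.neg, co_inv c hq]
    funext j
    simp only [Pi.add_apply, Pi.neg_apply]
    generalize c.co q j = t
    revert t
    decide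

theorem exists_U : ∃ U : Subgroup G, U ≤ centralizer {a} ∧ U ⊓ (Q3 a ⊓ Q3 y) = ⊥ ∧ Nat.card U = 27 := by
  obtain ⟨x1, q1, r1, e1⟩ := lift h c f
  obtain ⟨x2, q2, r2, e2⟩ := lift h c (c.ρ i f)
  have c12 : x1 * x2 = x2 * x1 := (om_zero c q1 q2).1 (by rw [e1, e2, m.fif])
  have un := norm_Q3 (mem_cen.1 h.u.2)
  have uniq : ∀ x ∈ Q3 a, ∀ x' ∈ Q3 a, h.r * x * (h.r : G)⁻¹ = x⁻¹ → h.r * x' * (h.r : G)⁻¹ = x'⁻¹ →
      c.ρ (h.ψ h.u) (c.co x) = c.co x' → h.u * x * (h.u : G)⁻¹ = x' := fun x hx x' hx' k k' e =>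
    eq_of_inv h.ex (mem_cen.1 h.r.2) (h.ex.comm_a hx') k' (by
      calc _ = h.r * h.u * x * ((h.r : G) * h.u)⁻¹ := by group
        _ = h.u * (h.r * x * (h.r : G)⁻¹) * (h.u : G)⁻¹ := by rw [← h.ur]; group
        _ = _ := by rw [k]; group) (mem_z c (conj_mem_of_mem_norm un hx) hx' (by rw [c.act _ x hx, e]))
  have u1 := uniq x1 q1 x1 q1 r1 r1 (by rw [e1, m.tf])
  have u2 := uniq x2 q2 _ (mul_mem q2 q1) r2 (by rw [← conj_mul, r1, r2, ← c12, mul_inv_rev])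
    (by rw [c.mul _ q2 _ q1, e1, e2, m.tif])
  have o1 : orderOf x1 = 3 := orderOf_eq_prime (h.exp _ q1) fun e =>
    one_ne_zero (m.ind 0 0 1 0 (by rw [← e1, e, co_one]; simp)).2.2.1
  have o2 : orderOf x2 = 3 := orderOf_eq_prime (h.exp _ q2) fun e =>
    one_ne_zero (m.ind 0 0 0 1 (by rw [← e2, e, co_one]; simp)).2.2.2
  have ou : orderOf (h.u : G) = 3 := orderOf_eq_prime h.u3 fun e => h.uQ (e ▸ one_mem _)
  have cm : ∀ z ∈ zpowers x1, x2 * z = z * x2 := fun z hz => zc c12.symm hz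
  have hU : ∀ p ∈ zpowers x2 ⊔ zpowers x1, ∃ j k : ZMod 3, p = x2 ^ j.val * x1 ^ k.val := fun p hp => by
    obtain ⟨s, hs, t, ht, rfl⟩ := (mem_sup_iff_of_le_normalizer (zpowers_le.2 (mem_normalizer_of_conj_mem
      fun z hz => by rw [cm z hz]; simpa using hz))).1 hp
    obtain ⟨j, rfl⟩ := exists_val o2 hs
    obtain ⟨k, rfl⟩ := exists_val o1 ht
    exact ⟨j, k, rfl⟩
  have k0 : Nat.card (zpowers x2 ⊔ zpowers x1 : Subgroup G) = 9 := by
    rw [card_sup_zp o2 cm fun e => ?_, Nat.card_zpowers, o1]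
    obtain ⟨k, hk⟩ := exists_val o1 e
    rw [hk, co_pow c q1, e1] at e2
    exact one_ne_zero (m.ind 0 0 (-k) 1 (by rw [← e2]; module)).2.2.2
  have le : zpowers x2 ⊔ zpowers x1 ≤ Q3 a := sup_le (zpowers_le.2 q2) (zpowers_le.2 q1)
  have nU : zpowers (h.u : G) ≤ normalizer ((zpowers x2 ⊔ zpowers x1 : Subgroup G) : Set G) :=
    zpowers_le.2 (mem_normalizer_of_conj_mem fun p hp => by
      obtain ⟨j, k, rfl⟩ := hU p hp
      rw [← conj_mul, ← conj_pow, ← conj_pow, u1, u2]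
      have a1 : x1 ∈ zpowers x2 ⊔ zpowers x1 := mem_sup_right (mem_zpowers _)
      exact mul_mem (pow_mem (mul_mem (mem_sup_left (mem_zpowers _)) a1) _) (pow_mem a1 _))
  have k1 : ∀ s ∈ zpowers (h.u : G), s ∈ Q3 a → s = 1 := fun s hs hq => by
    by_contra s1
    exact h.uQ (zpowers_le.2 hq (by rw [zp_eq ou hs s1]; exact mem_zpowers _))
  refine ⟨zpowers (h.u : G) ⊔ (zpowers x2 ⊔ zpowers x1),
    sup_le (zpowers_le.2 h.u.2) fun q hq => mem_cen.2 (h.ex.comm_a (le hq)), eq_bot_iff.2 fun g hg => ?_, ?_⟩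
  · obtain ⟨s, hs, p, hp, rfl⟩ := (mem_sup_iff_of_le_normalizer nU).1 hg.1
    obtain rfl := k1 s hs ((mul_mem_cancel_right (le hp)).1 hg.2.1)
    obtain ⟨j, k, rfl⟩ := hU p hp
    obtain ⟨α, β, e⟩ := pl_mem h c m hw hg.2
    rw [one_mul, c.mul _ (pow_mem q2 _) _ (pow_mem q1 _), co_pow c q2, co_pow c q1, e1, e2] at e
    obtain ⟨-, -, rfl, rfl⟩ := m.ind (-α) (-β) k j (by linear_combination (norm := module) e)
    simp
  · rw [GT.card_sup_of_inf_eq_bot nU (eq_bot_iff.2 fun s hs => k1 s hs.1 (le hs.2)), k0, Nat.card_zpowers, ou]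

end main

end Lin

open Lin in
theorem H1.exists_h2 {a y : G} (h : H1 a y) (c : Co h.toH0) {i : S3} {f : V4} {c0 c1 : ZMod 3}
    (m : Md c.ω c.ρ (h.ψ h.u) i (c.co y) f) (hw : c.co h.w = c.ρ i (c.co y) + c0 • c.co y + c1 • f) :
    ∃ U, H2 a (Q3 a ⊓ Q3 y) U := by
  rw [c1_eq h c m hw, zero_smul, add_zero] at hw
  obtain ⟨U, u1, u2, u3⟩ := exists_U h c m hw
  refine ⟨U, ⟨h.ex.mem, h.aA⟩, h.ex.esz.z_ne_one, h.card, fun x hx => h.exp x hx.1, h.comm, cA h c m hw, nA h c m hw,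
    fun x => transA h c m hw, ?_, u1.trans (nA h c m hw), u2, u3⟩
  have e : h.ψ.ker = (Q3 a).subgroupOf (centralizer {a}) := Subgroup.ext h.ker
  rw [← h.ψ.ker.card_mul_index, index_ker, h.ψ.range_eq_top_of_surjective h.surj, card_top, card_sl23, e,
    Nat.card_congr (subgroupOfEquivOfLe fun q hq => mem_cen.2 (h.ex.comm_a hq)).toEquiv, h.ex.card]

end Cfsg.Agent.A43
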