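import Mathlib
import Cfsg.Agent.A43.Defs

/-! Symplectic modules of dimension four for `SL₂(3)` over the field with three elements. -/

set_option autoImplicit false

namespace Cfsg.Agent.A43

open Cfsg.Agent.Spor Cfsg.Agent.Rec Cfsg.Agent.Inv.Fz Cfsg.Agent.T16 Cfsg.Agent.T3 Cfsg.Agent.T3.LB Subgroup

universe u

variable {G : Type u} [Group G] [Finite G]

namespace Mod

theorem s_quat : ∀ t : S3, t ^ 3 = 1 → t ≠ 1 → ∃ i : S3, i * i = -1 ∧ ∃ j : S3, t * i = j * t ∧ ∃ k : S3,
    t * j = k * t ∧ t * k = i * t ∧ i * j = k ∧ j * i = -1 * k ∧ j * k = i ∧ k * j = -1 * i ∧ k * i = j ∧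
    i * k = -1 * j ∧ j * j = -1 ∧ k * k = -1 ∧
    ∀ g : S3, ∃ q ∈ [1, i, j, k], ∃ m ∈ [1, t, t * t], g = q * m ∨ g = -1 * (q * m) := by decide +kernel

set_option synthInstance.maxSize 2000 in
theorem s_stab : ∀ t : S3, t ^ 3 = 1 → t ≠ 1 → ∀ g : S3, g = 1 ∨ g = t ∨ g = t⁻¹ ∨
    ∃ m ∈ [g, g * t, g * t * t], m = -1 ∨ m * m = -1 := by decide +kernel

theorem three (x : V4) : x + x + x = 0 := funext fun i => by
  have : ∀ a : ZMod 3, a + a + a = 0 := by decide
  exact this (x i)

theorem span4 {p q r s : V4} (h : ∀ a b c d : ZMod 3, a • p + b • q + c • r + d • s = 0 →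
    a = 0 ∧ b = 0 ∧ c = 0 ∧ d = 0) (x : V4) : ∃ a b c d : ZMod 3, x = a • p + b • q + c • r + d • s := by
  have inj : Function.Injective fun c : V4 => c 0 • p + c 1 • q + c 2 • r + c 3 • s := fun c c' e => by
    obtain ⟨h0, h1, h2, h3⟩ := h (c 0 - c' 0) (c 1 - c' 1) (c 2 - c' 2) (c 3 - c' 3) (by
      have e' : c 0 • p + c 1 • q + c 2 • r + c 3 • s = c' 0 • p + c' 1 • q + c' 2 • r + c' 3 • s := e
      simp only [sub_smul]
      linear_combination (exp := 1) e')
    funext i
    fin_cases i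
    exacts [sub_eq_zero.1 h0, sub_eq_zero.1 h1, sub_eq_zero.1 h2, sub_eq_zero.1 h3]
  obtain ⟨c, hc⟩ := Finite.injective_iff_surjective.1 inj x
  exact ⟨_, _, _, _, hc.symm⟩

/-- The abstract situation: `E` is the sum of the three quaternion units. -/
structure Dt (ω : V4 →ₗ[ZMod 3] V4 →ₗ[ZMod 3] ZMod 3) (I E U : Module.End (ZMod 3) V4) : Prop where
  alt : ∀ x, ω x x = 0
  nd : ∀ x, (∀ y, ω x y = 0) → x = 0
  EE : ∀ x, E (E x) = 0
  EI : ∀ x, E (I x) + I (E x) = x
  ωI : ∀ x y, ω (I x) y = -ω x (I y)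
  ωE : ∀ x y, ω (E x) y = -ω x (E y)
  ωU : ∀ x y, ω (U x) (U y) = ω x y
  UE : ∀ x, U (E x) = E (U x)
  U3 : ∀ x, U (U (U x)) = x
  UI : ∀ x, E x = 0 → U (I x) = I (U x) + U x

namespace Dt

variable {ω : V4 →ₗ[ZMod 3] V4 →ₗ[ZMod 3] ZMod 3} {I E U : Module.End (ZMod 3) V4} (h : Dt ω I E U)
include h

theorem anti (x y : V4) : ω x y = -ω y x := by
  have := h.alt (x + y)
  simp only [map_add, LinearMap.add_apply, h.alt] at this
  linear_combination this

theorem EI' {x : V4} (hx : E x = 0) : E (I x) = x := by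
  have := h.EI x
  rwa [hx, map_zero, add_zero] at this

theorem iso {x y : V4} (hx : E x = 0) (hy : E y = 0) : ω x y = 0 := by
  rw [← h.EI' hx, h.ωE, hy, map_zero, neg_zero]

theorem symm (x y : V4) : ω x (I y) = ω y (I x) := by rw [h.anti, h.ωI, neg_neg]

theorem ndW {x : V4} (hx : E x = 0) (H : ∀ y, E y = 0 → ω x (I y) = 0) : x = 0 :=
  h.nd x fun y => by rw [← h.EI y, map_add, h.iso hx (h.EE _), H _ (h.EE _), add_zero]

theorem ind {p q : V4} (hp : E p = 0) (hq : E q = 0) (H : ∀ a c : ZMod 3, a • p + c • q = 0 → a = 0 ∧ c = 0)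
    (a b c d : ZMod 3) (e : a • p + b • I p + c • q + d • I q = 0) : a = 0 ∧ b = 0 ∧ c = 0 ∧ d = 0 := by
  have e1 := congrArg E e
  simp only [map_add, map_smul, hp, hq, h.EI' hp, h.EI' hq, smul_zero, zero_add, add_zero, map_zero] at e1
  obtain ⟨rfl, rfl⟩ := H b d e1
  simp only [zero_smul, add_zero] at e
  exact ⟨(H a c e).1, rfl, (H a c e).2, rfl⟩

theorem spanW {p q : V4} (hp : E p = 0) (hq : E q = 0) (H : ∀ a c : ZMod 3, a • p + c • q = 0 → a = 0 ∧ c = 0)
    {x : V4} (hx : E x = 0) : ∃ a c : ZMod 3, x = a • p + c • q := by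
  obtain ⟨a, b, c, d, e⟩ := span4 (h.ind hp hq H) x
  have e1 := congrArg E e
  simp only [map_add, map_smul, hp, hq, hx, h.EI' hp, h.EI' hq, smul_zero, zero_add, add_zero] at e1
  obtain ⟨rfl, rfl⟩ := H b d e1.symm
  exact ⟨a, c, by simpa using e⟩

theorem UW {x : V4} (hx : E x = 0) : E (U x) = 0 := by rw [← h.UE, hx, map_zero]

theorem bU {x y : V4} (hx : E x = 0) (hy : E y = 0) : ω (U x) (I (U y)) = ω x (I y) := by
  rw [← h.ωU x (I y), h.UI y hy, map_add, h.iso (h.UW hx) (h.UW hy), add_zero]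

theorem fix_aux {y p : V4} (hy : E y = 0) (hp : U y = y + p) (hp' : U p = p) : p = 0 := by
  by_contra p0
  have pW : E p = 0 := by
    have := h.UW hy
    rwa [hp, map_add, hy, zero_add] at this
  have H : ∀ a c : ZMod 3, a • p + c • y = 0 → a = 0 ∧ c = 0 := fun a c e => by
    have e1 := congrArg U e
    rw [map_add, map_smul, map_smul, hp, hp', map_zero, smul_add, ← add_assoc, e, zero_add] at e1
    obtain rfl := (smul_eq_zero.1 e1).resolve_right p0
    rw [zero_smul, add_zero] at e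
    exact ⟨(smul_eq_zero.1 e).resolve_right p0, rfl⟩
  have b1 : ω p (I p) = 0 := by
    have := h.bU hy pW
    rw [hp, hp', map_add, LinearMap.add_apply] at this
    linear_combination this
  have b2 : ω p (I y) = 0 := by
    have := h.bU hy hy
    simp only [hp, map_add, LinearMap.add_apply, b1, h.symm y p] at this
    have h3 : ∀ a b : ZMod 3, a + b + (b + 0) = a → b = 0 := by decide
    exact h3 _ _ this
  refine p0 (h.ndW pW fun z hz => ?_)
  obtain ⟨a, c, rfl⟩ := h.spanW pW hy H hz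
  simp [b1, b2]

theorem fix {x : V4} (hx : E x = 0) : U x = x := by
  have h1 : U (U x - x) - (U x - x) = 0 := h.fix_aux (y := U x - x) (by rw [map_sub, h.UW hx, hx, sub_zero])
    (add_sub_cancel _ _).symm (by
      simp only [map_sub, h.U3]
      linear_combination (exp := 1) three (U x) - three (U (U x)))
  exact sub_eq_zero.1 (h.fix_aux hx (add_sub_cancel _ _).symm (sub_eq_zero.1 h1))

end Dt

end Mod

open _root_.Cfsg.Agent.A43.Mod in
theorem exists_md (ω : V4 →ₗ[ZMod 3] V4 →ₗ[ZMod 3] ZMod 3) (ρ : S3 →* Module.End (ZMod 3) V4) (alt : ∀ x, ω x x = 0)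
    (nd : ∀ x, (∀ y, ω x y = 0) → x = 0) (inv : ∀ g x y, ω (ρ g x) (ρ g y) = ω x y) (neg : ∀ x, ρ (-1) x = -x)
    {t : S3} (t3 : t ^ 3 = 1) (t1 : t ≠ 1) {e v : V4} (e0 : e ≠ 0) (hv : ρ t v = v + e) (h0 : ω e v = 0) :
    ∃ (i : S3) (f : V4) (c0 c : ZMod 3), Md ω ρ t i e f ∧ v = ρ i e + c0 • e + c • f := by
  obtain ⟨i, ii, j, ti, k, tj, tk, ij, ji, jk, kj, ki, ik, jj, kk, gen⟩ := s_quat t t3 t1
  have mul : ∀ g g' x, ρ g (ρ g' x) = ρ (g * g') x := fun g g' x => by rw [map_mul]; rfl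
  have nm : ∀ g x, ρ (-1 * g) x = -ρ g x := fun g x => by rw [← mul, neg]
  have skew : ∀ q, q * q = -1 → ∀ x y, ω (ρ q x) y = -ω x (ρ q y) := fun q hq x y => by
    rw [← inv q, mul, hq, neg, map_neg, LinearMap.neg_apply]
  have D : Dt ω (ρ i) (ρ i + ρ j + ρ k) (ρ t) :=
    { alt := alt, nd := nd, ωI := skew i ii, ωU := inv t
      EE := fun x => by
        simp only [LinearMap.add_apply, map_add, mul, ii, jj, kk, ij, ji, jk, kj, ki, ik, nm, neg]
        linear_combination (exp := 1) -three x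
      EI := fun x => by
        simp only [LinearMap.add_apply, map_add, mul, ii, ij, ji, ki, ik, nm, neg]
        linear_combination (exp := 1) -three x
      ωE := fun x y => by
        simp only [LinearMap.add_apply, map_add, skew i ii, skew j jj, skew k kk]
        ring
      UE := fun x => by
        simp only [LinearMap.add_apply, map_add, mul, ti, tj, tk]
        abel
      U3 := fun x => by rw [mul, mul, ← pow_three', t3, map_one]; rfl
      UI := fun x hx => by
        have h1 : (ρ i + ρ j + ρ k) (ρ t x) = 0 := by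
          have := congrArg (ρ t) hx
          simp only [LinearMap.add_apply, map_add, mul, ti, tj, tk, map_zero] at this ⊢
          linear_combination (exp := 1) this
        have h2 := congrArg (ρ i) h1
        rw [mul, ti, ← mul]
        generalize ρ t x = y at h1 h2 ⊢
        simp only [LinearMap.add_apply, map_add, mul, ii, ij, ik, nm, neg, map_zero] at h1 h2
        linear_combination (exp := 1) h2 - h1 + three (ρ j y) }
  set E := ρ i + ρ j + ρ k with hE
  have ev : e = E v := by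
    have h1 := congrArg (ρ t) (D.EI v)
    rw [map_add, D.fix (D.EE _), D.UI _ (D.EE _), D.fix (D.EE _), ← add_assoc, D.EI, hv] at h1
    exact (add_left_cancel h1).symm
  have eW : E e = 0 := by rw [ev, D.EE]
  have eie : ω e (ρ i e) = 0 := by
    have h1 := congrArg (ω e) (D.EI v)
    rwa [map_add, D.iso eW (D.EE _), zero_add, h0, ← ev] at h1
  obtain ⟨g, gW, hg⟩ : ∃ g, E g = 0 ∧ ω e (ρ i g) = 1 := by
    by_contra hc
    refine e0 (D.ndW eW fun y hy => by_contra fun hy' => hc ⟨ω e (ρ i y) • y, by rw [map_smul, hy, smul_zero], ?_⟩)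
    rw [map_smul, map_smul, smul_eq_mul, z3_sq _ hy']
  obtain ⟨f, fW, fie, fif⟩ : ∃ f, E f = 0 ∧ ω f (ρ i e) = 1 ∧ ω f (ρ i f) = 0 := by
    refine ⟨g + ω g (ρ i g) • e, by rw [map_add, map_smul, gW, eW, smul_zero, add_zero], ?_, ?_⟩
    · simp [eie, D.symm g e, hg]
    · have h3 : ∀ a : ZMod 3, a + a + a = 0 := by decide
      simp [eie, D.symm g e, hg, h3]
  have H : ∀ a c : ZMod 3, a • e + c • f = 0 → a = 0 ∧ c = 0 := fun a c h1 => by
    have h2 := congrArg (fun x => ω x (ρ i e)) h1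
    simp only [map_add, map_smul, LinearMap.add_apply, LinearMap.smul_apply, eie, fie, smul_eq_mul, mul_zero,
      mul_one, zero_add, map_zero, LinearMap.zero_apply] at h2
    rw [h2, zero_smul, add_zero] at h1
    exact ⟨(smul_eq_zero.1 h1).resolve_right e0, h2⟩
  obtain ⟨c0, c, hc⟩ := D.spanW eW fW H (D.EE (ρ i v))
  refine ⟨i, f, c0, c, ⟨ii, ?_, D.fix eW, D.fix fW, by rw [D.UI e eW, D.fix eW], by rw [D.UI f fW, D.fix fW],
    D.iso eW fW, eie, fif, fie, span4 (D.ind eW fW H), D.ind eW fW H, fun m hm => ?_⟩, ?_⟩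
  · have hi : i ∈ clos [i, t] := mem_clos (by simp)
    have ht : t ∈ clos [i, t] := mem_clos (by simp)
    have hj : j ∈ clos [i, t] := by
      rw [← mul_inv_cancel_right j t, ← ti]; exact mul_mem (mul_mem ht hi) (inv_mem ht)
    refine eq_top_iff.2 fun m _ => ?_
    obtain ⟨q, hq, n, hn, hm⟩ := gen m
    have h1 : q * n ∈ clos [i, t] := by
      simp only [List.mem_cons, List.not_mem_nil, or_false] at hq hn
      refine mul_mem ?_ ?_
      · rcases hq with rfl | rfl | rfl | rfl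
        exacts [one_mem _, hi, hj, ij ▸ mul_mem hi hj]
      · rcases hn with rfl | rfl | rfl
        exacts [one_mem _, ht, mul_mem ht ht]
    rcases hm with rfl | rfl
    exacts [h1, mul_mem (ii ▸ mul_mem hi hi) h1]
  · refine (s_stab t t3 t1 m).imp_right fun h1 => h1.imp_right fun h1 => h1.resolve_right ?_
    rintro ⟨n, hn, hn'⟩
    have h2 : ρ n e = e := by
      simp only [List.mem_cons, List.not_mem_nil, or_false] at hn
      rcases hn with rfl | rfl | rfl <;> simp only [← mul, D.fix eW, hm]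
    have h3 : -e = e := by
      rcases hn' with rfl | hn'
      · rw [← neg, h2]
      · rw [← neg, ← hn', ← mul, h2, h2]
    exact e0 (by linear_combination (exp := 1) three e + h3)
  · have h1 := D.EI v
    rw [hc, ← ev] at h1
    linear_combination (exp := 1) -h1

end Cfsg.Agent.A43
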