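import Mathlib
import Cfsg.Agent.A43.Defs

/-!
The pair `Q3 a`, `Q3 y` for a conjugate `y` of `a^±` in `Q3 a`.
-/

set_option autoImplicit false

namespace Cfsg.Agent.A43

open Cfsg.Agent.Spor Cfsg.Agent.Rec Cfsg.Agent.Inv.Fz Cfsg.Agent.T16 Cfsg.Agent.T3 Cfsg.Agent.T3.LB Subgroup
open scoped commutatorElement

universe u

variable {G : Type u} [Group G] [Finite G]

namespace PairAux

/-- The part of the hypotheses which is transported to conjugates. -/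
structure Wk (a : G) : Prop where
  ex : Ex a
  exp : ∀ q ∈ Q3 a, q ^ 3 = 1
  hom : ∃ π : centralizer ({a} : Set G) →* S3, ∀ g, π g = 1 ↔ (g : G) ∈ Q3 a

omit [Finite G] in
theorem Wk.cj {a : G} (h : Wk a) (g : G) : Wk (g * a * g⁻¹) := by
  obtain ⟨π, hπ⟩ := h.hom
  refine ⟨ex_cj h.ex g, fun q hq => ?_, ?_⟩
  · rw [Q3_cj, mem_cj] at hq
    have := h.exp _ hq
    rw [show g⁻¹ * q * g = g⁻¹ * q * g⁻¹⁻¹ by rw [inv_inv], conj_pow, conj_eq_one_iff] at this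
    exact this
  · rw [← cj_centralizer_singleton, Q3_cj]
    refine ⟨π.comp (back g _), fun x => ?_⟩
    rw [MonoidHom.comp_apply, hπ, back_coe g _ x, conj_mem_cj]

omit [Finite G] in
theorem Wk.inv {a : G} (h : Wk a) : Wk a⁻¹ := by
  refine ⟨ex_inv h.ex, by rw [Q3_inv]; exact h.exp, ?_⟩
  rw [Q3_inv, show centralizer ({a⁻¹} : Set G) = centralizer {a} from Subgroup.ext fun g => by
    rw [mem_cen, mem_cen, comm_inv]]
  exact h.hom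

omit [Finite G] in
theorem Wk.ze {a y : G} (h : Wk a) (hz : ZE a y) : Wk y := by
  rcases hz with hz | hz <;> obtain ⟨g, rfl⟩ := isConj_iff.1 hz
  exacts [h.cj g, h.inv.cj g]

theorem nine : ¬9 ∣ Nat.card S3 := by rw [card_sl23]; norm_num

theorem card_D {a y : G} (ex : Ex a) (yQ : y ∈ Q3 a) (yz : y ∉ zpowers a) :
    Nat.card (Q3 a ⊓ centralizer {y} : Subgroup G) = 81 := by
  have h1 := GT.card_inf_mul_relIndex (centralizer {y}) (Q3 a)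
  rw [ex.esz.relIndex_centralizer yQ yz, ex.card, inf_comm] at h1
  omega

theorem exists_pair_D {a y : G} (ex : Ex a) (yQ : y ∈ Q3 a) (yz : y ∉ zpowers a) :
    ∃ p ∈ Q3 a ⊓ centralizer {y}, ∃ q ∈ Q3 a ⊓ centralizer {y}, ⁅p, q⁆ = a := by
  obtain ⟨y', hy', e⟩ := ex.esz.exists_commutator_eq yQ yz
  have h1 := ex.esz.split yQ hy' e
  have h2 := ex.esz.card_split yQ hy' e
  rw [ex.card] at h2
  obtain ⟨p, hp, q, hq, e'⟩ := h1.exists_pair fun h => by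
    rw [h1.eq_zpowers_iff_card.1 h] at h2
    omega
  exact ⟨p, hp.1, q, hq.1, e'⟩

theorem mem_other {a y : G} (ex : Ex a) (hy : Wk y) (yQ : y ∈ Q3 a) (yz : y ∉ zpowers a) :
    a ∈ Q3 y := by
  obtain ⟨π, hπ⟩ := hy.hom
  obtain ⟨p, hp, q, hq, e⟩ := exists_pair_D ex yQ yz
  have := range_comm (ex.esz.isPGroup.to_le (inf_le_left : Q3 a ⊓ centralizer {y} ≤ _))
    (π.comp (inclusion inf_le_right)) nine ⟨p, hp⟩ ⟨q, hq⟩
  rw [← e]
  exact (hπ _).1 this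

omit [Finite G] in
theorem notMem_other {a y : G} (ex : Ex a) (ey : Ex y) (yz : y ∉ zpowers a) : a ∉ zpowers y :=
  fun h => yz (by rw [zp_eq ey.ord h ex.esz.z_ne_one]; exact mem_zpowers y)

omit [Finite G] in
theorem comm_A {a y : G} (ex : Ex a) (ey : Ex y) (yz : y ∉ zpowers a) {x x' : G}
    (hx : x ∈ Q3 a ⊓ Q3 y) (hx' : x' ∈ Q3 a ⊓ Q3 y) : x * x' = x' * x := by
  by_contra h
  have h1 : x * x' * x⁻¹ * x'⁻¹ ≠ 1 := fun e => h (by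
    rw [mul_inv_eq_one, mul_inv_eq_iff_eq_mul] at e; exact e)
  refine yz ?_
  rw [← zp_eq ex.ord (ex.comm x hx.1 x' hx'.1) h1, zp_eq ey.ord (ey.comm x hx.2 x' hx'.2) h1]
  exact mem_zpowers y

theorem card_A {a y : G} (ex : Ex a) (hy : Wk y) (yQ : y ∈ Q3 a) (yz : y ∉ zpowers a) :
    Nat.card (Q3 a ⊓ Q3 y : Subgroup G) = 27 := by
  obtain ⟨π, hπ⟩ := hy.hom
  have hle : Q3 a ⊓ Q3 y ≤ Q3 a ⊓ centralizer {y} :=
    fun x hx => ⟨hx.1, mem_cen.2 (hy.ex.comm_a hx.2)⟩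
  have hD := card_D ex yQ yz
  let θ := π.comp (inclusion (inf_le_right : Q3 a ⊓ centralizer {y} ≤ _))
  have h1 := card_range_dvd (ex.esz.isPGroup.to_le (inf_le_left : Q3 a ⊓ centralizer {y} ≤ _))
    θ nine
  have h2 : θ.ker = (Q3 a ⊓ Q3 y).subgroupOf (Q3 a ⊓ centralizer {y}) := by
    ext x
    rw [MonoidHom.mem_ker, mem_subgroupOf]
    exact (hπ _).trans ⟨fun h => ⟨x.2.1, h⟩, fun h => h.2⟩
  have h3 := θ.ker.card_mul_index
  rw [index_ker, hD, h2, Nat.card_congr (subgroupOfEquivOfLe hle).toEquiv] at h3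
  rcases (Nat.dvd_prime Nat.prime_three).1 h1 with h4 | h4 <;> rw [h4] at h3
  · exfalso
    have h5 := eq_of_le_of_card_ge hle (by omega)
    obtain ⟨p, hp, q, hq, e⟩ := exists_pair_D ex yQ yz
    rw [← h5] at hp hq
    exact ex.esz.not_commute_of_eq e (comm_A ex hy.ex yz hp hq)
  · omega

omit [Finite G] in
/-- A non-central element of `Q3 a` is conjugate in `Q3 a` to all elements of its coset. -/
theorem exists_move {a y c : G} (ex : Ex a) (yQ : y ∈ Q3 a) (yz : y ∉ zpowers a)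
    (hc : c ∈ zpowers a) : ∃ q ∈ Q3 a, q * y * q⁻¹ = y * c := by
  obtain ⟨y', hy', e⟩ := ex.esz.exists_commutator_eq yQ yz
  obtain ⟨k, rfl⟩ := hc
  have h1 := ex.esz.commutator_zpow_right yQ hy' (-k)
  rw [e, commutatorElement_def] at h1
  refine ⟨y' ^ (-k), zpow_mem hy' _, ?_⟩
  have h2 : Commute y (a ^ k) := (ex.esz.commute_z yQ).zpow_right k
  calc y' ^ (-k) * y * (y' ^ (-k))⁻¹ = (y * y' ^ (-k) * y⁻¹ * (y' ^ (-k))⁻¹)⁻¹ * y := by group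
    _ = y * a ^ k := by rw [h1, zpow_neg, inv_inv, h2.eq]

theorem s_odd : ∀ m : S3, m * m = 1 → m = 1 ∨ m = -1 := by decide +kernel

theorem s_cube : (-1 : S3) ^ 3 = -1 ∧ (-1 : S3) * -1 = 1 := by decide +kernel

omit [Finite G] in
theorem exists_r {a y : G} (h : H0 a) (yQ : y ∈ Q3 a) (yz : y ∉ zpowers a) :
    ∃ r : centralizer ({a} : Set G), (r : G) * r = 1 ∧ h.ψ r = -1 ∧ r * y * (r : G)⁻¹ = y⁻¹ := by
  obtain ⟨g, hg⟩ := h.surj (-1)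
  have h1 : h.ψ (g ^ 3) = -1 := by rw [map_pow, hg, s_cube.1]
  have h2 : ((g ^ 3 : centralizer ({a} : Set G)) : G) * (g ^ 3 : centralizer ({a} : Set G)) = 1 := by
    have := h.exp _ ((h.ker (g * g)).1 (by rw [map_mul, hg, s_cube.2]))
    rw [← this, coe_pow, coe_mul, ← (Commute.refl (g : G)).mul_pow]
  obtain ⟨r, hr1, hr2⟩ : ∃ r : centralizer ({a} : Set G), h.ψ r = -1 ∧ (r : G) * r = 1 := ⟨_, h1, h2⟩
  have h3 : (r : G) * y * (r : G)⁻¹ * y ∈ zpowers a := h.neg r hr1 y yQ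
  obtain ⟨q, hq, e⟩ := exists_move h.ex yQ yz h3
  have hqa : q ∈ centralizer ({a} : Set G) := mem_cen.2 (h.ex.comm_a hq)
  have hq1 : h.ψ ⟨q, hqa⟩ = 1 := (h.ker _).2 hq
  refine ⟨⟨q, hqa⟩⁻¹ * r * ⟨q, hqa⟩, ?_, by rw [map_mul, map_mul, map_inv, hq1, hr1]; simp, ?_⟩
  · change q⁻¹ * r * q * (q⁻¹ * r * q) = 1
    calc q⁻¹ * r * q * (q⁻¹ * r * q) = q⁻¹ * (r * r) * q := by group
      _ = 1 := by rw [hr2]; group
  · change q⁻¹ * r * q * y * (q⁻¹ * r * q)⁻¹ = y⁻¹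
    obtain ⟨c, hc⟩ : ∃ c, c = (r : G) * y * (r : G)⁻¹ * y := ⟨_, rfl⟩
    rw [← hc] at e h3
    have h4 : (r : G) * c * (r : G)⁻¹ = c := conj_z (mem_cen.1 r.2) h3
    have h5 : (r : G) * y * (r : G)⁻¹ = c * y⁻¹ := by rw [hc]; group
    have h6 : Commute y c := h.ex.esz.commute_of_mem_zpowers yQ h3
    have h7 : c ^ 3 = 1 := h.ex.esz.pow_eq_one_of_mem_zpowers h3
    have h8 : (r : G) * (y * c) * (r : G)⁻¹ = (y * c)⁻¹ := by
      calc (r : G) * (y * c) * (r : G)⁻¹ = (r * y * (r : G)⁻¹) * (r * c * (r : G)⁻¹) := by group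
        _ = c * (y⁻¹ * c) := by rw [h4, h5, mul_assoc]
        _ = c ^ 3 * (c⁻¹ * y⁻¹) := by rw [h6.inv_left.eq, pow_three]; group
        _ = (y * c)⁻¹ := by rw [h7, one_mul, mul_inv_rev]
    calc q⁻¹ * r * q * y * (q⁻¹ * r * q)⁻¹ = q⁻¹ * (r * (q * y * q⁻¹) * (r : G)⁻¹) * q := by group
      _ = y⁻¹ := by rw [e, h8, ← e]; group

omit [Finite G] in
theorem step {K : Subgroup G} {g g' w : G} (hg : ∀ x ∈ K, g * x * g⁻¹ ∈ K)
    (h1 : g * w * g⁻¹ * w⁻¹ ∈ K) (h2 : g' * w * g'⁻¹ * w⁻¹ ∈ K) :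
    g * g' * w * (g * g')⁻¹ * w⁻¹ ∈ K := by
  rw [show g * g' * w * (g * g')⁻¹ * w⁻¹ = g * (g' * w * g'⁻¹ * w⁻¹) * g⁻¹ * (g * w * g⁻¹ * w⁻¹) by
    group]
  exact mul_mem (hg _ h2) h1

end PairAux

open PairAux in
theorem H0.exists_h1 {a y : G} (h : H0 a) (yQ : y ∈ Q3 a) (yz : y ∉ zpowers a) (ze : ZE a y) : Nonempty (H1 a y) := by
  have wa : Wk a := ⟨h.ex, h.exp, h.ψ, h.ker⟩
  have wy : Wk y := wa.ze ze
  have ey := wy.ex
  have aQ : a ∈ Q3 y := mem_other h.ex wy yQ yz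
  have az : a ∉ zpowers y := notMem_other h.ex ey yz
  have hA := card_A h.ex wy yQ yz
  have hD := card_D ey aQ az
  have hcomm : ∀ x ∈ Q3 a ⊓ Q3 y, ∀ x' ∈ Q3 a ⊓ Q3 y, x * x' = x' * x :=
    fun x hx x' hx' => comm_A h.ex ey yz hx hx'
  have hAD : Q3 a ⊓ Q3 y ≤ Q3 y ⊓ centralizer {a} :=
    fun x hx => ⟨hx.2, mem_cen.2 (h.ex.comm_a hx.1)⟩
  obtain ⟨r, r2, rn, ry⟩ := exists_r h yQ yz
  have rQ : ∀ x ∈ Q3 y, (r : G) * x * (r : G)⁻¹ ∈ Q3 y := fun x hx => by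
    rw [← Q3_inv, ← ry, Q3_cj]
    exact conj_mem_cj.2 hx
  obtain ⟨t, ht, htA⟩ : ∃ t ∈ Q3 y ⊓ centralizer {a}, t ∉ Q3 a ⊓ Q3 y := by
    by_contra hc
    push Not at hc
    have := card_le_of_le (hc : Q3 y ⊓ centralizer {a} ≤ Q3 a ⊓ Q3 y)
    omega
  obtain ⟨u, uQ', uQ, ur⟩ : ∃ u : centralizer ({a} : Set G), (u : G) ∈ Q3 y ∧ (u : G) ∉ Q3 a ∧
      (u : G) * r = r * u := by
    let t' : centralizer ({a} : Set G) := ⟨t, ht.2⟩
    have h1 : (r : G) * t * (r : G)⁻¹ * t⁻¹ ∈ Q3 a := (h.ker (r * t' * r⁻¹ * t'⁻¹)).1 (by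
      rw [map_mul, map_mul, map_mul, map_inv, map_inv, rn, s_negc'])
    have h2 : (r : G) * t * (r : G)⁻¹ * t⁻¹ ∈ Q3 y := mul_mem (rQ t ht.1) (inv_mem ht.1)
    refine ⟨(r * t' * r⁻¹ * t'⁻¹)⁻¹ * t', mul_mem (inv_mem h2) ht.1,
      fun h3 => htA ⟨(mul_mem_cancel_left (inv_mem h1)).1 h3, ht.1⟩, ?_⟩
    change ((r : G) * t * (r : G)⁻¹ * t⁻¹)⁻¹ * t * r = r * (((r : G) * t * (r : G)⁻¹ * t⁻¹)⁻¹ * t)
    have h3 := h.exp _ h1
    have hri : (r : G)⁻¹ = r := inv_eq_of_mul_eq_one_right r2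
    rw [hri] at h3 ⊢
    obtain ⟨x, hx⟩ : ∃ x, x = (r : G) * t * r * t⁻¹ := ⟨_, rfl⟩
    rw [← hx] at h3 ⊢
    have h4 : (r : G) * x⁻¹ = x * r := by
      rw [hx]
      calc (r : G) * ((r : G) * t * r * t⁻¹)⁻¹ = r * t * (r : G)⁻¹ * t⁻¹ * (r : G)⁻¹ := by group
        _ = _ := by rw [hri]
    have h5 : (r : G) * t = x * t * r := by
      rw [hx]
      calc (r : G) * t = r * t * (r * r) := by rw [r2, mul_one]
        _ = _ := by group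
    calc x⁻¹ * t * r = x ^ 3 * x⁻¹ * t * r := by rw [h3, one_mul]
      _ = x * (x * t * r) := by rw [pow_three]; group
      _ = r * (x⁻¹ * t) := by rw [← h5, ← mul_assoc, ← h4, mul_assoc]
  obtain ⟨w, wA, uw⟩ : ∃ w ∈ Q3 a ⊓ Q3 y, (u : G) * w * (u : G)⁻¹ = w * y := by
    obtain ⟨w, wA, hw⟩ : ∃ w ∈ Q3 a ⊓ Q3 y, (u : G) * w ≠ w * u := by
      by_contra hc
      push Not at hc
      have u3 := wy.exp _ uQ'
      have uo : orderOf (u : G) = 3 := orderOf_eq_prime u3 fun e => uQ (e ▸ one_mem _)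
      have h1 := card_sup_zp uo hc fun e => uQ e.1
      have h2 : zpowers (u : G) ⊔ Q3 a ⊓ Q3 y = Q3 y ⊓ centralizer {a} :=
        eq_of_le_of_card_ge (sup_le (zpowers_le.2 ⟨uQ', u.2⟩) hAD) (by omega)
      have h3 : ∀ x ∈ Q3 a ⊓ Q3 y, Q3 y ⊓ centralizer {a} ≤ centralizer {x} := fun x hx => by
        rw [← h2]
        exact sup_le (zpowers_le.2 (mem_cen.2 (hc x hx))) fun x' hx' => mem_cen.2 (hcomm x' hx' x hx)
      have h4 : Q3 y ⊓ centralizer {a} ≤ centralizer {(u : G)} := by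
        rw [← h2]
        exact sup_le (zpowers_le.2 (mem_cen.2 rfl)) fun x hx => mem_cen.2 (hc x hx).symm
      obtain ⟨p, hp, q, hq, e⟩ := exists_pair_D ey aQ az
      have h5 : Q3 y ⊓ centralizer {a} ≤ centralizer {p} := by
        conv_lhs => rw [← h2]
        exact sup_le (zpowers_le.2 (mem_cen.2 (mem_cen.1 (h4 hp)).symm))
          fun x hx => mem_cen.2 (mem_cen.1 (h3 x hx hp)).symm
      exact ey.esz.not_commute_of_eq e (mem_cen.1 (h5 hq)).symm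
    obtain ⟨k, hk⟩ := exists_val ey.ord (ey.comm _ uQ' _ wA.2)
    have hwy : Commute w y := ey.comm_a wA.2
    have hk' : (u : G) * w * (u : G)⁻¹ = w * y ^ k.val := by
      rw [(hwy.pow_right _).eq, ← hk]; group
    have h3 : k = 0 ∨ k = 1 ∨ k = 2 := (by decide : ∀ k : ZMod 3, k = 0 ∨ k = 1 ∨ k = 2) k
    rcases h3 with rfl | rfl | rfl
    · exact absurd (mul_inv_eq_iff_eq_mul.1 (hk'.trans (by rw [ZMod.val_zero, pow_zero, mul_one]))) hw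
    · exact ⟨w, wA, hk'.trans (by rw [show (1 : ZMod 3).val = 1 from rfl, pow_one])⟩
    · refine ⟨w⁻¹, inv_mem wA, ?_⟩
      rw [← conj_inv, hk', show (2 : ZMod 3).val = 2 from rfl, mul_inv_rev,
        inv_eq_of_mul_eq_one_right (show y ^ 2 * y = 1 by rw [← pow_succ, ey.esz.z_pow]),
        hwy.inv_left.eq]
  obtain ⟨τ, τQ, τy⟩ := exists_move h.ex yQ yz (mem_zpowers a)
  obtain ⟨σ, σQ, σa⟩ := exists_move ey aQ az (inv_mem (mem_zpowers y))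
  obtain ⟨ν, νQ, νa⟩ := exists_move ey aQ az (mem_zpowers y)
  have τa : τ * a * τ⁻¹ = a := mul_inv_eq_iff_eq_mul.2 (h.ex.comm_a τQ)
  have σy : σ * y * σ⁻¹ = y := mul_inv_eq_iff_eq_mul.2 (ey.comm_a σQ)
  have hay : Commute a y := ey.comm_a aQ
  have na : τ * σ * τ * a * (τ * σ * τ)⁻¹ = y⁻¹ := by
    calc τ * σ * τ * a * (τ * σ * τ)⁻¹ = τ * (σ * (τ * a * τ⁻¹) * σ⁻¹) * τ⁻¹ := by group
      _ = (τ * a * τ⁻¹) * (τ * y * τ⁻¹)⁻¹ := by rw [τa, σa]; nth_rw 2 [← τa]; group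
      _ = y⁻¹ := by rw [τa, τy]; group
  have ny : τ * σ * τ * y * (τ * σ * τ)⁻¹ = a := by
    calc τ * σ * τ * y * (τ * σ * τ)⁻¹ = τ * (σ * (τ * y * τ⁻¹) * σ⁻¹) * τ⁻¹ := by group
      _ = τ * ((σ * y * σ⁻¹) * (σ * a * σ⁻¹)) * τ⁻¹ := by rw [τy]; group
      _ = a := by rw [σy, σa, ← mul_assoc y, ← hay.eq, mul_inv_cancel_right, τa]
  have haK : a ∈ clos [a, y] := mem_clos (by simp)
  have hyK : y ∈ clos [a, y] := mem_clos (by simp)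
  have hK : clos [a, y] ≤ Q3 a ⊓ Q3 y := clos_le.2 (by simp [h.ex.mem, ey.mem, yQ, aQ])
  have τA : ∀ x ∈ Q3 a ⊓ Q3 y, τ * x * τ⁻¹ * x⁻¹ ∈ clos [a, y] := fun x hx =>
    zpowers_le.2 haK (h.ex.comm _ τQ _ hx.1)
  have σA : ∀ x ∈ Q3 a ⊓ Q3 y, σ * x * σ⁻¹ * x⁻¹ ∈ clos [a, y] := fun x hx =>
    zpowers_le.2 hyK (ey.comm _ σQ _ hx.2)
  have τK : ∀ x ∈ clos [a, y], τ * x * τ⁻¹ ∈ clos [a, y] := fun x hx =>
    (mul_mem_cancel_right (inv_mem hx)).1 (τA x (hK hx))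
  have σK : ∀ x ∈ clos [a, y], σ * x * σ⁻¹ ∈ clos [a, y] := fun x hx =>
    (mul_mem_cancel_right (inv_mem hx)).1 (σA x (hK hx))
  have nK : ∀ x ∈ clos [a, y], τ * σ * τ * x * (τ * σ * τ)⁻¹ ∈ clos [a, y] := fun x hx => by
    rw [show τ * σ * τ * x * (τ * σ * τ)⁻¹ = τ * (σ * (τ * x * τ⁻¹) * σ⁻¹) * τ⁻¹ by group]
    exact τK _ (σK _ (τK x hx))
  have nw : τ * σ * τ * w * (τ * σ * τ)⁻¹ * w⁻¹ ∈ clos [a, y] := by
    rw [mul_assoc τ σ τ]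
    exact step τK (τA w wA) (step σK (σA w wA) (τA w wA))
  refine ⟨{ toH0 := h, r := r, u := u, s := τ * σ * τ * (τ * σ * τ), w := w, yQ := yQ, yz := yz,
            yy := ey.mem, card := hA, aA := aQ, comm := hcomm, r2 := r2, rn := rn, ry := ry,
            u3 := wy.exp _ uQ', uQ := uQ, ur := ur, wA := wA, uw := uw, sa := ?_, sy := ?_,
            sw := step nK nw nw, uy := ey.comm_a uQ', mv := ⟨ν, ?_, νa⟩ }⟩
  · calc τ * σ * τ * (τ * σ * τ) * a * (τ * σ * τ * (τ * σ * τ))⁻¹ =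
          τ * σ * τ * (τ * σ * τ * a * (τ * σ * τ)⁻¹) * (τ * σ * τ)⁻¹ := by group
      _ = a⁻¹ := by rw [na, ← conj_inv, ny]
  · calc τ * σ * τ * (τ * σ * τ) * y * (τ * σ * τ * (τ * σ * τ))⁻¹ =
          τ * σ * τ * (τ * σ * τ * y * (τ * σ * τ)⁻¹) * (τ * σ * τ)⁻¹ := by group
      _ = y⁻¹ := by rw [ny, na]
  · refine mem_normalizer_of_conj_mem fun x hx => ?_
    exact (mul_mem_cancel_right (inv_mem hx)).1
      (hK (zpowers_le.2 hyK (ey.comm _ νQ _ hx.2)))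

end Cfsg.Agent.A43
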