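import Mathlib
import Cfsg.Agent.A43.Defs
import Cfsg.Agent.Cl.LinearBasic
import Cfsg.Agent.GT.Cores
import Cfsg.Agent.S2392

set_option autoImplicit false

namespace Cfsg.Agent.A43

open Cfsg.Agent.Spor Cfsg.Agent.Rec Cfsg.Agent.Inv.Fz Cfsg.Agent.T16 Cfsg.Agent.T3 Cfsg.Agent.T3.LB Subgroup

universe u

variable {G : Type u} [Group G] [Finite G]

namespace Par

/-- The element with the given block and last column. -/
def mkP (A : SL3) (v : Fin 3 → ZMod 3) : PP :=
  mk (A 0 0) (A 0 1) (A 0 2) (v 0) (A 1 0) (A 1 1) (A 1 2) (v 1) (A 2 0) (A 2 1) (A 2 2) (v 2)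
    ((Matrix.det_fin_three A.1).symm.trans A.2)

/-- The upper left block. -/
def β : PP →* SL3 where
  toFun g := ⟨g.1.1.submatrix Fin.castSucc Fin.castSucc, by
    have h := g.1.2
    rw [Matrix.det_succ_row _ 3, Fin.sum_univ_four, g.2 0, g.2 1, g.2 2, g.2 3] at h
    rw [show (3 : Fin 4).succAbove = Fin.castSucc from Fin.succAbove_last] at h
    simpa [show (-1 : ZMod 3) ^ (3 + 3) = 1 from rfl] using h⟩
  map_one' := Subtype.ext (Matrix.submatrix_one _ (Fin.castSucc_injective 3))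
  map_mul' g h := Subtype.ext (Matrix.ext fun i j => by
    have := h.2 j.castSucc
    rw [if_neg (show j.castSucc ≠ 3 from (Fin.castSucc_lt_last j).ne)] at this
    simp only [Subgroup.coe_mul, Matrix.SpecialLinearGroup.coe_mul, Matrix.submatrix_apply, Matrix.mul_apply,
      Fin.sum_univ_castSucc (n := 3)]
    rw [show (h.1.1 (Fin.last 3) j.castSucc) = 0 from this, mul_zero, add_zero]
    rfl)

theorem β_mkP (A : SL3) (v : Fin 3 → ZMod 3) : β (mkP A v) = A :=
  Subtype.ext (Matrix.ext fun i j => by fin_cases i <;> fin_cases j <;> rfl)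

theorem mkP_β (g : PP) : mkP (β g) (fun i => g.1 i.castSucc 3) = g :=
  Subtype.ext (Subtype.ext (Matrix.ext fun i j => by
    have := g.2 j
    fin_cases i <;> fin_cases j <;> first | rfl | exact this.symm))

theorem card_ker : Nat.card β.ker = 27 := by
  rw [← Nat.card_eq_of_bijective (fun v : Fin 3 → ZMod 3 => (⟨mkP 1 v, β_mkP 1 v⟩ : β.ker))
    ⟨fun v w e => funext fun i => ?_, fun g => ⟨_, Subtype.ext ((congrArg (mkP · _) g.2).symm.trans (mkP_β g.1))⟩⟩]
  · simp
  · have := congrArg (fun g : β.ker => g.1.1 i.castSucc 3) e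
    fin_cases i <;> exact this

theorem simple_SL3 : IsSimpleGroup SL3 := by
  have h : center SL3 = ⊥ := (eq_bot_iff_forall _).2 fun g hg => by
    obtain ⟨r, hr, e⟩ := Matrix.SpecialLinearGroup.mem_center_iff.1 hg
    obtain rfl : r = 1 := (show ∀ r : ZMod 3, r ^ 3 = 1 → r = 1 by decide) r hr
    exact Subtype.ext (e.symm.trans (map_one _))
  have := Cl.psl_fin_isSimpleGroup (F := ZMod 3) (n := 3) (by decide) (by decide)
  exact ((QuotientGroup.quotientMulEquivOfEq h).trans QuotientGroup.quotientBot).symm.isSimpleGroup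

theorem pCore_eq {P : Type*} [Group P] (f : P →* SL3) (hf : Function.Surjective f) (h : Nat.card f.ker = 27) :
    Cfsg.pCore 3 P = f.ker := by
  have := simple_SL3
  refine le_antisymm (sSup_le fun N hN => ?_) (le_sSup ⟨inferInstance, IsPGroup.of_card (n := 3) h⟩)
  refine (map_eq_bot_iff N).1 ((hN.1.map f hf).eq_bot_or_eq_top.resolve_right fun e => ?_)
  obtain ⟨k, hk⟩ := hN.2.map f ⟨β R1, e ▸ mem_top _⟩
  have h2 : β R1 ^ 2 = 1 := by decide +kernel
  have h3 : β R1 ^ 3 ^ k = 1 := congrArg Subtype.val hk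
  obtain ⟨j, hj⟩ : Odd (3 ^ k) := Odd.pow (by decide)
  rw [hj, pow_succ, pow_mul, h2, one_pow, one_mul] at h3
  exact absurd h3 (by decide +kernel)

theorem mk_inj : Function.Injective ((QuotientGroup.mk' (center SL4)).comp PP.subtype) :=
  (injective_iff_map_eq_one _).2 fun g hg => by
    obtain ⟨r, -, e⟩ := Matrix.SpecialLinearGroup.mem_center_iff.1 ((QuotientGroup.eq_one_iff _).1 hg)
    have h : r = 1 := by simpa using (congrFun (congrFun e 3) 3).trans (g.2 3)
    exact Subtype.ext (Subtype.ext (e.symm.trans (by rw [h]; exact map_one _)))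

/-- The last row lies outside the line spanned by the last basis vector. -/
def Out (g : SL4) : Prop := (fun i : Fin 3 => g 3 i.castSucc) ≠ 0

theorem mem_of_not_out {g : SL4} (h : ¬Out g) :
    (g : PSL4) ∈ ((QuotientGroup.mk' (center SL4)).comp PP.subtype).range := by
  have h0 : ∀ i : Fin 3, g 3 i.castSucc = 0 := congrFun (not_not.1 h)
  have k : ∀ g : SL4, (∀ i : Fin 3, g 3 i.castSucc = 0) → g 3 3 = 1 → g ∈ PP := fun g h0 h1 j => by
    fin_cases j
    exacts [h0 0, h0 1, h0 2, h1]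
  have h3 : ∀ a : ZMod 3, a = 0 ∨ a = 1 ∨ -a = 1 := by decide
  rcases h3 (g 3 3) with e | e | e
  · refine absurd (g.2.symm.trans (Matrix.det_eq_zero_of_row_eq_zero 3 fun j => ?_)) (by decide)
    fin_cases j
    exacts [h0 0, h0 1, h0 2, e]
  · exact ⟨⟨g, k g h0 e⟩, rfl⟩
  · let z : SL4 := ⟨Matrix.scalar (Fin 4) (-1), by decide +kernel⟩
    have hz : z ∈ center SL4 := Matrix.SpecialLinearGroup.mem_center_iff.2 ⟨-1, by decide, rfl⟩
    have hg : ∀ j, (g * z) 3 j = -g 3 j := fun j => by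
      rw [Matrix.SpecialLinearGroup.coe_mul, show z.1 = Matrix.diagonal fun _ => -1 from rfl, Matrix.mul_diagonal,
        mul_neg_one]
    exact ⟨⟨g * z, k _ (fun i => by rw [hg, h0, neg_zero]) (by rw [hg, e])⟩, QuotientGroup.mk_mul_of_mem g hz⟩

theorem exists_row {g : SL4} (h : Out g) : ∃ p : PP, ∀ j, (g * p) 3 j = if j = 0 then 1 else 0 := by
  obtain ⟨A, hA⟩ := S2392.exists_sl_vecMul (ι := Fin 3) (by decide) h (φ := ![1, 0, 0]) (by decide)
  have k := fun j => congrFun hA j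
  simp only [Matrix.vecMul, dotProduct, Fin.sum_univ_three] at k
  refine ⟨mkP A fun i => -g 3 3 * A i 0, fun j => ?_⟩
  simp only [Matrix.SpecialLinearGroup.coe_mul, Matrix.mul_apply, Fin.sum_univ_four, mkP, mk_coe]
  fin_cases j
  · simpa using k 0
  · simpa using k 1
  · simpa using k 2
  · have := k 0
    simp at this ⊢
    linear_combination (-g 3 3) * this

theorem coatom : IsCoatom ((QuotientGroup.mk' (center SL4)).comp PP.subtype).range := by
  have out : ∀ g : SL4, (g : PSL4) ∈ ((QuotientGroup.mk' (center SL4)).comp PP.subtype).range → ¬Out g := by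
    rintro g ⟨p, hp⟩ h
    obtain ⟨r, -, e⟩ := Matrix.SpecialLinearGroup.mem_center_iff.1 (QuotientGroup.eq.1 hp)
    refine h (funext fun i => ?_)
    have h1 : g = p * ((p : SL4)⁻¹ * g) := by group
    have h2 := p.2 i.castSucc
    rw [if_neg (show i.castSucc ≠ 3 from (Fin.castSucc_lt_last i).ne)] at h2
    rw [h1, Matrix.SpecialLinearGroup.coe_mul, show ((p : SL4)⁻¹ * g).1 = _ from e.symm, Matrix.scalar_apply,
      Matrix.mul_diagonal, h2, zero_mul, Pi.zero_apply]
  refine ⟨fun e => out ⟨!![1, 0, 0, 0; 0, 1, 0, 0; 0, 0, 1, 0; 0, 0, 1, 1], by decide +kernel⟩ (e ▸ mem_top _)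
    (by unfold Out; decide +kernel), fun L hL => eq_top_iff.2 fun x _ => ?_⟩
  obtain ⟨y, hy, hy'⟩ := SetLike.exists_of_lt hL
  obtain ⟨g, rfl⟩ := QuotientGroup.mk_surjective y
  obtain ⟨h, rfl⟩ := QuotientGroup.mk_surjective x
  by_cases ho : Out h
  · obtain ⟨p, hp⟩ := exists_row (not_not.1 fun n => hy' (mem_of_not_out n))
    obtain ⟨p', hp'⟩ := exists_row ho
    have m : ∀ p : PP, ((p : SL4) : PSL4) ∈ L := fun p => hL.le ⟨p, rfl⟩
    have k : h * p' * (g * p)⁻¹ ∈ PP := fun j => by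
      have := congrFun (congrFun (congrArg Subtype.val (mul_inv_cancel (g * p : SL4))) 3) j
      rw [Matrix.SpecialLinearGroup.coe_mul, Matrix.mul_apply] at this ⊢
      simp only [hp, hp'] at this ⊢
      rw [this, Matrix.SpecialLinearGroup.coe_one, Matrix.one_apply]
      simp [eq_comm]
    have e : h = h * p' * (g * p)⁻¹ * g * p * (p'⁻¹ : PP) := by simp [mul_assoc]
    rw [e, QuotientGroup.mk_mul, QuotientGroup.mk_mul, QuotientGroup.mk_mul]
    exact mul_mem (mul_mem (mul_mem (m ⟨_, k⟩) hy) (m p)) (m _)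
  · exact hL.le (mem_of_not_out ho)

end Par

open Par in
theorem exists_par : ∃ P : Subgroup PSL4, IsCoatom P ∧ Nat.card (Cfsg.pCore 3 P) = 27 ∧
    Nonempty (P ⧸ Cfsg.pCore 3 P ≃* SL3) ∧ Nonempty (PP ≃* P) := by
  let e := MonoidHom.ofInjective mk_inj
  have hs : Function.Surjective (β.comp e.symm.toMonoidHom) := fun A => ⟨e (mkP A 0), by simp [β_mkP]⟩
  have hc : Nat.card (β.comp e.symm.toMonoidHom).ker = 27 := by
    rw [← card_ker, ← MonoidHom.comap_ker]
    exact Nat.card_congr (e.symm.toEquiv.subtypeEquiv fun _ => Iff.rfl)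
  have h := pCore_eq _ hs hc
  exact ⟨_, coatom, h ▸ hc, ⟨(QuotientGroup.quotientMulEquivOfEq h).trans
    (QuotientGroup.quotientKerEquivOfSurjective _ hs)⟩, ⟨e⟩⟩

end Cfsg.Agent.A43
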