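import Mathlib
import Cfsg.Agent.A43.Base2
import Cfsg.Agent.L4C.Three

/-!
The centraliser of `r` is that of `diag(-1,-1,1,1)` in `L₄(3)`.
-/

set_option autoImplicit false
set_option synthInstance.maxSize 100000
set_option synthInstance.maxHeartbeats 1000000
set_option maxRecDepth 100000
set_option linter.unusedSectionVars false

namespace Cfsg.Agent.A43

open Cfsg.Agent.Spor Cfsg.Agent.Rec Cfsg.Agent.Inv.Fz Cfsg.Agent.T16 Cfsg.Agent.T3 Cfsg.Agent.T3.LB Subgroup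
open Cfsg.Agent.L4C

universe u

/-- The first block in the middle of a `4 × 4` matrix. -/
def blk : Dl (ZMod 3) →* PP where
  toFun x := mk x.B.det 0 0 0 0 (x.A 0 0) (x.A 0 1) 0 0 (x.A 1 0) (x.A 1 1) 0 (by
    have := x.h; rw [Matrix.det_fin_two x.A] at this; linear_combination this)
  map_one' := Subtype.ext (Subtype.ext (by
    ext i j; fin_cases i <;> fin_cases j <;> simp [mk_coe, Dl.one_A, Dl.one_B]))
  map_mul' x y := Subtype.ext (Subtype.ext (by
    ext i j; fin_cases i <;> fin_cases j <;>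
      simp [mk_coe, Dl.mul_A, Dl.mul_B, Matrix.mul_apply, Fin.sum_univ_succ]))

theorem blk_A {x y : Dl (ZMod 3)} (h : blk x = blk y) : x.A = y.A := by
  have h1 : ∀ i j, (blk x : SL4) i j = (blk y : SL4) i j := fun i j => by rw [h]
  ext i j; fin_cases i <;> fin_cases j
  exacts [h1 1 1, h1 1 2, h1 2 1, h1 2 2]

theorem blk_eq {x y : Dl (ZMod 3)} (h : x.A = y.A) (h' : x.B.det = y.B.det) : blk x = blk y :=
  Subtype.ext (Subtype.ext (by simp only [blk, MonoidHom.coe_mk, OneHom.coe_mk, mk_coe, h, h']))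

/-- `diag(-1,1,-1,1)` -/
def dd : Dl (ZMod 3) := Dl.dg (-1) 1 (-1) 1 (by decide)

theorem det_cases (x : Dl (ZMod 3)) : x.A.det = 1 ∧ x.B.det = 1 ∨ x.A.det = -1 ∧ x.B.det = -1 := by
  have := x.h; revert this; generalize x.A.det = a; generalize x.B.det = b; revert a b; decide

theorem scal_of_comm : ∀ A : M2 (ZMod 3), A * !![1, 1; 0, 1] = !![1, 1; 0, 1] * A →
    A * !![0, 1; -1, 0] = !![0, 1; -1, 0] * A → A.det ≠ 0 → A = 1 ∨ A = -1 := by decide +kernel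

variable {G : Type u} [Group G] [Finite G]

namespace Lo

variable (s : Lo G)

/-- The first block. -/
def F1 : Dl (ZMod 3) →* G := s.φ.comp blk

theorem F1_u : s.F1 (Dl.inl (xu 1)) = s.u := congrArg s.φ (Subtype.ext (Subtype.ext (by decide +kernel)))
theorem F1_n : s.F1 (Dl.inl nn) = s.n2 := congrArg s.φ (Subtype.ext (Subtype.ext (by decide +kernel)))
theorem F1_r : s.F1 (Dl.inl (-1)) = s.r := congrArg s.φ (Subtype.ext (Subtype.ext (by decide +kernel)))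
theorem F1_k : s.F1 dd = s.k := congrArg s.φ (Subtype.ext (Subtype.ext (by decide +kernel)))
theorem F1_inr (X : S2 (ZMod 3)) : s.F1 (Dl.inr X) = 1 :=
  (congrArg s.φ (blk_eq (x := Dl.inr X) (y := 1) rfl (X.2.trans Matrix.det_one.symm))).trans (map_one s.F1)

theorem F1_mem {x : Dl (ZMod 3)} (hx : x.A.det = 1) : s.F1 x ∈ s.F := by
  have h1 : s.F = (s.F1.comp Dl.inl).range := eq_of_le_of_card_ge (clos_le.2 (by
    simp only [List.forall_mem_cons, List.not_mem_nil, false_imp_iff, implies_true, and_true]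
    exact ⟨⟨_, s.F1_u⟩, _, s.F1_n⟩)) (by
      rw [s.gF.2, ← card_sl23]
      exact Nat.card_le_card_of_surjective _ (s.F1.comp Dl.inl).rangeRestrict_surjective)
  exact h1 ▸ ⟨⟨x.A, hx⟩, congrArg s.φ (blk_eq rfl (by
    have := x.h; rw [hx, one_mul] at this; rw [this]; exact Matrix.det_one))⟩

/-- The determinant, as an element of `⟨k⟩`. -/
def ek (x : Dl (ZMod 3)) : G := if x.A.det = 1 then 1 else s.k

theorem ek_cases (x : Dl (ZMod 3)) : x.A.det = 1 ∧ x.B.det = 1 ∧ s.ek x = 1 ∨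
    x.A.det = -1 ∧ x.B.det = -1 ∧ s.ek x = s.k :=
  (det_cases x).imp (fun h => ⟨h.1, h.2, if_pos h.1⟩) fun h => ⟨h.1, h.2, if_neg (by rw [h.1]; decide)⟩

theorem ek_mul (x y : Dl (ZMod 3)) : s.ek (x * y) = s.ek x * s.ek y := by
  rcases s.ek_cases x with ⟨h, -, e⟩ | ⟨h, -, e⟩ <;> rcases s.ek_cases y with ⟨h', -, e'⟩ | ⟨h', -, e'⟩ <;>
    rw [e, e', ek, Dl.mul_A, Matrix.det_mul, h, h']
  exacts [by simp, by rw [if_neg (by decide), one_mul], by rw [if_neg (by decide), mul_one],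
    by rw [if_pos (by decide), s.k_J.1]]

theorem ek_swap (x : Dl (ZMod 3)) : s.ek (Dl.swap x) = s.ek x := by
  rcases det_cases x with ⟨h, h'⟩ | ⟨h, h'⟩ <;> rw [ek, ek, Dl.swap_A, h, h']

theorem F1_ek (x : Dl (ZMod 3)) : s.F1 x * s.ek x ∈ s.F ∧ s.ek x * s.F1 x ∈ s.F := by
  have hd : dd.A.det = -1 := by decide +kernel
  rcases s.ek_cases x with ⟨h, -, e⟩ | ⟨h, -, e⟩ <;> rw [e]
  · rw [mul_one, one_mul]; exact ⟨s.F1_mem h, s.F1_mem h⟩
  · rw [← s.F1_k, ← map_mul, ← map_mul]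
    exact ⟨s.F1_mem (by rw [Dl.mul_A, Matrix.det_mul, h, hd]; decide),
      s.F1_mem (by rw [Dl.mul_A, Matrix.det_mul, h, hd]; decide)⟩

variable {s} {t : G}

theorem Sw.ek (h : s.Sw t) (x : Dl (ZMod 3)) : t * s.ek x * t⁻¹ = s.ek x := by
  rcases s.ek_cases x with ⟨-, -, e⟩ | ⟨-, -, e⟩ <;> rw [e]
  exacts [by group, by rw [h.tk]; group]

/-- The key commutation. -/
theorem Sw.key (h : s.Sw t) (comm : ∀ x ∈ s.F, ∀ y ∈ s.F, x * (t * y * t⁻¹) = t * y * t⁻¹ * x) (x y : Dl (ZMod 3)) :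
    s.ek x * (t * s.F1 (Dl.swap x) * t⁻¹) * (s.F1 y * s.ek y) =
      s.F1 y * s.ek y * (s.ek x * (t * s.F1 (Dl.swap x) * t⁻¹)) := by
  have h1 := comm _ (s.F1_ek y).1 _ (s.F1_ek (Dl.swap x)).2
  have h2 : t * (s.ek (Dl.swap x) * s.F1 (Dl.swap x)) * t⁻¹ = s.ek x * (t * s.F1 (Dl.swap x) * t⁻¹) := by
    rw [s.ek_swap]; conv_rhs => rw [← h.ek x]
    group
  rw [← h2, h1]

/-- The block diagonal part. -/
def Sw.κ (h : s.Sw t) (comm : ∀ x ∈ s.F, ∀ y ∈ s.F, x * (t * y * t⁻¹) = t * y * t⁻¹ * x) : Dl (ZMod 3) →* G :=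
  MonoidHom.mk' (fun x => s.F1 x * s.ek x * (t * s.F1 (Dl.swap x) * t⁻¹)) fun x y => by
    have h1 := h.key comm x y
    have h2 : s.ek y * s.ek x = s.ek x * s.ek y := by
      rcases s.ek_cases x with ⟨-, -, e⟩ | ⟨-, -, e⟩ <;> rcases s.ek_cases y with ⟨-, -, e'⟩ | ⟨-, -, e'⟩ <;>
        simp [e, e']
    rw [map_mul, map_mul, map_mul, s.ek_mul, ← h2]
    calc _ = s.F1 x * (s.F1 y * s.ek y * (s.ek x * (t * s.F1 (Dl.swap x) * t⁻¹))) * (t * s.F1 (Dl.swap y) * t⁻¹) := by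
          group
      _ = _ := by rw [← h1]; group

theorem Sw.psl {s : Lo G} {t : G} (h : s.Sw t) (comm : ∀ x ∈ s.F, ∀ y ∈ s.F, x * (t * y * t⁻¹) = t * y * t⁻¹ * x)
    (cov : centralizer {s.r} ≤ clos [s.u, s.n2, t, s.k]) : Nonempty (G ≃* PSL4) := by
  have hκ : ∀ x, h.κ comm x = s.F1 x * s.ek x * (t * s.F1 (Dl.swap x) * t⁻¹) := fun _ => rfl
  have hr : s.r * s.r = 1 ∧ s.r ≠ 1 := s.hL.decide s.rep (by decide +kernel)
  have ti : t⁻¹ = t := inv_eq_of_mul_eq_one_left h.t2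
  have hl : ∀ X, h.κ comm (Dl.inl X) = s.F1 (Dl.inl X) := fun X => by
    rw [hκ, show Dl.swap (Dl.inl X) = Dl.inr X from rfl, s.F1_inr, show s.ek (Dl.inl X) = 1 from if_pos X.2]; group
  have hw : ∀ x, t * h.κ comm x = h.κ comm (Dl.swap x) * t := fun x => by
    rw [hκ, hκ, Dl.swap_swap, s.ek_swap]
    have h3 : s.F1 (Dl.swap x) * s.ek x * (t * s.F1 x * t⁻¹) = t * s.F1 x * t⁻¹ * s.ek x * s.F1 (Dl.swap x) := by
      have h4 := comm _ (s.F1_ek (Dl.swap x)).1 _ (s.F1_ek x).1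
      have h5 : t * (s.F1 x * s.ek x) * t⁻¹ = t * s.F1 x * t⁻¹ * s.ek x := by
        conv_rhs => rw [← h.ek x]
        group
      rw [s.ek_swap, h5, ← mul_assoc, ← mul_assoc _ _ (s.ek x)] at h4
      exact mul_right_cancel h4
    rw [h3]
    calc _ = t * s.F1 x * t⁻¹ * (t * s.ek x * t⁻¹) * (t * t) * s.F1 (Dl.swap x) * t⁻¹ := by group
      _ = _ := by rw [h.ek, h.t2, mul_one, ti]
  have hm : h.κ comm (Dl.inl (-1)) = s.r := (hl _).trans s.F1_r
  have hm' : h.κ comm (Dl.inr (-1)) = s.r := mul_right_cancel (b := t) (by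
    rw [← h.tr, ← hm, hw]; rfl)
  have hA : ∀ x, h.κ comm x = 1 → x.A = 1 ∨ x.A = -1 := fun x hx => by
    have h1 : ∀ X : S2 (ZMod 3), x.A * X.1 = X.1 * x.A := fun X => by
      have h2 := h.key comm x (Dl.inl X)
      rw [hκ, mul_assoc] at hx
      rw [eq_inv_of_mul_eq_one_right hx, show s.ek (Dl.inl X) = 1 from if_pos X.2, mul_one] at h2
      exact blk_A (x := x * Dl.inl X) (y := Dl.inl X * x) (s.inj (show s.F1 _ = s.F1 _ by
        rw [map_mul, map_mul]; exact (Commute.inv_left_iff.1 h2).eq))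
    exact scal_of_comm _ (h1 (xu 1)) (h1 nn) x.detA_ne
  refine L4C.three ⟨h.κ comm, t, fun x => ⟨fun hx => ?_, ?_⟩, h.t2, hw, fun g => ⟨fun hg => ?_, ?_⟩⟩ s.no_index_two
  · have hB : x.B = 1 ∨ x.B = -1 := hA (Dl.swap x) (mul_right_cancel (b := t) (by rw [← hw, hx, mul_one, one_mul]))
    rcases hA x hx with e | e <;> rcases hB with e' | e'
    · exact ⟨1, by simp [e], by simp [e']⟩
    · exact absurd (hm'.symm.trans ((congrArg _ (Dl.ext e.symm e'.symm)).trans hx)) hr.2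
    · exact absurd (hm.symm.trans ((congrArg _ (Dl.ext e.symm e'.symm)).trans hx)) hr.2
    · exact ⟨-1, by simp [e], by simp [e']⟩
  · rintro ⟨l, e, e'⟩
    have h0 : l = 1 ∨ l = -1 := by
      have := x.detA_ne
      rw [e] at this; clear e e'; revert l; decide +kernel
    rcases h0 with rfl | rfl
    · rw [show x = 1 from Dl.ext (by simp [e, Dl.one_A]) (by simp [e', Dl.one_B]), map_one]
    · rw [show x = Dl.inl (-1) * Dl.inr (-1) from Dl.ext (by simp [e, Dl.mul_A, Dl.inl_A, Dl.inr_A])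
        (by simp [e', Dl.mul_B, Dl.inl_B, Dl.inr_B]), map_mul, hm, hm', hr.1]
  · let H : Subgroup G :=
      { carrier := {g | ∃ x, g = h.κ comm x ∨ g = h.κ comm x * t}
        one_mem' := ⟨1, .inl (map_one _).symm⟩
        mul_mem' := by
          rintro _ _ ⟨x, rfl | rfl⟩ ⟨y, rfl | rfl⟩
          · exact ⟨x * y, .inl (map_mul _ _ _).symm⟩
          · exact ⟨x * y, .inr (by rw [map_mul, mul_assoc])⟩
          · exact ⟨x * Dl.swap y, .inr (by rw [map_mul, mul_assoc, mul_assoc, hw])⟩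
          · exact ⟨x * Dl.swap y, .inl (by
              rw [map_mul, mul_assoc, ← mul_assoc t, hw, mul_assoc _ t, h.t2, mul_one])⟩
        inv_mem' := by
          rintro _ ⟨x, rfl | rfl⟩
          · exact ⟨x⁻¹, .inl (map_inv _ _).symm⟩
          · exact ⟨Dl.swap x⁻¹, .inr (by rw [mul_inv_rev, ti, ← map_inv, hw])⟩ }
    refine (cov.trans (clos_le.2 ?_) : _ ≤ H) (mem_cen.2 (hm ▸ hg.eq))
    simp only [List.forall_mem_cons, List.not_mem_nil, false_imp_iff, implies_true, and_true]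
    refine ⟨⟨_, .inl ((hl _).trans s.F1_u).symm⟩, ⟨_, .inl ((hl _).trans s.F1_n).symm⟩,
      ⟨1, .inr (by rw [map_one, one_mul])⟩, dd, .inl ?_⟩
    rw [hκ, show Dl.swap dd = dd from rfl, s.F1_k, show s.ek dd = s.k from if_neg (by decide +kernel), s.k_J.1, h.tk]; group
  · have h1 : ∀ x, Commute (h.κ comm x) (h.κ comm (Dl.inl (-1))) := fun x => Commute.map (Dl.ext
      (by simp [Dl.mul_A, Dl.inl_A]) (by simp [Dl.mul_B, Dl.inl_B])) _
    rintro ⟨x, rfl | rfl⟩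
    exacts [h1 x, (h1 x).mul_left (hm.symm ▸ h.tr)]

end Lo

end Cfsg.Agent.A43
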