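import Mathlib
import Cfsg.Agent.A43.Base2
import Cfsg.Agent.F4T.LocC1

/-!
An involution interchanging `u` and `z`.
-/

set_option autoImplicit false
set_option maxRecDepth 100000
set_option linter.unusedSectionVars false
set_option synthInstance.maxSize 100000
set_option synthInstance.maxHeartbeats 1000000

namespace Cfsg.Agent.A43

open Cfsg.Agent.Spor Cfsg.Agent.Rec Cfsg.Agent.Inv.Fz Cfsg.Agent.T16 Cfsg.Agent.T3 Cfsg.Agent.T3.LB Subgroup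
open Cfsg.Agent.F4L (Cv jv lin4 Acts Bs4 jv_1 jv_2 jv_3 jv_4)

universe u

variable {G : Type u} [Group G] [Finite G]

namespace Lo

variable (s : Lo G)

theorem sw_inv : ∀ c ∈ s.C, c * c = 1 → c ≠ 1 → ∃ q ∈ s.Q, q * s.r * q⁻¹ = c :=
  s.hL.decide s.rep (by decide +kernel)

theorem sw_syl : ∀ x ∈ s.C, x * s.r = s.r * x → x ^ 3 = 1 → ∃ y ∈ s.F, y * x * y⁻¹ ∈ s.B :=
  s.hL.decide s.rep (by decide +kernel)

theorem sw_F : ∀ y ∈ s.F, y * s.r = s.r * y := s.hL.decide s.rep (by decide +kernel)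

theorem sw_cu : ∀ c ∈ s.C, c * s.u = s.u * c → c ^ 3 = 1 → c ∈ s.J := s.hL.decide s.rep (by decide +kernel)

theorem sw_B : ∀ x ∈ s.B, (x ∈ s.E1 ∨ ∃ m ∈ s.W, m * x * m⁻¹ = s.u) →
    x = 1 ∨ x = s.z ∨ x = s.z⁻¹ ∨ x = s.u ∨ x = s.u⁻¹ := s.hL.decide s.rep (by decide +kernel)

theorem sw_Jr : ∀ x ∈ s.J, s.r * x * s.r⁻¹ = x⁻¹ → (x ∈ s.E1 ∨ ∃ m ∈ s.W, m * x * m⁻¹ = s.u) →
    x = 1 ∨ x = s.x24 ∨ x = s.x24⁻¹ ∨ x = s.x13 ∨ x = s.x13⁻¹ := s.hL.decide s.rep (by decide +kernel)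

theorem sw_bad : ∀ x ∈ s.J, (x = s.x24 * s.u * s.z * s.x13⁻¹ ∨ x = s.x24⁻¹ * s.u * s.z * s.x13 ∨
    x = s.x24 * s.u * s.z⁻¹ * s.x13 ∨ x = s.x24⁻¹ * s.u * s.z⁻¹ * s.x13⁻¹) →
    ¬ (x ∈ s.E1 ∨ ∃ m ∈ s.W, m * x * m⁻¹ = s.u) := s.hL.decide s.rep (by decide +kernel)

theorem sw_good : ∃ m ∈ s.W, m * s.u * m⁻¹ = s.x13 * s.z * s.u * s.x24 := s.hL.decide s.rep (by decide +kernel)

theorem sw_no1 : ∀ c ∈ s.C, c * s.x24 * c⁻¹ = s.x24 → c * s.x13 * c⁻¹ ≠ s.x13⁻¹ :=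
  s.hL.decide s.rep (by decide +kernel)

theorem sw_no2 : ∀ c ∈ s.C, c * s.x13 * c⁻¹ = s.x13 → c * s.x24 * c⁻¹ ≠ s.x24⁻¹ :=
  s.hL.decide s.rep (by decide +kernel)

theorem sw_rel : s.r * s.r = 1 ∧ s.r ≠ 1 ∧ s.r * s.u = s.u * s.r ∧ s.r * s.z = s.z * s.r ∧ s.r * s.k = s.k * s.r ∧
    s.r * s.x13 * s.r⁻¹ = s.x13⁻¹ ∧ s.r * s.x24 * s.r⁻¹ = s.x24⁻¹ ∧ s.u ∉ s.A ∧ s.x24 ∈ s.A ∧ s.x24 ≠ 1 ∧ s.x13 ≠ 1 ∧
    s.u ≠ s.z ∧ s.u⁻¹ ≠ s.z ∧ s.x13 ≠ s.x24 ∧ s.x13 ≠ s.x24⁻¹ ∧ s.n1 * s.u * s.n1⁻¹ = s.x13 ∧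
    s.n1⁻¹ * s.z * s.n1⁻¹⁻¹ = s.x24 := s.hL.decide s.rep (by decide +kernel)

theorem sw_n1 : s.n1 * s.x13 * s.n1⁻¹ = s.x13 ^ 0 * s.z ^ 0 * s.u ^ 2 * s.x24 ^ 0 ∧
    s.n1 * s.z * s.n1⁻¹ = s.x13 ^ 0 * s.z ^ 0 * s.u ^ 0 * s.x24 ^ 2 ∧
    s.n1 * s.u * s.n1⁻¹ = s.x13 ^ 1 * s.z ^ 0 * s.u ^ 0 * s.x24 ^ 0 ∧
    s.n1 * s.x24 * s.n1⁻¹ = s.x13 ^ 0 * s.z ^ 1 * s.u ^ 0 * s.x24 ^ 0 := s.hL.decide s.rep (by decide +kernel)

theorem sw_x34 : s.x34 * s.x13 * s.x34⁻¹ = s.x13 ^ 1 * s.z ^ 2 * s.u ^ 0 * s.x24 ^ 0 ∧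
    s.x34 * s.z * s.x34⁻¹ = s.x13 ^ 0 * s.z ^ 1 * s.u ^ 0 * s.x24 ^ 0 ∧
    s.x34 * s.u * s.x34⁻¹ = s.x13 ^ 0 * s.z ^ 0 * s.u ^ 1 * s.x24 ^ 2 ∧
    s.x34 * s.x24 * s.x34⁻¹ = s.x13 ^ 0 * s.z ^ 0 * s.u ^ 0 * s.x24 ^ 1 := s.hL.decide s.rep (by decide +kernel)

theorem sw_bs : Bs4 s.x13 s.z s.u s.x24 :=
  have m := s.mem_J
  ⟨s.J_comm _ m.1 _ m.2.1, s.J_comm _ m.1 _ m.2.2.1, s.J_comm _ m.1 _ m.2.2.2, s.J_comm _ m.2.1 _ m.2.2.1,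
    s.J_comm _ m.2.1 _ m.2.2.2, s.J_comm _ m.2.2.1 _ m.2.2.2, s.J_exp _ m.1, s.J_exp _ m.2.1, s.J_exp _ m.2.2.1,
    s.J_exp _ m.2.2.2, s.gJ.2⟩

theorem sw_an1 : Acts s.x13 s.z s.u s.x24 s.n1 (lin4 (0, 0, 2, 0) (0, 0, 0, 2) (1, 0, 0, 0) (0, 1, 0, 0)) :=
  s.sw_bs.acts s.sw_n1.1 s.sw_n1.2.1 s.sw_n1.2.2.1 s.sw_n1.2.2.2

theorem sw_ax34 : Acts s.x13 s.z s.u s.x24 s.x34 (lin4 (1, 2, 0, 0) (0, 1, 0, 0) (0, 0, 1, 2) (0, 0, 0, 1)) :=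
  s.sw_bs.acts s.sw_x34.1 s.sw_x34.2.1 s.sw_x34.2.2.1 s.sw_x34.2.2.2

theorem sw_m1 : jv s.x13 s.z s.u s.x24 (2, 0, 0, 0) = s.x13⁻¹ := by
  rw [show ((2, 0, 0, 0) : Cv) = -(1, 0, 0, 0) by decide, s.sw_bs.neg, jv_1]

theorem sw_m2 : jv s.x13 s.z s.u s.x24 (0, 2, 0, 0) = s.z⁻¹ := by
  rw [show ((0, 2, 0, 0) : Cv) = -(0, 1, 0, 0) by decide, s.sw_bs.neg, jv_2]

theorem sw_m4 : jv s.x13 s.z s.u s.x24 (0, 0, 0, 2) = s.x24⁻¹ := by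
  rw [show ((0, 0, 0, 2) : Cv) = -(0, 0, 0, 1) by decide, s.sw_bs.neg, jv_4]

theorem sw_case1 {g : G} (h1 : g * s.x13 * g⁻¹ = s.x24) (h2 : g * s.z * g⁻¹ = s.u) (h3 : g * s.u * g⁻¹ = s.z⁻¹)
    (h4 : g * s.x24 * g⁻¹ = s.x13⁻¹) : False := by
  have a0 := (s.sw_bs.acts (h1.trans jv_4.symm) (h2.trans jv_3.symm) (h3.trans s.sw_m2.symm)
    (h4.trans s.sw_m1.symm)).mul s.sw_an1
  have ai := a0.inv (f' := lin4 (0, 1, 0, 0) (1, 0, 0, 0) (0, 0, 0, 1) (0, 0, 1, 0)) (by decide +kernel)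
  have ti := s.sw_ax34.inv (f' := lin4 (1, 1, 0, 0) (0, 1, 0, 0) (0, 0, 1, 1) (0, 0, 0, 1)) (by decide +kernel)
  have w := a0.mul (s.sw_ax34.mul (a0.mul (ti.mul (ai.mul s.sw_ax34))))
  have e1 := (w (1, 0, 0, 0)).trans (congrArg _ (show _ = (2, 0, 0, 0) by decide +kernel))
  have e2 := (w (0, 1, 0, 0)).trans (congrArg _ (show _ = (0, 1, 0, 0) by decide +kernel))
  have e4 := (w (0, 0, 0, 1)).trans (congrArg _ (show _ = (0, 0, 0, 1) by decide +kernel))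
  rw [jv_1, s.sw_m1] at e1
  rw [jv_2] at e2
  rw [jv_4] at e4
  exact s.sw_no1 _ (s.mem_C'.2 e2) e4 e1

theorem sw_case2 {g : G} (h1 : g * s.x13 * g⁻¹ = s.x24⁻¹) (h2 : g * s.z * g⁻¹ = s.u) (h3 : g * s.u * g⁻¹ = s.z⁻¹)
    (h4 : g * s.x24 * g⁻¹ = s.x13) : False := by
  have a0 := (s.sw_bs.acts (h1.trans s.sw_m4.symm) (h2.trans jv_3.symm) (h3.trans s.sw_m2.symm)
    (h4.trans jv_1.symm)).mul s.sw_an1
  have ai := a0.inv (f' := lin4 (0, 2, 0, 0) (1, 0, 0, 0) (0, 0, 0, 1) (0, 0, 2, 0)) (by decide +kernel)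
  have w := a0.mul (s.sw_ax34.mul (a0.mul (s.sw_ax34.mul (ai.mul s.sw_ax34))))
  have e1 := (w (1, 0, 0, 0)).trans (congrArg _ (show _ = (1, 0, 0, 0) by decide +kernel))
  have e2 := (w (0, 1, 0, 0)).trans (congrArg _ (show _ = (0, 1, 0, 0) by decide +kernel))
  have e4 := (w (0, 0, 0, 1)).trans (congrArg _ (show _ = (0, 0, 0, 2) by decide +kernel))
  rw [jv_1] at e1
  rw [jv_2] at e2
  rw [jv_4, s.sw_m4] at e4
  exact s.sw_no2 _ (s.mem_C'.2 e2) e1 e4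

theorem sw_zeJ {x : G} (hx : x ∈ s.J) (h : ZE s.z x) : x ∈ s.E1 ∨ ∃ m ∈ s.W, m * x * m⁻¹ = s.u := by
  by_cases h1 : x = 1
  · exact .inl (h1 ▸ one_mem _)
  rcases s.clsJ x hx h1 with e | ⟨m, hm, e | e | e⟩
  · exact .inl e
  · exact .inr ⟨m, hm, e⟩
  · exact absurd (e ▸ ze_cj h m) s.nze.1
  · exact absurd (e ▸ ze_cj h m) s.nze.2

/-- An element of `C(r)` sending `z` to `u` and `u` to `z^±`. -/
theorem sw_s0 (h : ZE s.z s.u) : ∃ g, g * s.r * g⁻¹ = s.r ∧ g * s.z * g⁻¹ = s.u ∧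
    (g * s.u * g⁻¹ = s.z ∨ g * s.u * g⁻¹ = s.z⁻¹) := by
  obtain ⟨rr, r1, ru, rz, -, -, -, -, -, -, -, uz, uz', -⟩ := s.sw_rel
  obtain ⟨g, hg⟩ := s.conj_of_ze h
  obtain ⟨q, hq, e⟩ := s.sw_inv (g⁻¹ * s.r * g) (s.mem_C.2 (by
      calc _ = g⁻¹ * (s.r * (g * s.z * g⁻¹)) * g := by group
        _ = g⁻¹ * (g * s.z * g⁻¹ * s.r) * g := by rw [hg, ru]
        _ = _ := by group))
    (by calc _ = g⁻¹ * (s.r * s.r) * g := by group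
          _ = _ := by rw [rr]; group)
    (fun e => r1 (by
      calc s.r = g * (g⁻¹ * s.r * g) * g⁻¹ := by group
        _ = 1 := by rw [e]; group))
  have hqz : q * s.z * q⁻¹ = s.z := s.mem_C'.1 (s.les.1 (s.les.2.1 hq))
  obtain ⟨a, ar, az⟩ : ∃ a, a * s.r * a⁻¹ = s.r ∧ a * s.z * a⁻¹ = s.u := ⟨g * q, by
      calc _ = g * (q * s.r * q⁻¹) * g⁻¹ := by group
        _ = _ := by rw [e]; group, by
      calc _ = g * (q * s.z * q⁻¹) * g⁻¹ := by group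
        _ = _ := by rw [hqz, hg]⟩
  have uzc : s.z * s.u = s.u * s.z := s.J_comm _ s.mem_J.2.1 _ s.mem_J.2.2.1
  obtain ⟨y, hy, hB⟩ := s.sw_syl (a⁻¹ * s.z * a) (s.mem_C.2 (by
      calc _ = a⁻¹ * (s.z * (a * s.z * a⁻¹)) * a := by group
        _ = a⁻¹ * (a * s.z * a⁻¹ * s.z) * a := by rw [az, uzc]
        _ = _ := by group))
    (by calc _ = a⁻¹ * (s.z * (a * s.r * a⁻¹)) * a := by group
          _ = a⁻¹ * (a * s.r * a⁻¹ * s.z) * a := by rw [ar, rz]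
          _ = _ := by group)
    (by calc _ = a⁻¹ * s.z ^ 3 * a := by rw [pow_three, pow_three]; group
          _ = _ := by rw [s.J_exp _ s.mem_J.2.1]; group)
  have yz : y⁻¹ * s.z * y⁻¹⁻¹ = s.z := s.mem_C'.1 (inv_mem (s.les.2.2.2.2.2.2.2.2.2.1 hy))
  have yr : y⁻¹ * s.r = s.r * y⁻¹ := s.sw_F _ (inv_mem hy)
  have gz : a * y⁻¹ * s.z * (a * y⁻¹)⁻¹ = s.u := by
    calc _ = a * (y⁻¹ * s.z * y⁻¹⁻¹) * a⁻¹ := by group
      _ = _ := by rw [yz, az]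
  have gx : a * y⁻¹ * (y * (a⁻¹ * s.z * a) * y⁻¹) * (a * y⁻¹)⁻¹ = s.z := by group
  refine ⟨a * y⁻¹, ?_, gz, ?_⟩
  · calc _ = a * (y⁻¹ * s.r) * y * a⁻¹ := by group
      _ = a * s.r * a⁻¹ := by rw [yr]; group
      _ = _ := ar
  have hz : ZE s.z (y * (a⁻¹ * s.z * a) * y⁻¹) := by
    have := ze_cj (ze_refl s.z) (y * a⁻¹)
    rwa [show y * a⁻¹ * s.z * (y * a⁻¹)⁻¹ = y * (a⁻¹ * s.z * a) * y⁻¹ by group] at this
  rcases s.sw_B _ hB (s.sw_zeJ (s.les.2.2.2.2.2.1 hB) hz) with e | e | e | e | e <;> rw [e] at gx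
  · exact absurd (by simpa using gx.symm) s.z_ne
  · exact absurd (gz.symm.trans gx) uz
  · rw [← conj_inv, gz] at gx
    exact absurd gx uz'
  · exact .inl gx
  · rw [← conj_inv] at gx
    exact .inr (inv_eq_iff_eq_inv.1 gx)

theorem exists_sw (h : ZE s.z s.u) : ∃ t, s.Sw t := by
  obtain ⟨-, -, -, -, rk, r13, r24, uA, a24, n24, n13, -, -, d1, d2, c13, c24⟩ := s.sw_rel
  obtain ⟨g, gr, gz, gu⟩ := s.sw_s0 h
  have m := s.mem_J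
  have hJ : ∀ j ∈ s.J, g * j * g⁻¹ ∈ s.J := fun j hj => by
    have c1 : Commute (g * j * g⁻¹) (g * s.u * g⁻¹) := (show Commute j s.u from s.J_comm _ hj _ m.2.2.1).conj g
    have c2 : Commute (g * j * g⁻¹) (g * s.z * g⁻¹) := (show Commute j s.z from s.J_comm _ hj _ m.2.1).conj g
    refine s.sw_cu _ (s.mem_C.2 ?_) (gz ▸ c2) (by rw [conj_pow, s.J_exp _ hj]; group)
    rcases gu with e | e <;> rw [e] at c1
    · exact c1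
    · exact Commute.inv_right_iff.1 c1
  have hN : g ∈ normalizer (s.J : Set G) := mem_normalizer_of_conj_mem hJ
  have hinv : ∀ x, s.r * x * s.r⁻¹ = x⁻¹ → s.r * (g * x * g⁻¹) * s.r⁻¹ = (g * x * g⁻¹)⁻¹ := fun x hx => by
    calc _ = g * s.r * g⁻¹ * (g * x * g⁻¹) * (g * s.r * g⁻¹)⁻¹ := by rw [gr]
      _ = g * (s.r * x * s.r⁻¹) * g⁻¹ := by group
      _ = _ := by rw [hx]; group
  have z13 : ZE s.z s.x13 := c13 ▸ ze_cj h s.n1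
  have z24 : ZE s.z s.x24 := c24 ▸ ze_cj (ze_refl s.z) s.n1⁻¹
  have h24 : g * s.x24 * g⁻¹ = s.x13 ∨ g * s.x24 * g⁻¹ = s.x13⁻¹ := by
    have nA : g * s.x24 * g⁻¹ ∉ s.A := fun e =>
      uA (gz ▸ conj_mem_of_mem_norm (s.M_le_N (s.memM a24 n24 e)) s.z_A)
    rcases s.sw_Jr _ (hJ _ m.2.2.2) (hinv _ r24) (s.sw_zeJ (hJ _ m.2.2.2) (ze_cj z24 g)) with e | e | e | e | e
    · exact absurd (e ▸ one_mem _) nA
    · exact absurd (e.symm ▸ a24) nA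
    · exact absurd (e.symm ▸ inv_mem a24) nA
    · exact .inl e
    · exact .inr e
  have h13 : g * s.x13 * g⁻¹ = s.x24 ∨ g * s.x13 * g⁻¹ = s.x24⁻¹ := by
    have k1 : g * s.x13 * g⁻¹ ≠ g * s.x24 * g⁻¹ := fun e => d1 (mul_left_cancel (mul_right_cancel e))
    have k2 : g * s.x13 * g⁻¹ ≠ (g * s.x24 * g⁻¹)⁻¹ := fun e =>
      d2 (mul_left_cancel (mul_right_cancel (e.trans conj_inv)))
    rcases s.sw_Jr _ (hJ _ m.1) (hinv _ r13) (s.sw_zeJ (hJ _ m.1) (ze_cj z13 g)) with e | e | e | e | e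
    · exact absurd (conj_eq_one.1 e) n13
    · exact .inl e
    · exact .inr e
    · rcases h24 with e' | e' <;> rw [e'] at k1 k2
      · exact absurd e k1
      · exact absurd (e.trans (inv_inv _).symm) k2
    · rcases h24 with e' | e' <;> rw [e'] at k1 k2
      · exact absurd e k2
      · exact absurd e k1
  have hb : ∀ {a b c : G}, g * s.x13 * g⁻¹ = a → g * s.u * g⁻¹ = b → g * s.x24 * g⁻¹ = c →
      ¬ (a * s.u * b * c = s.x24 * s.u * s.z * s.x13⁻¹ ∨ a * s.u * b * c = s.x24⁻¹ * s.u * s.z * s.x13 ∨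
        a * s.u * b * c = s.x24 * s.u * s.z⁻¹ * s.x13 ∨ a * s.u * b * c = s.x24⁻¹ * s.u * s.z⁻¹ * s.x13⁻¹) := by
    rintro _ _ _ rfl rfl rfl e
    obtain ⟨w, -, hw⟩ := s.sw_good
    have hm : s.x13 * s.z * s.u * s.x24 ∈ s.J := mul_mem (mul_mem (mul_mem m.1 m.2.1) m.2.2.1) m.2.2.2
    have e1 : g * (s.x13 * s.z * s.u * s.x24) * g⁻¹ =
        g * s.x13 * g⁻¹ * s.u * (g * s.u * g⁻¹) * (g * s.x24 * g⁻¹) := by
      conv_rhs => enter [1, 1, 2]; rw [← gz]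
      group
    exact s.sw_bad _ (e1 ▸ hJ _ hm) e (s.sw_zeJ (e1 ▸ hJ _ hm) (e1 ▸ ze_cj (hw ▸ ze_cj h w) g))
  have key : g * s.u * g⁻¹ = s.z ∧ g * g * s.x13 * (g * g)⁻¹ = s.x13 ∧ g * g * s.x24 * (g * g)⁻¹ = s.x24 := by
    have sq : ∀ x, g * g * x * (g * g)⁻¹ = g * (g * x * g⁻¹) * g⁻¹ := fun x => by group
    rw [sq, sq]
    rcases gu with eu | eu <;> rcases h13 with e1 | e1 <;> rcases h24 with e2 | e2
    · exact ⟨eu, by rw [e1, e2], by rw [e2, e1]⟩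
    · exact absurd (.inl rfl) (hb e1 eu e2)
    · exact absurd (.inr (.inl rfl)) (hb e1 eu e2)
    · exact ⟨eu, by rw [e1, ← conj_inv, e2, inv_inv], by rw [e2, ← conj_inv, e1, inv_inv]⟩
    · exact absurd (.inr (.inr (.inl rfl))) (hb e1 eu e2)
    · exact (s.sw_case1 e1 gz eu e2).elim
    · exact (s.sw_case2 e1 gz eu e2).elim
    · exact absurd (.inr (.inr (.inr rfl))) (hb e1 eu e2)
  obtain ⟨eu, q13, q24⟩ := key
  have hgg : g * g ∈ s.J := by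
    have qz : g * g * s.z * (g * g)⁻¹ = s.z := by
      calc _ = g * (g * s.z * g⁻¹) * g⁻¹ := by group
        _ = _ := by rw [gz, eu]
    have qu : g * g * s.u * (g * g)⁻¹ = s.u := by
      calc _ = g * (g * s.u * g⁻¹) * g⁻¹ := by group
        _ = _ := by rw [eu, gz]
    refine s.cen_J fun x hx => ?_
    have : s.J ≤ centralizer {g * g} := clos_le.2 (by
      simp only [List.forall_mem_cons, List.not_mem_nil, false_imp_iff, implies_true, and_true]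
      exact ⟨mem_cen.2 (mul_inv_eq_iff_eq_mul.1 q13).symm, mem_cen.2 (mul_inv_eq_iff_eq_mul.1 qz).symm,
        mem_cen.2 (mul_inv_eq_iff_eq_mul.1 qu).symm, mem_cen.2 (mul_inv_eq_iff_eq_mul.1 q24).symm⟩)
    exact mem_cen.1 (this hx)
  obtain ⟨kk, kJ⟩ := s.k_J
  have ki : s.k⁻¹ = s.k := inv_eq_of_mul_eq_one_right kk
  obtain ⟨b, hb⟩ : ∃ b, b = g * s.k * g⁻¹ * s.k⁻¹ := ⟨_, rfl⟩
  have bJ : b ∈ s.J := s.cen_J fun x hx => by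
    have h1 := kJ _ (conj_mem_of_mem_norm (inv_mem hN) (inv_mem hx))
    have h2 : s.k⁻¹ * x * s.k = x⁻¹ := by
      have := kJ x hx
      rwa [ki] at this ⊢
    symm
    rw [← mul_inv_eq_iff_eq_mul]
    calc _ = g * (s.k * (g⁻¹ * (s.k⁻¹ * x * s.k) * g⁻¹⁻¹) * s.k⁻¹) * g⁻¹ := by rw [hb]; group
      _ = _ := by rw [h2, h1]; group
  have tk : b * g * s.k = s.k * (b * g) := by
    have h1 : g * s.k * g⁻¹ = b * s.k := by rw [hb]; group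
    have h2 := kJ _ (inv_mem bJ)
    have h3 := s.J_exp _ bJ
    rw [← mul_inv_eq_iff_eq_mul]
    calc _ = b * (g * s.k * g⁻¹) * b⁻¹ := by group
      _ = b * b * (s.k * b⁻¹ * s.k⁻¹) * s.k := by rw [h1]; group
      _ = b ^ 3 * s.k := by rw [h2, pow_three]; group
      _ = _ := by rw [h3, one_mul]
  have tJ : b * g * (b * g) ∈ s.J := by
    rw [show b * g * (b * g) = b * (g * b * g⁻¹) * (g * g) by group]
    exact mul_mem (mul_mem bJ (hJ _ bJ)) hgg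
  refine ⟨b * g, ?_, ?_, tk, ?_⟩
  · have h1 := kJ _ tJ
    have h2 := s.J_exp _ tJ
    have h3 : s.k * (b * g * (b * g)) * s.k⁻¹ = b * g * (b * g) :=
      mul_inv_eq_iff_eq_mul.2 ((show Commute (b * g) s.k from tk).mul_left tk).symm
    rw [h3, eq_inv_iff_mul_eq_one] at h1
    rwa [pow_three, h1, mul_one] at h2
  · have c1 : Commute g s.r := mul_inv_eq_iff_eq_mul.1 gr
    have c2 : Commute s.k s.r := rk.symm
    rw [hb]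
    exact (((c1.mul_left c2).mul_left c1.inv_left).mul_left c2.inv_left).mul_left c1
  · calc _ = b * (g * s.u * g⁻¹) * b⁻¹ := by group
      _ = _ := by rw [eu, s.J_comm _ bJ _ m.2.1]; group

end Lo

end Cfsg.Agent.A43
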